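/-
The interface of the classification of groups generated by a class of 3-transpositions: the kinds of groups, the
passage to the local group at one transposition, and the statement of each step of the induction.
-/
import Cfsg.Prelude.Def_FischerSpaces
import Cfsg.Prelude.Def_Local
import Cfsg.Agent.Lib.ThreeTrans.Classes

set_option autoImplicit false

namespace CfsgFischer

open Cfsg CfsgThreeTrans

universe u

variable {G : Type u} [Group G]

/-- The group generated by a set, modulo its centre. -/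
abbrev QG (S : Set G) : Type u := ↥(Subgroup.closure S) ⧸ Subgroup.center ↥(Subgroup.closure S)

/-- The image of a set in the group it generates modulo the centre. -/
abbrev QD (S : Set G) : Set (QG S) :=
  (QuotientGroup.mk : ↥(Subgroup.closure S) → _) '' {x : ↥(Subgroup.closure S) | (x : G) ∈ S}

/-- The common partners of two members. -/
abbrev Pair (D : Set G) (d c : G) : Set G := Ds D d ∩ Ds D c

/-- A class of 3-transpositions of width at least two in a centreless group with trivial cores. -/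
structure Good (D : Set G) : Prop where
  cls : IsThreeTranspositionClass D
  center : Subgroup.center G = ⊥
  two : pCore 2 G = ⊥
  three : pCore 3 G = ⊥
  pair : ∃ a ∈ D, ∃ b ∈ D, a ≠ b ∧ Commute a b

/-- A good class on which the group is primitive (equivalently, with connected commuting graph). -/
structure Prim (D : Set G) : Prop extends Good D where
  prim : IsPrimitiveUnderConj D

/-- The cores of the group of the partners of `d` are central. -/
def CoresCentral (D : Set G) (d : G) : Prop :=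
  pCore 3 ↥(Subgroup.closure (Ds D d)) ≤ Subgroup.center ↥(Subgroup.closure (Ds D d)) ∧
    pCore 2 ↥(Subgroup.closure (Ds D d)) ≤ Subgroup.center ↥(Subgroup.closure (Ds D d))

/-- The kinds of groups. `symp m` has dimension `2 m`; `orth plus m` has dimension `2 m`; `refl n μ c` is the
projective group of the reflections of norm `c` in dimension `n` and discriminant `μ` over three elements. -/
inductive Kind
  | sym (n : ℕ)
  | symp (m : ℕ)
  | unit (n : ℕ)
  | orth (plus : Bool) (m : ℕ)
  | refl (n : ℕ) (μ c : ZMod 3)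
  | m22
  | m23
  | m24

/-- The class is carried to the transpositions. -/
def IsSymClass (G : Type u) [Group G] (D : Set G) (n : ℕ) : Prop :=
  ∃ e : G ≃* Equiv.Perm (Fin n), e '' D = {σ : Equiv.Perm (Fin n) | σ.IsSwap}

/-- The class is carried to the symplectic transvections over two elements. -/
def IsSympClass (G : Type u) [Group G] (D : Set G) (m : ℕ) : Prop :=
  ∃ e : G ≃* Matrix.symplecticGroup (Fin m) (ZMod 2), e '' D = {g : Matrix.symplecticGroup (Fin m) (ZMod 2) |
    ((g : Matrix (Fin m ⊕ Fin m) (Fin m ⊕ Fin m) (ZMod 2)) - 1).rank = 1}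

/-- The class is carried to the unitary transvections over four elements. -/
def IsUnitClass (G : Type u) [Group G] (D : Set G) (n : ℕ) : Prop :=
  ∃ (F : Type) (_ : Field F) (_ : Fintype F), Fintype.card F = 4 ∧ ∃ e : G ≃* Cfsg.PSU n F 2,
    e '' D = (QuotientGroup.mk : ↥(Cfsg.SU n F 2) → Cfsg.PSU n F 2) ''
      {g : ↥(Cfsg.SU n F 2) | (((g : Matrix.SpecialLinearGroup (Fin n) F) : Matrix (Fin n) (Fin n) F) - 1).rank = 1}

/-- The class is carried to the transvections of a hyperbolic form over two elements. -/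
def IsPlusClass (G : Type u) [Group G] (D : Set G) (m : ℕ) : Prop :=
  ∃ e : G ≃* ↥(Cfsg.isometryGroup (ZMod 2) (Cfsg.quadFormPlus m (ZMod 2))),
    e '' D = {g : ↥(Cfsg.isometryGroup (ZMod 2) (Cfsg.quadFormPlus m (ZMod 2))) |
      (((g : GL (Fin m ⊕ Fin m) (ZMod 2)) : Matrix (Fin m ⊕ Fin m) (Fin m ⊕ Fin m) (ZMod 2)) - 1).rank = 1}

/-- The class is carried to the transvections of an elliptic form over two elements, of Witt index `m`. -/
def IsMinusClass (G : Type u) [Group G] (D : Set G) (m : ℕ) : Prop :=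
  ∃ e : G ≃* ↥(Cfsg.isometryGroup (ZMod 2) (Cfsg.quadFormMinus m (ZMod 2) 1 1)),
    e '' D = {g : ↥(Cfsg.isometryGroup (ZMod 2) (Cfsg.quadFormMinus m (ZMod 2) 1 1)) |
      (((g : GL ((Fin m ⊕ Fin m) ⊕ Fin 2) (ZMod 2)) : Matrix ((Fin m ⊕ Fin m) ⊕ Fin 2) ((Fin m ⊕ Fin m) ⊕ Fin 2)
        (ZMod 2)) - 1).rank = 1}

/-- The class is carried to the images of the reflections of norm `c` in dimension `n`, discriminant `μ`. -/
def IsReflClass (G : Type u) [Group G] (D : Set G) (n : ℕ) (μ c : ZMod 3) : Prop :=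
  ∃ Q : QuadraticForm (ZMod 3) (Fin n → ZMod 3), (QuadraticMap.polarBilin Q).Nondegenerate ∧
    Cfsg.polarGramDet (⇑Q) = μ ∧ c ≠ 0 ∧
    ∃ e : G ≃* ↥(Cfsg.reflectionSubgroup (⇑Q) c) ⧸ Subgroup.center ↥(Cfsg.reflectionSubgroup (⇑Q) c),
      e '' D = (QuotientGroup.mk : ↥(Cfsg.reflectionSubgroup (⇑Q) c) → _) '' {g : ↥(Cfsg.reflectionSubgroup (⇑Q) c) |
        (g : ↥(Cfsg.isometryGroup (ZMod 3) (⇑Q))) ∈ Cfsg.reflectionsOfNorm (⇑Q) c}

/-- The group with its class has the given kind. Overlaps are resolved so that `sym 6`, `orth` in dimension at most six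
never occur. The Mathieu-type kinds also record the class of the common partners of two noncommuting members. -/
def Has (G : Type u) [Group G] (D : Set G) : Kind → Prop
  | .sym n => 5 ≤ n ∧ n ≠ 6 ∧ IsSymClass G D n
  | .symp m => 2 ≤ m ∧ IsSympClass G D m
  | .unit n => 4 ≤ n ∧ IsUnitClass G D n
  | .orth true m => 4 ≤ m ∧ IsPlusClass G D m
  | .orth false m => 4 ≤ m ∧ IsMinusClass G D (m - 1)
  | .refl n μ c => 5 ≤ n ∧ IsReflClass G D n μ c
  | .m22 => Cfsg.IsOfTypeM22 G D ∧ ∀ d ∈ D, ∀ c ∈ D, ¬ Commute d c →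
      ∃ c₃ : ZMod 3, c₃ ≠ 0 ∧ IsReflClass (QG (Pair D d c)) (QD (Pair D d c)) 6 1 c₃
  | .m23 => Cfsg.IsOfTypeM23 G D ∧ ∀ d ∈ D, ∀ c ∈ D, ¬ Commute d c →
      ∃ c₃ : ZMod 3, c₃ ≠ 0 ∧ IsReflClass (QG (Pair D d c)) (QD (Pair D d c)) 7 (-c₃) c₃
  | .m24 => Cfsg.IsOfTypeM24 G D

/-- The possible kinds of a group whose local group has the first kind. -/
def Next : Kind → Kind → Prop
  | .sym n, k => k = .sym (n + 2)
  | .symp m, k => (m = 2 ∧ (k = .sym 8 ∨ ∃ c : ZMod 3, c ≠ 0 ∧ k = .refl 5 c c)) ∨
      (3 ≤ m ∧ ∃ b : Bool, k = .orth b (m + 1))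
  | .unit n, k => (n = 4 ∧ ∃ c : ZMod 3, c ≠ 0 ∧ k = .refl 6 1 c) ∨ (n = 6 ∧ k = .m22)
  | .orth _ _, _ => False
  | .refl n μ c, k => k = .refl (n + 1) (-μ * c) c
  | .m22, k => k = .m23
  | .m23, k => k = .m24
  | .m24, _ => False

/-- A step of the induction: the kind of the local group determines the kind of the group. -/
def Step (k : Kind) : Prop :=
  ∀ (G : Type u) [Group G] [Finite G] (D : Set G), Prim D → ∀ d ∈ D, CoresCentral D d →
    Has (QG (Ds D d)) (QD (Ds D d)) k → ∃ k' : Kind, Next k k' ∧ Has G D k'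

/-- The local class is again primitive with trivial cores, and smaller. -/
def LocalGood : Prop :=
  ∀ (G : Type u) [Group G] [Finite G] (D : Set G), Prim D → ∀ d ∈ D, CoresCentral D d →
    Prim (QD (Ds D d)) ∧ (QD (Ds D d)).ncard < D.ncard

/-- The base of the induction with a non-central 2-core. -/
def BaseTwo : Prop :=
  ∀ (G : Type u) [Group G] [Finite G] (D : Set G), Prim D → ∀ d ∈ D,
    ¬ pCore 2 ↥(Subgroup.closure (Ds D d)) ≤ Subgroup.center ↥(Subgroup.closure (Ds D d)) →
    (∃ m, Has G D (.symp m)) ∨ ∃ n, Has G D (.unit n)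

/-- The base of the induction with a non-central 3-core. -/
def BaseThree : Prop :=
  ∀ (G : Type u) [Group G] [Finite G] (D : Set G), Prim D → ∀ d ∈ D,
    ¬ pCore 3 ↥(Subgroup.closure (Ds D d)) ≤ Subgroup.center ↥(Subgroup.closure (Ds D d)) → Has G D (.sym 5)

/-- The unitary transvections in dimension four as reflections in dimension five. -/
def UnitFour : Prop :=
  ∀ (G : Type u) [Group G] [Finite G] (D : Set G), Has G D (.unit 4) →
    ∃ c : ZMod 3, c ≠ 0 ∧ Has G D (.refl 5 (-c) c)

/-- The orthogonal groups over two elements are not simple. -/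
def OrthNotSimple : Prop :=
  ∀ (G : Type u) [Group G] [Finite G] (D : Set G) (b : Bool) (m : ℕ), Has G D (.orth b m) → ¬ IsSimpleGroup G

/-- The simple projective reflection groups are the odd-dimensional orthogonal groups. -/
def ReflSimple : Prop :=
  ∀ (G : Type u) [Group G] [Finite G] (D : Set G) (n : ℕ) (μ c : ZMod 3), Has G D (.refl n μ c) → IsSimpleGroup G →
    ∃ m : ℕ, Nonempty (G ≃* Cfsg.POmega (ZMod 3) (Cfsg.quadFormOdd m (ZMod 3)))

/-- The groups with disconnected commuting graph. -/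
def Triality : Prop :=
  ∀ (G : Type u) [Group G] [Finite G] (D : Set G), Good D → ¬ (Cfsg.commutingGraph D).Connected →
    ∀ (F : Subgroup G) [F.Normal], F = Cfsg.generalizedFittingSubgroup G →
      Nonempty (G ⧸ F ≃* Equiv.Perm (Fin 3)) ∧
        (Nonempty (F ≃* Cfsg.Omega (ZMod 2) (Cfsg.quadFormPlus 4 (ZMod 2))) ∨
          Nonempty (F ≃* Cfsg.POmega (ZMod 3) (Cfsg.quadFormPlus 4 (ZMod 3))))

end CfsgFischer
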