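/-
The base of the induction with a non-central 3-core: the transpositions of five letters.
-/
import Cfsg.Agent.Lib.Fischer.Interface
import Cfsg.Agent.Lib.ThreeTrans.TwinFive

set_option autoImplicit false

namespace CfsgFischer

open Cfsg CfsgLib CfsgThreeTrans

universe u

theorem invol_five : ∀ σ : Equiv.Perm (Fin 5), σ ^ 2 = 1 → σ ≠ 1 →
    (Equiv.Perm.sign σ = 1 ∨ ∃ x y, x ≠ y ∧ σ = Equiv.swap x y) := by decide +kernel

/-- A generating class of involutions of five letters consists of the transpositions. -/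
theorem image_eq_swaps {G : Type u} [Group G] {D : Set G} (hD : IsThreeTranspositionClass D)
    (e : G ≃* Equiv.Perm (Fin 5)) : e '' D = {σ : Equiv.Perm (Fin 5) | σ.IsSwap} := by
  obtain ⟨d, hd, -⟩ := id hD.2.1
  have hcls : ∀ {x : G}, x ∈ D → ∀ g : Equiv.Perm (Fin 5), g * e x * g⁻¹ ∈ e '' D := fun {x} hx g =>
    ⟨e.symm g * x * (e.symm g)⁻¹, cls_conj hD _ hx, by simp⟩
  obtain ⟨a, ha, hsign⟩ : ∃ a ∈ D, Equiv.Perm.sign (e a) ≠ 1 := by
    by_contra hno
    push Not at hno
    have h : ∀ g : G, Equiv.Perm.sign (e g) = 1 := by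
      intro g
      have hg : g ∈ Subgroup.closure D := hD.2.2 ▸ Subgroup.mem_top g
      refine Subgroup.closure_induction (p := fun g _ => Equiv.Perm.sign (e g) = 1) hno (by simp) ?_ ?_ hg
      · intro x y _ _ hx hy; rw [map_mul, map_mul, hx, hy, one_mul]
      · intro x _ hx; rw [map_inv, map_inv, hx, inv_one]
    have := h (e.symm (Equiv.swap 0 1))
    rw [MulEquiv.apply_symm_apply, Equiv.Perm.sign_swap (by decide)] at this
    exact absurd this (by decide)
  obtain ⟨x, y, hxy, hs⟩ : ∃ x y, x ≠ y ∧ e a = Equiv.swap x y := by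
    refine (invol_five (e a) ?_ ?_).resolve_left hsign
    · rw [← map_pow, sq, mul_self hD.1 ha, map_one]
    · intro h; exact hsign (by rw [h, map_one])
  refine Set.Subset.antisymm ?_ ?_
  · rintro _ ⟨b, hb, rfl⟩
    obtain ⟨g, rfl⟩ := cls_exists_conj hD ha hb
    rw [map_mul, map_mul, map_inv, hs]
    exact ⟨e g x, e g y, fun h => hxy ((e g).injective h), Equiv.swap_apply_apply (e g) x y |>.symm⟩
  · rintro σ ⟨u, v, huv, rfl⟩
    obtain ⟨g, hg⟩ := isConj_iff.mp (Equiv.Perm.isConj_swap hxy huv)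
    rw [← hg, ← hs]
    exact hcls ha g

/-- The base with a non-central 3-core. -/
theorem baseThree : BaseThree.{u} := by
  intro G _ _ D hP d hd h3
  have : Fact (Nat.Prime 3) := ⟨Nat.prime_three⟩
  have hO : ¬ oddCore ↥(Subgroup.closure (Ds D d)) ≤ Subgroup.center ↥(Subgroup.closure (Ds D d)) := by
    refine fun hle => h3 (le_trans ?_ hle)
    obtain ⟨k, hk⟩ := IsPGroup.iff_card.mp
      (isPGroup_pCore (G := ↥(Subgroup.closure (Ds D d))) 3)
    exact le_oddCore (by rw [hk]; exact Odd.pow (by decide))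
  obtain ⟨e⟩ := TwinFive.main hP.cls hP.prim hP.pair hd (TwinFive.exists_twins hP.cls hd hO)
  exact ⟨le_rfl, by norm_num, e, image_eq_swaps hP.cls e⟩

end CfsgFischer
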