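/-
A bijection of two classes of 3-transpositions respecting conjugation among the members gives an isomorphism of
the groups modulo their centres.
-/
import Cfsg.Agent.Lib.ThreeTrans.Classes

set_option autoImplicit false

namespace CfsgFischer

open Cfsg CfsgThreeTrans

universe u v

variable {G : Type u} [Group G] {H : Type v} [Group H] {D : Set G} {E : Set H}

/-- **Isomorphism from the classes.** The second group may have a centre. -/
theorem iso_quot_of_bij (hD : IsThreeTranspositionClass D) (hZ : Subgroup.center G = ⊥)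
    (hE : IsThreeTranspositionClass E) (f : G → H) (hf : Set.BijOn f D E)
    (hconj : ∀ a ∈ D, ∀ b ∈ D, f (a * b * a) = f a * f b * f a) :
    ∃ e : G ≃* H ⧸ Subgroup.center H, e '' D = (QuotientGroup.mk : H → H ⧸ Subgroup.center H) '' E := by
  classical
  let T : Subgroup (G × H) :=
    { carrier := {p | ∀ a ∈ D, f (p.1 * a * p.1⁻¹) = p.2 * f a * p.2⁻¹}
      one_mem' := fun a _ => by simp
      mul_mem' := fun {p q} hp hq a ha => by
        rw [Prod.fst_mul, Prod.snd_mul, ← cj_cj, hp _ (cls_conj hD q.1 ha), hq a ha, cj_cj]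
      inv_mem' := fun {p} hp a ha => by
        have h := hp _ (cls_conj hD p.1⁻¹ ha)
        rw [cj_inv] at h
        rw [Prod.fst_inv, Prod.snd_inv, h]
        group }
  have hgen : ∀ a ∈ D, ((a, f a) : G × H) ∈ T := fun a ha b hb => by
    show f (a * b * a⁻¹) = f a * f b * (f a)⁻¹
    rw [inv_self hD.1 ha, inv_self hE.1 (hf.mapsTo ha), hconj a ha b hb]
  let π₁ : T →* G := (MonoidHom.fst _ _).comp T.subtype
  let π₂ : T →* H := (MonoidHom.snd _ _).comp T.subtype
  let Φ : T →* H ⧸ Subgroup.center H := (QuotientGroup.mk' _).comp π₂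
  have s1 : Function.Surjective π₁ := by
    rw [← MonoidHom.range_eq_top, eq_top_iff, ← hD.2.2, Subgroup.closure_le]
    exact fun a ha => ⟨⟨_, hgen a ha⟩, rfl⟩
  have s2 : Function.Surjective π₂ := by
    rw [← MonoidHom.range_eq_top, eq_top_iff, ← hE.2.2, Subgroup.closure_le]
    intro b hb
    obtain ⟨a, ha, rfl⟩ := hf.surjOn hb
    exact ⟨⟨_, hgen a ha⟩, rfl⟩
  have sΦ : Function.Surjective Φ := (QuotientGroup.mk'_surjective _).comp s2
  have hker : π₁.ker = Φ.ker := by
    ext ⟨⟨g, k⟩, hp⟩
    show g = 1 ↔ ((k : H) : H ⧸ Subgroup.center H) = 1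
    rw [QuotientGroup.eq_one_iff]
    constructor
    · rintro rfl
      refine mem_center_of_commute_cls hE fun b hb => ?_
      obtain ⟨a, ha, rfl⟩ := hf.surjOn hb
      have h := hp a ha
      simp only [one_mul, inv_one, mul_one] at h
      exact (mul_inv_eq_iff_eq_mul.mp h.symm)
    · intro hk
      refine Subgroup.mem_bot.mp (hZ ▸ mem_center_of_commute_cls hD fun a ha => ?_)
      have h : f (g * a * g⁻¹) = f a := by
        rw [hp a ha]
        show k * f a * k⁻¹ = f a
        rw [← Subgroup.mem_center_iff.mp hk (f a), mul_inv_cancel_right]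
      exact mul_inv_eq_iff_eq_mul.mp (hf.injOn (cls_conj hD g ha) ha h)
  let e := (QuotientGroup.quotientKerEquivOfSurjective π₁ s1).symm.trans
    ((QuotientGroup.quotientMulEquivOfEq hker).trans (QuotientGroup.quotientKerEquivOfSurjective Φ sΦ))
  have he : ∀ a ∈ D, e a = (f a : H ⧸ Subgroup.center H) := by
    intro a ha
    have h1 : (QuotientGroup.quotientKerEquivOfSurjective π₁ s1).symm a =
        ((⟨_, hgen a ha⟩ : T) : T ⧸ π₁.ker) := by
      rw [MulEquiv.symm_apply_eq]; rfl
    show (QuotientGroup.quotientKerEquivOfSurjective Φ sΦ) ((QuotientGroup.quotientMulEquivOfEq hker)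
      ((QuotientGroup.quotientKerEquivOfSurjective π₁ s1).symm a)) = _
    rw [h1]
    rfl
  refine ⟨e, Set.ext fun x => ⟨?_, ?_⟩⟩
  · rintro ⟨a, ha, rfl⟩
    exact ⟨f a, hf.mapsTo ha, (he a ha).symm⟩
  · rintro ⟨b, hb, rfl⟩
    obtain ⟨a, ha, rfl⟩ := hf.surjOn hb
    exact ⟨a, ha, he a ha⟩

/-- **Isomorphism from the classes**, both groups centreless. -/
theorem iso_of_bij (hD : IsThreeTranspositionClass D) (hZ : Subgroup.center G = ⊥)
    (hE : IsThreeTranspositionClass E) (hZ' : Subgroup.center H = ⊥) (f : G → H) (hf : Set.BijOn f D E)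
    (hconj : ∀ a ∈ D, ∀ b ∈ D, f (a * b * a) = f a * f b * f a) : ∃ e : G ≃* H, e '' D = E := by
  obtain ⟨e, he⟩ := iso_quot_of_bij hD hZ hE f hf hconj
  let q : H ⧸ Subgroup.center H ≃* H := (QuotientGroup.quotientMulEquivOfEq hZ').trans QuotientGroup.quotientBot
  refine ⟨e.trans q, ?_⟩
  have hq : ∀ b : H, q (b : H ⧸ Subgroup.center H) = b := fun b => rfl
  rw [MulEquiv.coe_trans, Set.image_comp, he, Set.image_image]
  simp only [hq, Set.image_id']

/-- Conjugation respected on the nose follows from the third members. -/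
theorem conj_of_third (hD : IsThreeTranspositionSet D) (hE : IsThreeTranspositionSet E) (f : G → H)
    (hm : Set.MapsTo f D E) (hc : ∀ a ∈ D, ∀ b ∈ D, Commute a b → Commute (f a) (f b))
    (h3 : ∀ a ∈ D, ∀ b ∈ D, ¬ Commute a b → f (a * b * a) = f a * f b * f a) :
    ∀ a ∈ D, ∀ b ∈ D, f (a * b * a) = f a * f b * f a := by
  intro a ha b hb
  by_cases h : Commute a b
  · rw [h.eq, mul_assoc, mul_self hD ha, mul_one, (hc a ha b hb h).eq, mul_assoc, mul_self hE (hm ha), mul_one]
  · exact h3 a ha b hb h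

end CfsgFischer
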