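/-
A non-central 2-core at a transposition: symplectic or unitary transvections.
-/
import Cfsg.Agent.Lib.Fischer.Interface
import Cfsg.Agent.Lib.Fischer.Iso
import Cfsg.Agent.Lib.ThreeTrans.Polar.Finish
import Cfsg.Agent.Lib.ReflClass.Unitary
import Cfsg.Agent.S0440

set_option autoImplicit false

namespace CfsgFischer

open Cfsg CfsgLib CfsgThreeTrans CfsgThreeTrans.Polar Matrix
open CfsgLib.SympGen (B tv_apply)
open CfsgLib.SympTransvection (tv)

universe u

variable {G : Type u} [Group G] [Finite G] {D : Set G}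

/-- The symplectic group over two elements has no centre. -/
theorem symp_center (m : ℕ) : Subgroup.center (Matrix.symplecticGroup (Fin m) (ZMod 2)) = ⊥ := by
  refine eq_bot_iff.mpr fun g hg => Subgroup.mem_bot.mpr (SympGen.eq_one_of_fix g fun i => ?_)
  set u := SympGen.bas (F := ZMod 2) i
  have hu : u ≠ 0 := fun e => one_ne_zero (α := ZMod 2) (by simpa [u] using congrFun e i)
  obtain ⟨z, hz⟩ := CfsgLib.SympTransvection.exists_dot_ne hu
  have hz1 : B z u = 1 := (by decide : ∀ t : ZMod 2, t ≠ 0 → t = 1) _ hz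
  have h := congrArg (fun A : Matrix.symplecticGroup (Fin m) (ZMod 2) => A.1 *ᵥ z)
    (Subgroup.mem_center_iff.mp hg (tv u 1))
  simp only [SympGen.mul_apply, tv_apply, one_mul, hz1, one_smul, Matrix.mulVec_add] at h
  by_cases hb : B (g.1 *ᵥ z) u = 1
  · rw [hb, one_smul, add_left_cancel_iff] at h
    exact h.symm
  · exfalso
    rw [(by decide : ∀ t : ZMod 2, t ≠ 1 → t = 0) _ hb, zero_smul, add_zero, left_eq_add] at h
    refine hu ?_
    have := congrArg (fun x => g⁻¹.1 *ᵥ x) h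
    rw [← SympGen.mul_apply, inv_mul_cancel, SympGen.one_apply, Matrix.mulVec_zero] at this
    exact this

theorem unit_case (h : IsPolar D) (hZ : Subgroup.center G = ⊥) {F : Type} [Field F] [Fintype F] [DecidableEq F]
    (hF : Fintype.card F = 2 ^ 2) {n : ℕ} (hn : 4 ≤ n) (M : Model hF D n) : IsUnitClass G D n := by
  classical
  have hE := CfsgReflClass.unitary_class hF hn
  have hmem : ∀ a ∈ D, (CfsgUniqueTT.Unitary.tu hF (M.vec a)) ∈
      {g : Cfsg.SU n F 2 | (CfsgLib.UnitarySimple.mat g - 1).rank = 1} := fun a ha =>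
    (CfsgReflClass.rank_one hF _).mpr ⟨M.vec a, (M.iso a ha).1, (M.iso a ha).2,
      fun x => CfsgUniqueTT.Unitary.tu_mulVec hF (M.iso a ha).2 x⟩
  suffices hh : Set.BijOn (fun a => CfsgUniqueTT.Unitary.tu hF (M.vec a)) D
        {g : Cfsg.SU n F 2 | (CfsgLib.UnitarySimple.mat g - 1).rank = 1} ∧
      (∀ a ∈ D, ∀ b ∈ D, CfsgUniqueTT.Unitary.tu hF (M.vec (a * b * a)) =
        CfsgUniqueTT.Unitary.tu hF (M.vec a) * CfsgUniqueTT.Unitary.tu hF (M.vec b) *
          CfsgUniqueTT.Unitary.tu hF (M.vec a)) by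
    obtain ⟨e, he⟩ := iso_quot_of_bij h.cls hZ hE _ hh.1 hh.2
    exact ⟨F, inferInstance, inferInstance, by rw [hF]; norm_num, e, he⟩
  refine ⟨⟨fun a ha => hmem a ha, fun a ha b hb e => ?_, fun g hg => ?_⟩, fun a ha b hb => ?_⟩
  · obtain ⟨k, hk⟩ := CfsgUniqueTT.Unitary.tu_point hF (M.iso a ha).2 (M.iso a ha).1 (M.iso b hb).2 e
    exact M.inj a ha b hb k hk
  · obtain ⟨v, hv⟩ := (CfsgReflClass.rank_one hF g).mp hg
    obtain ⟨a, ha, k, hk, ek⟩ := M.surj v ⟨hv.1, hv.2.1⟩
    refine ⟨a, ha, CfsgLib.UnitarySimple.su_ext fun x => ?_⟩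
    show CfsgLib.UnitarySimple.mat (CfsgUniqueTT.Unitary.tu hF (M.vec a)) *ᵥ x = _
    rw [ek, CfsgUniqueTT.Unitary.tu_smul hF hv.2.1 hk, CfsgUniqueTT.Unitary.tu_mulVec hF hv.2.1, hv.2.2]
  · obtain ⟨k, hk, ek⟩ := M.conj b hb a ha
    show CfsgUniqueTT.Unitary.tu hF (M.vec (a * b * a)) = _
    have hb2 := (M.iso b hb).2
    have e1 : CfsgUniqueTT.Unitary.tu hF (M.vec a) * CfsgUniqueTT.Unitary.tu hF (M.vec b) *
        CfsgUniqueTT.Unitary.tu hF (M.vec a) =
        CfsgUniqueTT.Unitary.tu hF (tr (M.vec a) (M.vec b)) := by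
      conv_lhs => arg 2; rw [← CfsgUniqueTT.Unitary.tu_inv hF (M.iso a ha).2]
      rw [CfsgUniqueTT.Unitary.tu_conj hF _ hb2, CfsgUniqueTT.Unitary.tu_mulVec hF (M.iso a ha).2]
      rfl
    rw [e1, ek, CfsgUniqueTT.Unitary.tu_smul hF (tr_iso hF (M.iso b hb) (M.iso a ha)).2 hk]

theorem symp_case (h : IsPolar D) (ht : Thin D) (hZ : Subgroup.center G = ⊥) :
    ∃ m, 2 ≤ m ∧ IsSympClass G D m := by
  classical
  obtain ⟨m, F, hcov⟩ := exists_frame h ht
  have hD := h.cls.1
  choose! v hv using hcov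
  have hB : ∀ a ∈ D, ∀ b (hb : b ∈ D), B (v a) (v b) = row D a ⟨b, hb⟩ := by
    intro a ha b hb
    have h1 : ∀ j, B (v b) (Pi.single j 1) = row D b (F.pt j) := fun j => by
      rw [← comb_pt F, hv b hb]
    rw [← hv a ha, comb_apply]
    have e : ∀ i, row D (F.pt i : G) ⟨b, hb⟩ = row D b (F.pt i) := fun i => by
      by_cases hc : Commute (F.pt i : G) b
      · rw [row_of_commute (t := ⟨b, hb⟩) hc, row_of_commute hc.symm]
      · rw [row_of_not (t := ⟨b, hb⟩) hc, row_of_not fun c => hc c.symm]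
    simp only [e, ← h1]
    refine Finset.sum_congr rfl fun i _ => ?_
    congr 1
    rw [SympGen.B_swap, CharTwo.neg_eq, B, single_dotProduct, one_mul]
  have hv0 : ∀ a ∈ D, v a ≠ 0 := by
    intro a ha e
    obtain ⟨g, hg, hag⟩ := exists_noncommute h.cls h.prim.2.1 ha
    have := hB a ha g hg
    rw [e, row_of_not (t := ⟨g, hg⟩) hag, B, zero_dotProduct] at this
    exact zero_ne_one this
  have hvinj : ∀ a ∈ D, ∀ b ∈ D, v a = v b → a = b := fun a ha b hb e =>
    row_injective h ha hb (by rw [← hv a ha, ← hv b hb, e])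
  have hvsurj : ∀ w, w ≠ 0 → ∃ a ∈ D, v a = w := by
    intro w hw
    have hm : comb F w ∈ space h ht :=
      Submodule.sum_mem _ fun i _ => Submodule.smul_mem _ _ (row_mem h ht (F.pt i).2)
    rcases hm with e | ⟨a, ha, e⟩
    · exact absurd (comb_injective F (e.trans (by funext t; simp [comb_apply]))) hw
    · exact ⟨a, ha, comb_injective F ((hv a ha).trans e.symm)⟩
  have hm : 2 ≤ m := by
    obtain ⟨a, ha, b, hb, hab, hc⟩ := h.pair
    have h0 : B (v a) (v b) = 0 := by rw [hB a ha b hb, row_of_commute (t := ⟨b, hb⟩) hc]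
    by_contra hlt
    have hne : v a ≠ v b := fun e => hab (hvinj a ha b hb e)
    have key : ∀ k, k ≤ 1 → ∀ x y : Fin k ⊕ Fin k → ZMod 2, x ≠ 0 → y ≠ 0 → x ≠ y → B x y ≠ 0 := by
      intro k hk
      interval_cases k <;> decide
    exact key m (by omega) _ _ (hv0 a ha) (hv0 b hb) hne h0
  refine ⟨m, hm, iso_of_bij h.cls hZ (Cfsg.Agent.S0440.symp_class m (by omega)) (symp_center m)
    (fun a => tv (v a) 1) ⟨fun a ha => Cfsg.Agent.S0440.rank_tv (hv0 a ha), fun a ha b hb e => ?_, fun g hg => ?_⟩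
    fun a ha b hb => ?_⟩
  · obtain ⟨z, hz⟩ := CfsgLib.SympTransvection.exists_dot_ne (hv0 a ha)
    have h1 := congrArg (fun A : Matrix.symplecticGroup (Fin m) (ZMod 2) => A.1 *ᵥ z) e
    simp only [tv_apply, one_mul, add_left_cancel_iff] at h1
    have hz1 : B z (v a) = 1 := (by decide : ∀ t : ZMod 2, t ≠ 0 → t = 1) _ hz
    rw [hz1, one_smul] at h1
    rcases (by decide : ∀ t : ZMod 2, t = 0 ∨ t = 1) (B z (v b)) with e0 | e0
    · rw [e0, zero_smul] at h1; exact absurd h1 (hv0 a ha)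
    · rw [e0, one_smul] at h1; exact hvinj a ha b hb h1
  · obtain ⟨w, hw, rfl⟩ := Cfsg.Agent.S0440.eq_tv g hg
    obtain ⟨a, ha, rfl⟩ := hvsurj w hw
    exact ⟨a, ha, rfl⟩
  · show tv (v (a * b * a)) 1 = tv (v a) 1 * tv (v b) 1 * tv (v a) 1
    have hnew : v (a * b * a) = v b + B (v b) (v a) • v a := by
      rw [hB b hb a ha]
      by_cases hc : Commute b a
      · rw [row_of_commute (t := ⟨a, ha⟩) hc, zero_smul, add_zero, hc.symm.eq, mul_assoc, mul_self hD ha, mul_one]
      · rw [row_of_not (t := ⟨a, ha⟩) hc, one_smul]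
        refine comb_injective F ?_
        rw [hv _ (cj_mem h hb ha), row_add_far h ht ha hb (fun e => hc e.symm), ← hv a ha, ← hv b hb]
        funext t
        simp [comb_apply, add_mul, Finset.sum_add_distrib, add_comm]
    rw [hnew]
    refine Cfsg.Agent.S0440.sp_ext fun x => ?_
    simp only [SympGen.mul_apply, tv_apply, one_mul, SympGen.B_add_left, SympGen.B_add_right, SympGen.B_smul_left,
      SympGen.B_smul_right, SympGen.B_self]
    have hsw : B (v a) (v b) = B (v b) (v a) := by rw [SympGen.B_swap, CharTwo.neg_eq]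
    rcases (by decide : ∀ t : ZMod 2, t = 0 ∨ t = 1) (B (v b) (v a)) with e | e <;>
      rcases (by decide : ∀ t : ZMod 2, t = 0 ∨ t = 1) (B x (v a)) with e1 | e1 <;>
      rcases (by decide : ∀ t : ZMod 2, t = 0 ∨ t = 1) (B x (v b)) with e2 | e2 <;>
      simp [e, e1, e2, hsw, CharTwo.add_self_eq_zero] <;> abel_nf <;>
      (ext i; simp [CharTwo.two_eq_zero, CharTwo.two_zsmul, CharTwo.add_self_eq_zero, two_mul])

/-- **The base with a non-central 2-core.** -/
theorem base_two : BaseTwo.{u} := by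
  intro G _ _ D hP d hd hc
  classical
  have h := of_core hP.cls hP.prim hP.pair hd hc
  by_cases ht : Thin D
  · obtain ⟨m, hm, e⟩ := symp_case h ht hP.center
    exact Or.inl ⟨m, hm, e⟩
  · obtain ⟨F, i1, i2, hF⟩ := exists_field_four
    have hF' : Fintype.card F = 2 ^ 2 := by rw [hF]; norm_num
    obtain ⟨c, hc', hdc⟩ := exists_noncommute h.cls h.prim.2.1 hd
    obtain ⟨m, hm, ⟨M⟩, -⟩ := exists_coord hF' h (five_of_not_thin h ht) hd hc' hdc
    exact Or.inr ⟨m + 2, by omega, unit_case h hP.center hF' (by omega) M⟩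

end CfsgFischer
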