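/-
The induction of Fischer's theorem, from its steps.
-/
import Cfsg.Agent.Lib.Fischer.Interface
import Cfsg.Agent.Lib.ThreeTrans.Fischer

set_option autoImplicit false

namespace CfsgFischer

open Cfsg CfsgThreeTrans

universe u

variable {G : Type u} [Group G]

/-- All steps of the induction. -/
structure Steps : Prop where
  loc : LocalGood.{u}
  two : BaseTwo.{u}
  three : BaseThree.{u}
  step : ∀ k, Step.{u} k

theorem classify_aux (S : Steps.{u}) : ∀ (N : ℕ) (G : Type u) [Group G] [Finite G] (D : Set G),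
    Prim D → D.ncard ≤ N → ∃ k, Has G D k := by
  intro N
  induction N with
  | zero =>
    intro G _ _ D hP hN
    obtain ⟨a, ha, -⟩ := hP.pair
    have := (Set.ncard_pos (Set.toFinite D)).mpr ⟨a, ha⟩
    omega
  | succ N ih =>
    intro G _ _ D hP hN
    obtain ⟨d, hd, -⟩ := hP.pair
    by_cases h3 : pCore 3 ↥(Subgroup.closure (Ds D d)) ≤ Subgroup.center ↥(Subgroup.closure (Ds D d))
    · by_cases h2 : pCore 2 ↥(Subgroup.closure (Ds D d)) ≤ Subgroup.center ↥(Subgroup.closure (Ds D d))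
      · obtain ⟨hL, hlt⟩ := S.loc G D hP d hd ⟨h3, h2⟩
        obtain ⟨k, hk⟩ := ih _ _ hL (by omega)
        obtain ⟨k', -, hk'⟩ := S.step k G D hP d hd ⟨h3, h2⟩ hk
        exact ⟨k', hk'⟩
      · rcases S.two G D hP d hd h2 with ⟨m, h⟩ | ⟨n, h⟩
        exacts [⟨_, h⟩, ⟨_, h⟩]
    · exact ⟨_, S.three G D hP d hd h3⟩

/-- A primitive class has one of the kinds. -/
theorem classify (S : Steps.{u}) [Finite G] {D : Set G} (hP : Prim D) : ∃ k, Has G D k :=
  classify_aux S D.ncard G D hP le_rfl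

/-- With central cores at a transposition the kind comes from a step. -/
theorem classify_step (S : Steps.{u}) [Finite G] {D : Set G} (hP : Prim D) {d : G} (hd : d ∈ D)
    (hc : CoresCentral D d) : ∃ k k', Next k k' ∧ Has G D k' := by
  obtain ⟨k, hk⟩ := classify S (S.loc G D hP d hd hc).1
  obtain ⟨k', h, h'⟩ := S.step k G D hP d hd hc hk
  exact ⟨k, k', h, h'⟩

theorem prim_of_group [Finite G] {D : Set G} (hD : IsThreeTranspositionGroup D) (hp : IsPrimitiveUnderConj D)
    (hZ : Subgroup.center G = ⊥) (hw : ∃ a ∈ D, ∃ b ∈ D, a ≠ b ∧ Commute a b) : Prim D := by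
  have hc := cls_of_group_prim hD hp
  obtain ⟨h2, h3⟩ := cores_of_prim hc hp hw
  exact ⟨⟨hc, hZ, le_bot_iff.mp (hZ ▸ h2), le_bot_iff.mp (hZ ▸ h3), hw⟩, hp⟩

theorem two_of_center [Finite G] {D : Set G} (hD : IsThreeTranspositionClass D) (hZ : Subgroup.center G = ⊥) :
    ∃ a ∈ D, ∃ b ∈ D, a ≠ b := by
  by_contra h
  push Not at h
  obtain ⟨d, hd, -⟩ := hD.2.1
  have h1 : d = 1 := Subgroup.mem_bot.mp (hZ ▸ mem_center_of_commute_cls hD fun e he => by rw [h e he d hd])
  have := hD.1.1 d hd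
  rw [h1, orderOf_one] at this
  exact absurd this (by norm_num)

end CfsgFischer
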