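/-
A class of width one with simple derived group is the class of transpositions of three letters.
-/
import Cfsg.Agent.Lib.Fischer.Induction

set_option autoImplicit false

namespace CfsgFischer

open Cfsg CfsgThreeTrans

universe u

variable {G : Type u} [Group G] [Finite G] {D : Set G}

theorem invol_three : ∀ σ : Equiv.Perm (Fin 3), σ ^ 2 = 1 → σ ≠ 1 →
    (σ = Equiv.swap 0 1 ∨ σ = Equiv.swap 0 2 ∨ σ = Equiv.swap 1 2) := by decide

theorem swap_three : ∀ σ : Equiv.Perm (Fin 3), σ.IsSwap → σ ^ 2 = 1 ∧ σ ≠ 1 := by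
  rintro σ ⟨x, y, hxy, rfl⟩
  exact ⟨by rw [sq, Equiv.swap_mul_self], fun h => hxy (Equiv.swap_eq_one_iff.mp h)⟩

theorem sym_three (hD : IsThreeTranspositionClass D) (hZ : Subgroup.center G = ⊥)
    (hsimple : IsSimpleGroup (commutator G)) (hw : ∀ a ∈ D, ∀ b ∈ D, Commute a b → a = b) :
    IsSymClass G D 3 := by
  classical
  haveI : Fact (Nat.Prime 3) := ⟨Nat.prime_three⟩
  obtain ⟨a, ha, b, hb, hab⟩ := two_of_center hD hZ
  have hnab : ¬ Commute a b := fun h => hab (hw a ha b hb h)
  have hle : commutator G ≤ pCore 3 G := commutator_le_of_mod hD ha _ fun x hx => by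
    rw [inv_self hD.1 ha]; exact mul_mem_pCore_three hD hw ha hx
  have hp : IsPGroup 3 (commutator G) := (CfsgLib.isPGroup_pCore (G := G) 3).to_le hle
  have hcomm : ∀ x y : commutator G, x * y = y * x := by
    haveI := hsimple.toNontrivial
    haveI := hp.center_nontrivial
    intro x y
    rcases hsimple.eq_bot_or_eq_top_of_normal (Subgroup.center (commutator G)) inferInstance with h | h
    · exact absurd h ((Subgroup.nontrivial_iff_ne_bot _).mp inferInstance)
    · exact (Subgroup.mem_center_iff.mp (h ▸ Subgroup.mem_top x : x ∈ Subgroup.center (commutator G)) y).symm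
  have h3 : Nat.card (commutator G) = 3 := by
    letI : CommGroup (commutator G) := { (inferInstance : Group (commutator G)) with mul_comm := hcomm }
    haveI : IsSimpleGroup (commutator G) := hsimple
    have hprime := IsSimpleGroup.prime_card (α := commutator G)
    obtain ⟨k, hk⟩ := IsPGroup.iff_card.mp hp
    rw [hk] at hprime ⊢
    rcases Nat.eq_zero_or_pos k with rfl | hk0
    · exact absurd hprime (by norm_num)
    · exact ((Nat.prime_dvd_prime_iff_eq Nat.prime_three hprime).mp (dvd_pow_self 3 hk0.ne')).symm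
  -- the class has three members
  have hinD : ∀ x ∈ D, a⁻¹ * x ∈ (commutator G : Set G) := fun x hx => mul_mem_commutator hD ha hx
  have hD3 : D.ncard ≤ 3 := by
    have h := Set.ncard_le_ncard_of_injOn (fun x => a⁻¹ * x) hinD (fun x _ y _ h => mul_left_cancel h) (Set.toFinite _)
    rw [← Nat.card_coe_set_eq (commutator G : Set G)] at h
    exact h.trans h3.le
  have hc : b * a * b⁻¹ ∈ D := cls_conj hD b ha
  have hca : b * a * b⁻¹ ≠ a := fun h => hnab (show a * b = b * a from (mul_inv_eq_iff_eq_mul.mp h).symm)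
  have hcb : b * a * b⁻¹ ≠ b := fun h => hab (mul_left_cancel (mul_inv_eq_iff_eq_mul.mp h))
  have hDeq : D = {a, b, b * a * b⁻¹} := by
    refine (Set.eq_of_subset_of_ncard_le ?_ ?_ (Set.toFinite D)).symm
    · rintro _ (rfl | rfl | rfl) <;> assumption
    · rw [Set.ncard_insert_of_notMem (by simp [hab, hca.symm]), Set.ncard_pair hcb.symm]
      exact hD3
  have hcard : Nat.card D = 3 := by
    rw [Nat.card_coe_set_eq, hDeq, Set.ncard_insert_of_notMem (by simp [hab, hca.symm]), Set.ncard_pair hcb.symm]
  obtain ⟨ι⟩ : Nonempty (D ≃ Fin 3) := ⟨(Nat.equivFinOfCardPos (by rw [hcard]; norm_num)).trans (finCongr hcard)⟩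
  let act : G →* Equiv.Perm D :=
    { toFun := fun g =>
        { toFun := fun x => ⟨g * x * g⁻¹, cls_conj hD g x.2⟩
          invFun := fun x => ⟨g⁻¹ * x * g⁻¹⁻¹, cls_conj hD g⁻¹ x.2⟩
          left_inv := fun x => Subtype.ext (by group)
          right_inv := fun x => Subtype.ext (by group) }
      map_one' := Equiv.ext fun x => Subtype.ext (by simp)
      map_mul' := fun g h => Equiv.ext fun x => Subtype.ext (cj_cj g h x).symm }
  have hinj : Function.Injective act := by
    rw [injective_iff_map_eq_one]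
    intro g hg
    refine Subgroup.mem_bot.mp (hZ ▸ mem_center_of_commute_cls hD fun x hx => ?_)
    have h := congrArg Subtype.val (Equiv.congr_fun hg ⟨x, hx⟩)
    exact mul_inv_eq_iff_eq_mul.mp h
  let φ : G →* Equiv.Perm (Fin 3) := ι.permCongrHom.toMonoidHom.comp act
  have hφ : Function.Injective φ := ι.permCongrHom.injective.comp hinj
  have himg : ∀ x ∈ D, (φ x).IsSwap := by
    intro x hx
    have h2 : φ x ^ 2 = 1 := by rw [← map_pow, sq, mul_self hD.1 hx, map_one]
    have h1 : φ x ≠ 1 := fun h => by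
      have := hD.1.1 x hx
      rw [hφ (h.trans (map_one φ).symm), orderOf_one] at this
      exact absurd this (by norm_num)
    rcases invol_three _ h2 h1 with e | e | e <;> exact e ▸ ⟨_, _, by decide, rfl⟩
  have heq : φ '' D = {σ : Equiv.Perm (Fin 3) | σ.IsSwap} := by
    refine Set.eq_of_subset_of_ncard_le (by rintro _ ⟨x, hx, rfl⟩; exact himg x hx) ?_ (Set.toFinite _)
    rw [Set.ncard_image_of_injective _ hφ, ← Nat.card_coe_set_eq D, hcard]
    refine (Set.ncard_le_ncard (t := {Equiv.swap 0 1, Equiv.swap 0 2, Equiv.swap 1 2}) (fun σ hσ => ?_)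
      (Set.toFinite _)).trans ?_
    · simpa using invol_three σ (swap_three σ hσ).1 (swap_three σ hσ).2
    · exact (Set.ncard_insert_le _ _).trans (by
        have := Set.ncard_insert_le (Equiv.swap (0 : Fin 3) 2) {Equiv.swap (1 : Fin 3) 2}
        rw [Set.ncard_singleton] at this
        omega)
  have hsurj : Function.Surjective φ := by
    rw [← MonoidHom.range_eq_top, eq_top_iff, ← Equiv.Perm.closure_isSwap, Subgroup.closure_le, ← heq]
    exact Set.image_subset_range _ _
  exact ⟨MulEquiv.ofBijective φ ⟨hφ, hsurj⟩, heq⟩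

end CfsgFischer
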