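/-
Fischer's theorem in the forms asked for, from the steps of the induction.
-/
import Cfsg.Agent.Lib.Fischer.WidthOne
import Cfsg.Prelude.Def_Sporadic
import Cfsg.Agent.S5361
import Cfsg.Agent.S5373
import Cfsg.Agent.S5374
import Cfsg.Agent.S5375
import Cfsg.Agent.S5401

set_option autoImplicit false

namespace CfsgFischer

open Cfsg CfsgThreeTrans

universe u

variable {G : Type u} [Group G] [Finite G] {D : Set G}

/-- The primitive case with central cores. -/
theorem primitive_central (S : Steps.{u}) (hD : IsThreeTranspositionGroup D) (hprim : IsPrimitiveUnderConj D)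
    (hZ : Subgroup.center G = ⊥) (d : G) (hd : d ∈ D) (hw : ∃ b ∈ D, b ≠ d ∧ Commute d b)
    (hc : CoresCentral D d) :
    (∃ n : ℕ, 7 ≤ n ∧ IsSymClass G D n) ∨
      ((∃ m : ℕ, 3 ≤ m ∧ IsPlusClass G D m) ∨ (∃ m : ℕ, 2 ≤ m ∧ IsMinusClass G D m)) ∨
      (∃ n : ℕ, 5 ≤ n ∧ ∃ Q : QuadraticForm (ZMod 3) (Fin n → ZMod 3), (QuadraticMap.polarBilin Q).Nondegenerate ∧
        ∃ c : ZMod 3, c ≠ 0 ∧
        ∃ e : G ≃* ↥(Cfsg.reflectionSubgroup (⇑Q) c) ⧸ Subgroup.center ↥(Cfsg.reflectionSubgroup (⇑Q) c),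
          e '' D = (QuotientGroup.mk : ↥(Cfsg.reflectionSubgroup (⇑Q) c) → _) ''
            {g : ↥(Cfsg.reflectionSubgroup (⇑Q) c) |
              (g : ↥(Cfsg.isometryGroup (ZMod 3) (⇑Q))) ∈ Cfsg.reflectionsOfNorm (⇑Q) c}) ∨
      (Cfsg.IsOfTypeM22 G D ∨ Cfsg.IsOfTypeM23 G D ∨ Cfsg.IsOfTypeM24 G D) := by
  obtain ⟨b, hb, hbd, hdb⟩ := hw
  have hP := prim_of_group hD hprim hZ ⟨d, hd, b, hb, hbd.symm, hdb⟩
  obtain ⟨k, hk⟩ := classify S (S.loc G D hP d hd hc).1
  obtain ⟨k', hN, hk'⟩ := S.step k G D hP d hd hc hk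
  have refl : ∀ {n μ c}, Has G D (.refl n μ c) → _ := fun {n μ c} (h : Has G D (.refl n μ c)) =>
    (show ∃ n : ℕ, 5 ≤ n ∧ ∃ Q : QuadraticForm (ZMod 3) (Fin n → ZMod 3), (QuadraticMap.polarBilin Q).Nondegenerate ∧
        ∃ c : ZMod 3, c ≠ 0 ∧
        ∃ e : G ≃* ↥(Cfsg.reflectionSubgroup (⇑Q) c) ⧸ Subgroup.center ↥(Cfsg.reflectionSubgroup (⇑Q) c),
          e '' D = (QuotientGroup.mk : ↥(Cfsg.reflectionSubgroup (⇑Q) c) → _) ''
            {g : ↥(Cfsg.reflectionSubgroup (⇑Q) c) |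
              (g : ↥(Cfsg.isometryGroup (ZMod 3) (⇑Q))) ∈ Cfsg.reflectionsOfNorm (⇑Q) c} from by
      obtain ⟨hn, Q, hQ, -, hc0, e, he⟩ := h
      exact ⟨n, hn, Q, hQ, c, hc0, e, he⟩)
  cases k with
  | sym n =>
    have h5 : 5 ≤ n := hk.1
    rw [show k' = .sym (n + 2) from hN] at hk'
    obtain ⟨-, -, h⟩ := hk'
    exact Or.inl ⟨n + 2, by omega, h⟩
  | symp m =>
    rcases hN with ⟨-, h | ⟨c, -, h⟩⟩ | ⟨hm, b', h⟩ <;> subst h
    · exact Or.inl ⟨8, by norm_num, hk'.2.2⟩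
    · exact Or.inr (Or.inr (Or.inl (refl hk')))
    · cases b'
      · exact Or.inr (Or.inl (Or.inr ⟨m + 1 - 1, by omega, hk'.2⟩))
      · exact Or.inr (Or.inl (Or.inl ⟨m + 1, by omega, hk'.2⟩))
  | unit n =>
    rcases hN with ⟨-, c, -, h⟩ | ⟨-, h⟩ <;> subst h
    · exact Or.inr (Or.inr (Or.inl (refl hk')))
    · exact Or.inr (Or.inr (Or.inr (Or.inl hk'.1)))
  | orth b m => exact hN.elim
  | refl n μ c =>
    rw [show k' = .refl (n + 1) (-μ * c) c from hN] at hk'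
    exact Or.inr (Or.inr (Or.inl (refl hk')))
  | m22 =>
    rw [show k' = .m23 from hN] at hk'
    exact Or.inr (Or.inr (Or.inr (Or.inr (Or.inl hk'.1))))
  | m23 =>
    rw [show k' = .m24 from hN] at hk'
    exact Or.inr (Or.inr (Or.inr (Or.inr (Or.inr hk'))))
  | m24 => exact hN.elim

/-- A class with simple derived group is primitive or has width one. -/
theorem simple_derived (S : Steps.{u}) (hD : IsThreeTranspositionClass D) (hZ : Subgroup.center G = ⊥)
    (hsimple : IsSimpleGroup (commutator G)) : IsSymClass G D 3 ∨ ∃ k, Has G D k := by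
  by_cases hw : ∃ a ∈ D, ∃ b ∈ D, a ≠ b ∧ Commute a b
  · have hp := (Cfsg.Agent.S5361.result hD hZ hw).1.mp hsimple
    exact Or.inr (classify S (prim_of_group (cls_group hD) hp hZ hw))
  · push Not at hw
    exact Or.inl (sym_three hD hZ hsimple fun a ha b hb h => by
      by_contra hne; exact hw a ha b hb hne h)

/-- Fischer's theorem for a class with simple derived group. -/
theorem fischer_class (S : Steps.{u}) (hD : IsThreeTranspositionClass D) (hZ : Subgroup.center G = ⊥)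
    (hsimple : IsSimpleGroup (commutator G)) :
    (∃ n : ℕ, IsSymClass G D n) ∨ (∃ m : ℕ, IsSympClass G D m) ∨ (∃ n : ℕ, IsUnitClass G D n) ∨
      ((∃ m : ℕ, IsPlusClass G D m) ∨ (∃ m : ℕ, IsMinusClass G D m)) ∨
      (∃ n : ℕ, ∃ Q : QuadraticForm (ZMod 3) (Fin n → ZMod 3), (QuadraticMap.polarBilin Q).Nondegenerate ∧
        ∃ c : ZMod 3, c ≠ 0 ∧
        ∃ e : G ≃* ↥(Cfsg.reflectionSubgroup (⇑Q) c) ⧸ Subgroup.center ↥(Cfsg.reflectionSubgroup (⇑Q) c),
          e '' D = (QuotientGroup.mk : ↥(Cfsg.reflectionSubgroup (⇑Q) c) → _) ''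
            {g : ↥(Cfsg.reflectionSubgroup (⇑Q) c) |
              (g : ↥(Cfsg.isometryGroup (ZMod 3) (⇑Q))) ∈ Cfsg.reflectionsOfNorm (⇑Q) c}) ∨
      (Cfsg.IsOfTypeM22 G D ∨ Cfsg.IsOfTypeM23 G D ∨ Cfsg.IsOfTypeM24 G D) := by
  rcases simple_derived S hD hZ hsimple with h | ⟨k, hk⟩
  · exact Or.inl ⟨3, h⟩
  cases k with
  | sym n => exact Or.inl ⟨n, hk.2.2⟩
  | symp m => exact Or.inr (Or.inl ⟨m, hk.2⟩)
  | unit n => exact Or.inr (Or.inr (Or.inl ⟨n, hk.2⟩))
  | orth b m =>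
    cases b
    · exact Or.inr (Or.inr (Or.inr (Or.inl (Or.inr ⟨m - 1, hk.2⟩))))
    · exact Or.inr (Or.inr (Or.inr (Or.inl (Or.inl ⟨m, hk.2⟩))))
  | refl n μ c =>
    obtain ⟨-, Q, hQ, -, hc0, e, he⟩ := hk
    exact Or.inr (Or.inr (Or.inr (Or.inr (Or.inl ⟨n, Q, hQ, c, hc0, e, he⟩))))
  | m22 => exact Or.inr (Or.inr (Or.inr (Or.inr (Or.inr (Or.inl hk.1)))))
  | m23 => exact Or.inr (Or.inr (Or.inr (Or.inr (Or.inr (Or.inr (Or.inl hk.1))))))
  | m24 => exact Or.inr (Or.inr (Or.inr (Or.inr (Or.inr (Or.inr (Or.inr hk))))))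

theorem pair_of_simple [IsSimpleGroup G] (hD : IsThreeTranspositionClass D) (hZ : Subgroup.center G = ⊥) :
    ∃ a ∈ D, ∃ b ∈ D, a ≠ b ∧ Commute a b := by
  haveI : Fact (Nat.Prime 3) := ⟨Nat.prime_three⟩
  refine pair_of_cores hD (two_of_center hD hZ) ?_
  rcases IsSimpleGroup.eq_bot_or_eq_top_of_normal (pCore 3 G) inferInstance with h | h
  · rw [h]; exact bot_le
  · exfalso
    have hp : IsPGroup 3 (⊤ : Subgroup G) := h ▸ CfsgLib.isPGroup_pCore (G := G) 3
    haveI := (hp.of_equiv Subgroup.topEquiv).center_nontrivial (G := G)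
    exact ((Subgroup.nontrivial_iff_ne_bot _).mp inferInstance) hZ

theorem not_simple_of_perm {n : ℕ} (hn : 3 ≤ n) (e : G ≃* Equiv.Perm (Fin n)) : ¬ IsSimpleGroup G := by
  classical
  intro hs
  haveI := hs
  haveI : Nontrivial (Fin n) := Fin.nontrivial_iff_two_le.mpr (by omega)
  let f : G →* ℤˣ := Equiv.Perm.sign.comp e.toMonoidHom
  have hsurj : Function.Surjective f := fun z => by
    obtain ⟨σ, hσ⟩ := Equiv.Perm.sign_surjective (Fin n) z
    obtain ⟨g, rfl⟩ := e.surjective σ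
    exact ⟨g, hσ⟩
  rcases hs.eq_bot_or_eq_top_of_normal f.ker inferInstance with h | h
  · have h1 := Nat.card_le_card_of_injective _ ((MonoidHom.ker_eq_bot_iff f).mp h)
    rw [Nat.card_congr e.toEquiv, Nat.card_perm, Nat.card_fin, Nat.card_eq_fintype_card, Fintype.card_units_int] at h1
    have := Nat.factorial_le hn
    rw [Nat.factorial] at this
    simp [Nat.factorial] at this
    omega
  · obtain ⟨g, hg⟩ := hsurj (-1)
    have : f g = 1 := MonoidHom.mem_ker.mp (h ▸ Subgroup.mem_top g)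
    exact absurd (hg.symm.trans this) (by decide)

/-- The simple groups generated by a class of 3-transpositions. -/
theorem fischer_simple (S : Steps.{u}) (hO : OrthNotSimple.{u}) (hR : ReflSimple.{u}) [IsSimpleGroup G]
    (hna : ∃ x y : G, x * y ≠ y * x) (hD : IsThreeTranspositionClass D) :
    (∃ n : ℕ, Nonempty (G ≃* Matrix.symplecticGroup (Fin n) (ZMod 2))) ∨
      (∃ (F : Type) (_ : Field F) (_ : Fintype F) (n : ℕ), Fintype.card F = 4 ∧ Nonempty (G ≃* Cfsg.PSU n F 2)) ∨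
      (∃ m : ℕ, Nonempty (G ≃* Cfsg.POmega (ZMod 3) (Cfsg.quadFormOdd m (ZMod 3)))) ∨ Cfsg.IsFi22 G ∨ Cfsg.IsFi23 G := by
  obtain ⟨x, y, hxy⟩ := hna
  have hZ : Subgroup.center G = ⊥ := by
    rcases IsSimpleGroup.eq_bot_or_eq_top_of_normal (Subgroup.center G) inferInstance with h | h
    · exact h
    · exact absurd (Subgroup.mem_center_iff.mp (h ▸ Subgroup.mem_top y) x) hxy
  have hcomm : commutator G = ⊤ := by
    rcases IsSimpleGroup.eq_bot_or_eq_top_of_normal (commutator G) inferInstance with h | h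
    · refine absurd ?_ hxy
      exact commutatorElement_eq_one_iff_mul_comm.mp (Subgroup.mem_bot.mp (h ▸
        Subgroup.commutator_mem_commutator (Subgroup.mem_top x) (Subgroup.mem_top y)))
    · exact h
  have hsimple : IsSimpleGroup (commutator G) := by
    rw [hcomm]
    exact Subgroup.topEquiv.isSimpleGroup
  rcases simple_derived S hD hZ hsimple with ⟨e, -⟩ | ⟨k, hk⟩
  · exact absurd ‹IsSimpleGroup G› (not_simple_of_perm le_rfl e)
  cases k with
  | sym n =>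
    obtain ⟨h5, -, e, -⟩ := hk
    exact absurd ‹IsSimpleGroup G› (not_simple_of_perm (by omega) e)
  | symp m => exact Or.inl ⟨m, ⟨hk.2.choose⟩⟩
  | unit n =>
    obtain ⟨-, F, i1, i2, hF, e, -⟩ := hk
    exact Or.inr (Or.inl ⟨F, i1, i2, n, hF, ⟨e⟩⟩)
  | orth b m => exact absurd ‹IsSimpleGroup G› (hO G D b m hk)
  | refl n μ c => exact Or.inr (Or.inr (Or.inl (hR G D n μ c hk inferInstance)))
  | m22 =>
    have hp := (Cfsg.Agent.S5361.result hD hZ ?_).1.mp hsimple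
    · exact Or.inr (Or.inr (Or.inr (Or.inl ⟨inferInstance,
        by rw [(Cfsg.Agent.S5373.result (cls_group hD) hp hk.1 Cfsg.Agent.S5401.result.2.2).2.1]; norm_num⟩)))
    · exact pair_of_simple hD hZ
  | m23 =>
    have hp := (Cfsg.Agent.S5361.result hD hZ (pair_of_simple hD hZ)).1.mp hsimple
    exact Or.inr (Or.inr (Or.inr (Or.inr ⟨inferInstance,
      by rw [(Cfsg.Agent.S5374.result (cls_group hD) hp hk.1 Cfsg.Agent.S5401.result.2.2).2.2.1]; norm_num⟩)))
  | m24 =>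
    exfalso
    have hp := (Cfsg.Agent.S5361.result hD hZ (pair_of_simple hD hZ)).1.mp hsimple
    have hi := (Cfsg.Agent.S5375.result (cls_group hD) hp hk).1
    rcases IsSimpleGroup.eq_bot_or_eq_top_of_normal (Cfsg.layer G) inferInstance with h | h
    · rw [h, Subgroup.index_bot] at hi
      haveI : Fact (Nat.Prime 2) := ⟨Nat.prime_two⟩
      haveI := isCyclic_of_prime_card hi
      exact hxy (by
        letI := IsCyclic.commGroup (α := G)
        exact mul_comm x y)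
    · rw [h, Subgroup.index_top] at hi; exact absurd hi (by norm_num)

end CfsgFischer
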