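/-
The partners of a transposition: their commuting graph is connected, and modulo the centre they form again a
primitive class with trivial cores when the cores of their group are central.
-/
import Cfsg.Agent.Lib.Fischer.Interface
import Cfsg.Agent.Lib.ThreeTrans.Fischer
import Cfsg.Agent.Lib.ThreeTrans.Descent

set_option autoImplicit false

namespace CfsgFischer

open Cfsg CfsgLib CfsgThreeTrans

universe u

variable {G : Type u} [Group G] {D : Set G}

/-- Joined by a path of commuting partners of `d`. -/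
abbrev Reach (D : Set G) (d x y : G) : Prop :=
  Relation.ReflTransGen (fun p q => p ∈ Ds D d ∧ q ∈ Ds D d ∧ Commute p q) x y

theorem cj_pair' (hD : IsThreeTranspositionSet D) {x y : G} (hx : x ∈ D) (hy : y ∈ D) (hxy : ¬ Commute x y) :
    (x * y) * x * (x * y)⁻¹ = y := by
  rw [mul_inv_rev, inv_self hD hx, inv_self hD hy]
  calc x * y * x * (y * x) = (x * y * x) * y * x := by simp only [mul_assoc]
    _ = (y * x * y) * y * x := by rw [braid hD hx hy hxy]
    _ = y := by simp only [mul_assoc, mul_mul_cancel_self (mul_self hD hy), mul_self hD hx, mul_one]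

theorem Reach.symm {d x y : G} (h : Reach D d x y) : Reach D d y x := by
  induction h with
  | refl => exact Relation.ReflTransGen.refl
  | tail _ hst ih => exact Relation.ReflTransGen.head ⟨hst.2.1, hst.1, hst.2.2.symm⟩ ih

theorem Reach.cj (hD : IsThreeTranspositionClass D) {d x y : G} (h : Reach D d x y) (g : G) :
    Reach D (g * d * g⁻¹) (g * x * g⁻¹) (g * y * g⁻¹) := by
  refine Relation.ReflTransGen.lift (fun z => g * z * g⁻¹) (fun p q hpq => ?_) _ _ h
  exact ⟨cj_Ds hD g d ▸ ⟨p, hpq.1, rfl⟩, cj_Ds hD g d ▸ ⟨q, hpq.2.1, rfl⟩, (commute_cj_iff g).mpr hpq.2.2⟩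

/-- The partners of a member form one class of the group they generate. -/
theorem local_class [Finite G] (hP : Prim D) {d : G} (hd : d ∈ D) :
    IsThreeTranspositionClass {x : ↥(Subgroup.closure (Ds D d)) | (x : G) ∈ Ds D d} := by
  obtain ⟨e, he⟩ := exists_partner hP.cls hP.pair hd
  exact partner_class hP.cls (Ds_transitive hP.cls hP.prim hP.pair hd) ⟨e, he⟩

/-- A member has two partners. -/
theorem local_two [Finite G] (hP : Prim D) {d : G} (hd : d ∈ D) :
    ∃ a ∈ {x : ↥(Subgroup.closure (Ds D d)) | (x : G) ∈ Ds D d},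
      ∃ b ∈ {x : ↥(Subgroup.closure (Ds D d)) | (x : G) ∈ Ds D d}, a ≠ b := by
  obtain ⟨e, he⟩ := exists_partner hP.cls hP.pair hd
  by_contra hno
  push Not at hno
  have huniq : ∀ a ∈ Ds D d, ∀ b ∈ Ds D d, a = b := fun a ha b hb =>
    congrArg Subtype.val (hno ⟨a, Subgroup.subset_closure ha⟩ ha ⟨b, Subgroup.subset_closure hb⟩ hb)
  -- then the two members form a component of the commuting graph
  have hsub : D ⊆ {d, e} := by
    refine eq_cls_of_closed hP.cls hP.prim hP.pair hd (S := {d, e}) (Or.inl rfl) fun u hu v hv huv => ?_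
    rcases hu with rfl | rfl
    · by_cases h : v = u
      · exact Or.inl h
      · exact Or.inr (huniq v ⟨hv, h, huv⟩ e he)
    · by_cases h : v = u
      · exact Or.inr h
      · left
        obtain ⟨g, hg⟩ := cls_exists_conj hP.cls hd he.1
        have hpre : ∀ w ∈ Ds D u, ∃ z ∈ Ds D d, g * z * g⁻¹ = w := fun w hw => by
          have := (cj_Ds hP.cls g d).symm.subset (show w ∈ Ds D (g * d * g⁻¹) from hg.symm ▸ hw)
          exact this
        obtain ⟨z, hz, rfl⟩ := hpre v ⟨hv, h, huv⟩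
        obtain ⟨z', hz', hz''⟩ := hpre d ⟨hd, fun h' => he.2.1 h'.symm, he.2.2.symm⟩
        rw [← hz'', huniq z hz z' hz']
  obtain ⟨c, hc, hdc⟩ := exists_noncommute hP.cls hP.prim.2.1 hd
  rcases hsub hc with rfl | rfl
  · exact hdc (Commute.refl _)
  · exact hdc he.2.2

variable [Finite G]

/-- **The commuting graph on the partners of `d` is connected**, when the 2-core of their group is central and two
of them commute. -/
theorem local_connected (hP : Prim D) {d : G} (hd : d ∈ D)
    (h2 : pCore 2 ↥(Subgroup.closure (Ds D d)) ≤ Subgroup.center ↥(Subgroup.closure (Ds D d)))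
    (hpair : ∃ x ∈ Ds D d, ∃ y ∈ Ds D d, x ≠ y ∧ Commute x y) :
    ∀ a ∈ Ds D d, ∀ b ∈ Ds D d, Reach D d a b := by
  have hD := hP.cls
  intro a ha b hb
  by_contra hab
  -- a pair of noncommuting members in one component
  obtain ⟨x, hx, y, hy, hxy, hnc⟩ : ∃ x ∈ Ds D d, ∃ y ∈ Ds D d, Reach D d x y ∧ ¬ Commute x y := by
    by_contra hno
    push Not at hno
    obtain ⟨x, hx, y, hy, hne, hc⟩ := hpair
    refine hne (congrArg Subtype.val (?_ : (⟨x, Subgroup.subset_closure hx⟩ : ↥(Subgroup.closure (Ds D d))) =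
      ⟨y, Subgroup.subset_closure hy⟩))
    have hV := Vs_singleton (local_class hP hd) (local_two hP hd) h2 (d := ⟨y, Subgroup.subset_closure hy⟩)
      (show (⟨y, Subgroup.subset_closure hy⟩ : ↥(Subgroup.closure (Ds D d))) ∈ {z : ↥(Subgroup.closure (Ds D d)) | (z : G) ∈ Ds D d} from hy)
    refine Set.mem_singleton_iff.mp ?_
    rw [← hV]
    refine ⟨hx, fun e he => ?_⟩
    have key : ∀ {p q : G}, p ∈ Ds D d → q ∈ Ds D d → Commute p q → Commute q (e : G) → Commute p (e : G) :=
      fun hp hq hpq hqe => hno _ hp _ he ((Relation.ReflTransGen.single ⟨hp, hq, hpq⟩).tail ⟨hq, he, hqe⟩)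
    exact ⟨fun h => Subtype.ext (key hy hx hc.symm (congrArg Subtype.val h.eq)).eq,
      fun h => Subtype.ext (key hx hy hc (congrArg Subtype.val h.eq)).eq⟩
  have hnab : ¬ Commute a b := fun h => hab (Relation.ReflTransGen.single ⟨ha, hb, h⟩)
  -- move `(a, b)` onto `(x, y)`
  obtain ⟨g, hga⟩ := cls_exists_conj hD ha.1 hx.1
  have hgb : ¬ Commute x (g * b * g⁻¹) := by rw [← hga, commute_cj_iff]; exact hnab
  obtain ⟨k, hkx, hky⟩ := rank_three_far hD hP.prim hP.pair hx.1 _ (cls_conj hD g hb.1) hgb y hy.1 hnc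
  set i := k * g * d * (k * g)⁻¹ with hi
  have hkgx : k * g * a * (k * g)⁻¹ = x := by rw [← cj_cj, hga, hkx.eq, mul_inv_cancel_right]
  have hkgy : k * g * b * (k * g)⁻¹ = y := by rw [← cj_cj, hky]
  have hix : x ∈ Ds D i := by rw [hi, ← cj_Ds hD, ← hkgx]; exact ⟨a, ha, rfl⟩
  have hiy : y ∈ Ds D i := by rw [hi, ← cj_Ds hD, ← hkgy]; exact ⟨b, hb, rfl⟩
  have hcross : ¬ Reach D i x y := fun h => hab (by
    have := h.cj hD (k * g)⁻¹
    rwa [hi, ← hkgx, ← hkgy, cj_cj, cj_cj, cj_cj, inv_mul_cancel, one_mul, inv_one, mul_one, one_mul, mul_one,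
      one_mul, mul_one] at this)
  have hiD : i ∈ D := cls_conj hD _ hd
  have hnid : ¬ Commute i d := by
    intro hc
    by_cases e : d = i
    · exact hcross (e ▸ hxy)
    · exact hcross ((Relation.ReflTransGen.single ⟨hix, ⟨hd, e, hc⟩, hx.2.2.symm⟩).tail
        ⟨⟨hd, e, hc⟩, hiy, hy.2.2⟩)
  have hfix : ∀ z, Commute i z → Commute d z → i * d * z * (i * d)⁻¹ = z := fun z h1 h2 => by
    rw [(h1.mul_left h2).eq, mul_inv_cancel_right]
  have := (show Reach D i x y → False from hcross)
  apply this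
  have h1 := hxy.cj hD (i * d)⁻¹
  have e1 : (i * d)⁻¹ * d * (i * d)⁻¹⁻¹ = i := by
    have := congrArg (fun z => (i * d)⁻¹ * z * (i * d)⁻¹⁻¹) (cj_pair' hD.1 hiD hd hnid)
    simp only [cj_cj, inv_mul_cancel, one_mul, inv_one, mul_one] at this
    exact this.symm
  have e2 : ∀ z, Commute i z → Commute d z → (i * d)⁻¹ * z * (i * d)⁻¹⁻¹ = z := fun z h1 h2 => by
    conv_lhs => rw [← hfix z h1 h2]
    group
  rwa [e1, e2 x hix.2.2 hx.2.2, e2 y hiy.2.2 hy.2.2] at h1

end CfsgFischer
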