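/-
The group of the partners modulo its centre is again primitive with trivial cores.
-/
import Cfsg.Agent.Lib.Fischer.Local

set_option autoImplicit false

namespace CfsgFischer

open Cfsg CfsgLib CfsgThreeTrans

universe u

variable {G : Type u} [Group G] [Finite G] {D : Set G}

/-- A class with central cores, modulo the centre: trivial centre, injective and reflecting commutation. -/
theorem class_quot {X : Type u} [Group X] [Finite X] {A : Set X} (hA : IsThreeTranspositionClass A)
    (hA2 : ∃ a ∈ A, ∃ b ∈ A, a ≠ b) (h2 : pCore 2 X ≤ Subgroup.center X) (h3 : pCore 3 X ≤ Subgroup.center X) :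
    IsThreeTranspositionClass ((QuotientGroup.mk : X → X ⧸ Subgroup.center X) '' A) ∧
      Set.InjOn (QuotientGroup.mk : X → X ⧸ Subgroup.center X) A ∧
      (∀ a ∈ A, ∀ b ∈ A, Commute (a : X ⧸ Subgroup.center X) b → Commute a b) ∧
      Subgroup.center (X ⧸ Subgroup.center X) = ⊥ ∧
      pCore 2 (X ⧸ Subgroup.center X) = ⊥ ∧ pCore 3 (X ⧸ Subgroup.center X) = ⊥ := by
  set q := QuotientGroup.mk' (Subgroup.center X) with hq
  have hcls : IsThreeTranspositionClass (q '' A) := map_class hA q (QuotientGroup.mk'_surjective _) fun a ha h => by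
    obtain ⟨b, hb, hnc⟩ := exists_noncommute hA hA2 ha
    exact hnc (Subgroup.mem_center_iff.mp ((QuotientGroup.eq_one_iff a).mp h) b).symm
  have hinj : Set.InjOn q A := by
    intro a ha b hb hab
    have hz : a * b ∈ Subgroup.center X := by
      refine (QuotientGroup.eq_one_iff _).mp (show q (a * b) = 1 from ?_)
      rw [map_mul, hab, ← map_mul, mul_self hA.1 hb, map_one]
    refine eq_of_mul_central hA hA2 h2 ha hb ?_ hz
    have h1 := Subgroup.mem_center_iff.mp hz a
    rw [mul_assoc, mul_left_cancel_iff] at h1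
    exact h1
  have hrefl : ∀ a ∈ A, ∀ b ∈ A, Commute (q a) (q b) → Commute a b := by
    intro a ha b hb h
    by_contra hn
    have hb' := congrArg q (braid hA.1 ha hb hn)
    simp only [map_mul] at hb'
    rw [mul_assoc, ← h.eq, mul_assoc (q a) (q b), mul_left_cancel_iff, mul_left_inj] at hb'
    exact hn (hinj ha hb hb' ▸ Commute.refl _)
  refine ⟨hcls, hinj, hrefl, ?_, quot_center_core hA h2 h3 Nat.prime_two, quot_center_core hA h2 h3 Nat.prime_three⟩
  refine eq_bot_iff.mpr fun x hx => ?_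
  obtain ⟨g, rfl⟩ := QuotientGroup.mk'_surjective (Subgroup.center X) x
  refine Subgroup.mem_bot.mpr ((QuotientGroup.eq_one_iff g).mpr (mem_center_of_commute_cls hA fun a ha => ?_))
  have h : q (g * a * g⁻¹) = q a := by
    rw [map_mul, map_mul, map_inv, ← Subgroup.mem_center_iff.mp hx (q a), mul_inv_cancel_right]
  exact mul_inv_eq_iff_eq_mul.mp (hinj (cls_conj hA g ha) ha h)

/-- Two partners of a member commute, when the 3-core of their group is central. -/
theorem local_pair (hP : Prim D) {d : G} (hd : d ∈ D)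
    (h3 : pCore 3 ↥(Subgroup.closure (Ds D d)) ≤ Subgroup.center ↥(Subgroup.closure (Ds D d))) :
    ∃ x ∈ Ds D d, ∃ y ∈ Ds D d, x ≠ y ∧ Commute x y := by
  obtain ⟨a, ha, b, hb, hne, hc⟩ := pair_of_cores (local_class hP hd) (local_two hP hd) h3
  exact ⟨a, ha, b, hb, fun e => hne (Subtype.ext e), congrArg Subtype.val hc.eq⟩

/-- The local class is primitive with trivial cores, and smaller. -/
theorem local_good : LocalGood.{u} := by
  intro G _ _ D hP d hd hc
  obtain ⟨h3, h2⟩ := hc
  obtain ⟨hcls, hinj, hrefl, hZ, c2, c3⟩ := class_quot (local_class hP hd) (local_two hP hd) h2 h3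
  obtain ⟨x, hx, y, hy, hxy, hcxy⟩ := local_pair hP hd h3
  have hpair : ∃ a ∈ QD (Ds D d), ∃ b ∈ QD (Ds D d), a ≠ b ∧ Commute a b := by
    refine ⟨_, ⟨⟨x, Subgroup.subset_closure hx⟩, hx, rfl⟩, _, ⟨⟨y, Subgroup.subset_closure hy⟩, hy, rfl⟩,
      fun e => hxy (congrArg Subtype.val (hinj (by exact hx) (by exact hy) e)), ?_⟩
    exact ((show Commute (⟨x, Subgroup.subset_closure hx⟩ : ↥(Subgroup.closure (Ds D d)))
      ⟨y, Subgroup.subset_closure hy⟩ from Subtype.ext hcxy.eq)).map
        (QuotientGroup.mk' (Subgroup.center ↥(Subgroup.closure (Ds D d))))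
  have hconn : (commutingGraph (QD (Ds D d))).Connected := by
    haveI : Nonempty (QD (Ds D d)) := ⟨⟨_, ⟨⟨x, Subgroup.subset_closure hx⟩, hx, rfl⟩⟩⟩
    refine ⟨fun u v => ?_⟩
    obtain ⟨_, a, ha, rfl⟩ := u
    obtain ⟨_, b, hb, rfl⟩ := v
    have hr := local_connected hP hd h2 ⟨x, hx, y, hy, hxy, hcxy⟩ a ha b hb
    suffices ∀ z, Reach D d a z → ∀ w : ↥(Subgroup.closure (Ds D d)), ∀ hw : (w : G) ∈ Ds D d, (w : G) = z →
        (commutingGraph (QD (Ds D d))).Reachable ⟨_, a, ha, rfl⟩ ⟨_, w, hw, rfl⟩ from this _ hr b hb rfl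
    intro z hz
    induction hz with
    | refl =>
      intro w hw e
      obtain rfl : w = a := Subtype.ext e
      exact SimpleGraph.Reachable.refl _
    | @tail p r _ hst ih =>
      intro w hw e
      subst e
      have h1 := ih ⟨p, Subgroup.subset_closure hst.1⟩ hst.1 rfl
      by_cases hpw : (⟨p, Subgroup.subset_closure hst.1⟩ : ↥(Subgroup.closure (Ds D d))) = w
      · simp only [hpw] at h1; exact h1
      refine h1.trans (SimpleGraph.Adj.reachable ((SimpleGraph.fromRel_adj _ _ _).mpr ⟨?_, Or.inl ?_⟩))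
      · exact fun h => hpw (hinj hst.1 hw (congrArg Subtype.val h))
      · exact (show Commute (⟨p, Subgroup.subset_closure hst.1⟩ : ↥(Subgroup.closure (Ds D d))) w from
          Subtype.ext hst.2.2.eq).map (QuotientGroup.mk' (Subgroup.center ↥(Subgroup.closure (Ds D d))))
  have hgood : Good (QD (Ds D d)) := ⟨hcls, hZ, c2, c3, hpair⟩
  refine ⟨⟨hgood, (equivalences hcls hZ hpair).2.mpr ⟨c2, c3, hconn⟩⟩, ?_⟩
  calc (QD (Ds D d)).ncard ≤ {z : ↥(Subgroup.closure (Ds D d)) | (z : G) ∈ Ds D d}.ncard := Set.ncard_image_le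
    _ = ((fun z : ↥(Subgroup.closure (Ds D d)) => (z : G)) '' {z | (z : G) ∈ Ds D d}).ncard :=
      (Set.ncard_image_of_injective _ Subtype.val_injective).symm
    _ < D.ncard := Set.ncard_lt_ncard ⟨by rintro _ ⟨z, hz, rfl⟩; exact hz.1, fun h => by
      obtain ⟨z, hz, hzd⟩ := h hd
      exact hz.2.1 hzd⟩ (Set.toFinite _)

end CfsgFischer
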