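/-
The fibres of a good class over its layer: their sizes.
-/
import Cfsg.Agent.Lib.Fischer.Triality.Fibres

set_option autoImplicit false

namespace CfsgFischer.Triality

open Cfsg CfsgLib CfsgThreeTrans

universe u

variable {G : Type u} [Group G] [Finite G] {D : Set G}

/-- The fibres have equal size. -/
theorem fib_ncard (hD : IsThreeTranspositionClass D) {a b : G} (ha : a ∈ D) (hb : b ∈ D) :
    (Fib D b).ncard = (Fib D a).ncard := by
  have le : ∀ {p q : G}, p ∈ D → q ∈ D → (Fib D p).ncard ≤ (Fib D q).ncard := fun {p q} hp hq => by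
    obtain ⟨g, rfl⟩ := cls_exists_conj hD hp hq
    rw [← Set.ncard_image_of_injective (Fib D p) (cj_injective g)]
    exact Set.ncard_le_ncard (by rintro _ ⟨x, hx, rfl⟩; exact fib_cj hD g hx) (Set.toFinite _)
  exact (le hb ha).antisymm (le ha hb)

/-- The size of a fibre divides the size of the class. -/
theorem fib_dvd (hD : IsThreeTranspositionClass D) {a : G} (ha : a ∈ D) : (Fib D a).ncard ∣ D.ncard := by
  classical
  set T := (Set.toFinite D).toFinset with hT
  rw [Set.ncard_eq_toFinset_card D, Finset.card_eq_sum_card_image (fun x => Fib D x) T,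
    Finset.sum_const_nat (m := (Fib D a).ncard) ?_]
  · exact dvd_mul_left _ _
  intro F hF
  obtain ⟨b, hb, rfl⟩ := Finset.mem_image.mp hF
  have hbD : b ∈ D := (Set.Finite.mem_toFinset _).mp hb
  rw [← fib_ncard hD ha hbD, Set.ncard_eq_toFinset_card (Fib D b)]
  congr 1
  ext x
  simp only [Finset.mem_filter, Set.Finite.mem_toFinset, hT]
  exact ⟨fun h => h.2 ▸ self_mem h.1, fun h => ⟨h.1, fib_eq h⟩⟩

variable (hG : Good D)
include hG

/-- The partners lie in the fibre. -/
theorem fib_lb {a : G} (ha : a ∈ D) : (Ds D a).ncard + 1 ≤ (Fib D a).ncard := by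
  rw [← Set.ncard_insert_of_notMem (fun h : a ∈ Ds D a => h.2.1 rfl) (Set.toFinite _)]
  refine Set.ncard_le_ncard ?_ (Set.toFinite _)
  rintro x (rfl | hx)
  exacts [self_mem ha, commute_fib hG ha hx.1 hx.2.2]

/-- With one fibre the class is primitive. -/
theorem prim_of_fib {a : G} (ha : a ∈ D) (hall : D ⊆ Fib D a) : Prim D := by
  have e : commutator G = layer G :=
    le_antisymm (commutator_le_of_mod hG.cls ha _ fun x hx => (hall hx).2) layer_le_commutator
  exact ⟨hG, (equivalences hG.cls hG.center hG.pair).1.mp (e ▸ layer_simple hG)⟩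

end CfsgFischer.Triality
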