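/-
Coordinates on the partners of a transposition taken from the type of the partner group, and elementary facts
about pairs of noncommuting members in a primitive group.
-/
import Cfsg.Agent.Lib.ThreeTrans.Rank3
import Cfsg.Agent.Lib.ThreeTrans.Descent

set_option autoImplicit false
set_option linter.unusedSectionVars false

namespace CfsgFischer

open Cfsg CfsgThreeTrans

universe u v

variable {G : Type u} [Group G] [Finite G] {D : Set G}

/-- A bijection from the partners of `d` onto a set `T` compatible with commuting and with conjugation. -/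
structure Coord (D : Set G) (d : G) {K : Type v} [Group K] (T : Set K) where
  f : G → K
  mem : ∀ x ∈ Ds D d, f x ∈ T
  inj : ∀ x ∈ Ds D d, ∀ y ∈ Ds D d, f x = f y → x = y
  surj : ∀ t ∈ T, ∃ x ∈ Ds D d, f x = t
  comm : ∀ x ∈ Ds D d, ∀ y ∈ Ds D d, (Commute x y ↔ Commute (f x) (f y))
  conj : ∀ x ∈ Ds D d, ∀ y ∈ Ds D d, f (y * x * y⁻¹) = f y * f x * (f y)⁻¹

theorem Ds_closed (hD : IsThreeTranspositionClass D) {d g x : G} (hg : Commute g d) (hx : x ∈ Ds D d) :
    g * x * g⁻¹ ∈ Ds D d := by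
  refine ⟨cls_conj hD g hx.1, fun e => hx.2.1 ?_, ?_⟩
  · have h1 : g * d * g⁻¹ = d := by rw [hg.eq, mul_inv_cancel_right]
    exact cj_injective g (e.trans h1.symm)
  · have h1 : g * d * g⁻¹ = d := by rw [hg.eq, mul_inv_cancel_right]
    have := (commute_cj_iff g).mpr hx.2.2
    rwa [h1] at this

theorem Ds_closed_mem (hD : IsThreeTranspositionClass D) {d x y : G} (hx : x ∈ Ds D d) (hy : y ∈ Ds D d) :
    y * x * y⁻¹ ∈ Ds D d :=
  Ds_closed hD hy.2.2.symm hx

/-- The partners of `d` inside the group they generate. -/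
abbrev PH (D : Set G) (d : G) : Set ↥(Subgroup.closure (Ds D d)) :=
  {x : ↥(Subgroup.closure (Ds D d)) | (x : G) ∈ Ds D d}

/-- Coordinates from an identification of the partner group modulo its centre. -/
theorem coord_of_iso {K : Type v} [Group K] (hD : IsThreeTranspositionClass D) (hp : IsPrimitiveUnderConj D)
    (hw : ∃ a ∈ D, ∃ b ∈ D, a ≠ b ∧ Commute a b) {d : G} (hd : d ∈ D)
    (h2 : pCore 2 ↥(Subgroup.closure (Ds D d)) ≤ Subgroup.center ↥(Subgroup.closure (Ds D d))) {T : Set K}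
    (hT : ∃ t ∈ T, t ≠ 1)
    (e : ↥(Subgroup.closure (Ds D d)) ⧸ Subgroup.center ↥(Subgroup.closure (Ds D d)) ≃* K)
    (he : e '' ((QuotientGroup.mk : ↥(Subgroup.closure (Ds D d)) → _) ''
      {x : ↥(Subgroup.closure (Ds D d)) | (x : G) ∈ Ds D d}) = T) :
    Nonempty (Coord D d T) := by
  classical
  obtain ⟨e0, he0⟩ := exists_partner hD hw hd
  have hcls := partner_class hD (Ds_transitive hD hp hw hd) ⟨e0, he0⟩
  let φ : ↥(Subgroup.closure (Ds D d)) →* K :=
    e.toMonoidHom.comp (QuotientGroup.mk' (Subgroup.center ↥(Subgroup.closure (Ds D d))))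
  have hker : ∀ h, φ h = 1 ↔ h ∈ Subgroup.center ↥(Subgroup.closure (Ds D d)) := fun h => by
    show e (QuotientGroup.mk h) = 1 ↔ _
    rw [MulEquiv.map_eq_one_iff, QuotientGroup.eq_one_iff]
  have hT' : φ '' {x : ↥(Subgroup.closure (Ds D d)) | (x : G) ∈ Ds D d} = T := by
    rw [← he, Set.image_image]; rfl
  have h2' : ∃ a ∈ {x : ↥(Subgroup.closure (Ds D d)) | (x : G) ∈ Ds D d},
      ∃ b ∈ {x : ↥(Subgroup.closure (Ds D d)) | (x : G) ∈ Ds D d}, a ≠ b := by
    by_contra hno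
    push Not at hno
    obtain ⟨t, ht, ht1⟩ := hT
    rw [← hT'] at ht
    obtain ⟨a, ha, rfl⟩ := ht
    exact ht1 ((hker a).mpr (mem_center_of_commute_cls hcls fun b hb => by rw [hno a ha b hb]; exact Commute.refl b))
  have hinj : ∀ (x y : ↥(Subgroup.closure (Ds D d))), (x : G) ∈ Ds D d → (y : G) ∈ Ds D d →
      φ x = φ y → x = y := by
    intro x y hx hy hxy
    have hz : x * y ∈ Subgroup.center ↥(Subgroup.closure (Ds D d)) := by
      rw [← hker, map_mul, hxy, ← map_mul, mul_self hcls.1 (show y ∈ PH D d from hy), map_one]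
    have hc : Commute x y := by
      have h1 := Subgroup.mem_center_iff.mp hz x
      rw [mul_assoc, mul_left_cancel_iff] at h1
      exact h1
    exact eq_of_mul_central hcls h2' h2 hx hy hc hz
  let f : G → K := fun x => if hx : x ∈ Subgroup.closure (Ds D d) then φ ⟨x, hx⟩ else 1
  have hf : ∀ (x : G) (hx : x ∈ Ds D d), f x = φ ⟨x, Subgroup.subset_closure hx⟩ := fun x hx =>
    dif_pos (Subgroup.subset_closure hx)
  refine ⟨{ f := f, mem := ?_, inj := ?_, surj := ?_, comm := ?_, conj := ?_ }⟩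
  · intro x hx
    rw [hf x hx, ← hT']
    exact ⟨_, hx, rfl⟩
  · intro x hx y hy h
    rw [hf x hx, hf y hy] at h
    exact congrArg Subtype.val (hinj _ _ hx hy h)
  · intro t ht
    rw [← hT'] at ht
    obtain ⟨a, ha, rfl⟩ := ht
    exact ⟨a, ha, hf _ ha⟩
  · intro x hx y hy
    rw [hf x hx, hf y hy]
    set x' : ↥(Subgroup.closure (Ds D d)) := ⟨x, Subgroup.subset_closure hx⟩
    set y' : ↥(Subgroup.closure (Ds D d)) := ⟨y, Subgroup.subset_closure hy⟩
    refine ⟨fun h => ((show Commute x' y' from Subtype.ext h.eq)).map φ, fun h => ?_⟩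
    by_contra hn
    have hn' : ¬ Commute x' y' := fun hc => hn (congrArg Subtype.val hc.eq)
    have hb := congrArg φ (braid hcls.1 (show x' ∈ PH D d from hx)
      (show y' ∈ PH D d from hy) hn')
    simp only [map_mul] at hb
    have hxy : φ x' = φ y' := by
      rw [mul_assoc, ← h.eq, mul_assoc (φ x') (φ y'), mul_left_cancel_iff, mul_left_inj] at hb
      exact hb
    exact hn' (by rw [hinj x' y' hx hy hxy])
  · intro x hx y hy
    rw [hf x hx, hf y hy, hf _ (Ds_closed_mem hD hx hy), ← map_inv, ← map_mul, ← map_mul]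
    rfl

namespace Coord

variable {K : Type v} [Group K] {T : Set K} {d : G}

/-- Coordinates move with the point. -/
theorem cj (hD : IsThreeTranspositionClass D) (C : Coord D d T) (g : G) : Nonempty (Coord D (g * d * g⁻¹) T) := by
  have back : ∀ x ∈ Ds D (g * d * g⁻¹), g⁻¹ * x * g⁻¹⁻¹ ∈ Ds D d := by
    intro x hx
    rw [← cj_Ds hD] at hx
    obtain ⟨y, hy, rfl⟩ := hx
    rwa [cj_cj, inv_mul_cancel, one_mul, inv_one, mul_one]
  refine ⟨{
    f := fun x => C.f (g⁻¹ * x * g⁻¹⁻¹)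
    mem := fun x hx => C.mem _ (back x hx)
    inj := fun x hx y hy h => cj_injective g⁻¹ (C.inj _ (back x hx) _ (back y hy) h)
    surj := fun t ht => ?_
    comm := fun x hx y hy => ?_
    conj := fun x hx y hy => ?_ }⟩
  · obtain ⟨x, hx, rfl⟩ := C.surj t ht
    refine ⟨g * x * g⁻¹, ?_, ?_⟩
    · rw [← cj_Ds hD]; exact ⟨x, hx, rfl⟩
    · show C.f _ = _
      rw [cj_cj, inv_mul_cancel, one_mul, inv_one, mul_one]
  · exact (commute_cj_iff g⁻¹).symm.trans (C.comm _ (back x hx) _ (back y hy))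
  · show C.f (g⁻¹ * (y * x * y⁻¹) * g⁻¹⁻¹) = _
    rw [← C.conj _ (back x hx) _ (back y hy)]
    congr 1
    group

theorem exists_at (hD : IsThreeTranspositionClass D) (C : Coord D d T) (hd : d ∈ D) {a : G} (ha : a ∈ D) :
    Nonempty (Coord D a T) := by
  obtain ⟨g, rfl⟩ := cls_exists_conj hD hd ha
  exact C.cj hD g

end Coord

/-- Noncommuting members have a common partner. -/
theorem exists_common (hD : IsThreeTranspositionClass D) (hp : IsPrimitiveUnderConj D)
    (hw : ∃ a ∈ D, ∃ b ∈ D, a ≠ b ∧ Commute a b) {d c : G} (hd : d ∈ D) (hc : c ∈ D) (hdc : ¬ Commute d c) :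
    ∃ y, y ∈ Ds D d ∧ y ∈ Ds D c := by
  obtain ⟨c₀, hc₀, hdc₀, y, hy⟩ :
      ∃ c₀ ∈ D, ¬ Commute d c₀ ∧ ∃ y, y ∈ Ds D d ∧ y ∈ Ds D c₀ := by
    by_contra hno
    push Not at hno
    have hsub : D ⊆ insert d (Ds D d) := by
      refine eq_cls_of_closed hD hp hw hd (Set.mem_insert _ _) ?_
      intro u hu v hv huv
      by_cases hvd : v = d
      · exact Or.inl hvd
      by_cases hdv : Commute d v
      · exact Or.inr ⟨hv, hvd, hdv⟩
      · exfalso
        rcases Set.mem_insert_iff.mp hu with rfl | hu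
        · exact hdv huv
        · exact hno v hv hdv u hu ⟨hu.1, fun e => hdv (e ▸ hu.2.2), huv.symm⟩
    rcases hsub hc with e | e
    · exact hdc (e ▸ Commute.refl _)
    · exact hdc e.2.2
  obtain ⟨g, hg, rfl⟩ := rank_three_far hD hp hw hd c₀ hc₀ hdc₀ c hc hdc
  refine ⟨g * y * g⁻¹, Ds_closed hD hg hy.1, ?_⟩
  rw [← cj_Ds hD]
  exact ⟨y, hy.2, rfl⟩

/-- The members commuting with both. -/
def Sc (D : Set G) (d c : G) : Set G := Ds D d ∩ Ds D c

/-- A partner of `d` commuting with `c` lies in the common set. -/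
theorem mem_Sc {d c x : G} (hdc : ¬ Commute d c) (hx : x ∈ Ds D d) (hxc : Commute c x) : x ∈ Sc D d c :=
  ⟨hx, hx.1, fun e => hdc (e ▸ hx.2.2), hxc⟩

theorem mem_Sc_iff {d c x : G} (hdc : ¬ Commute d c) : x ∈ Sc D d c ↔ x ∈ Ds D d ∧ Commute c x :=
  ⟨fun h => ⟨h.1, h.2.2.2⟩, fun h => mem_Sc hdc h.1 h.2⟩

theorem mem_both {d x : G} (hd : d ∈ D) (hx : x ∈ Ds D d) : d ∈ Ds D x :=
  ⟨hd, fun e => hx.2.1 e.symm, hx.2.2.symm⟩

/-- The common set is closed under conjugation by its members. -/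
theorem Sc_closed (hD : IsThreeTranspositionClass D) {d c x y : G} (hx : x ∈ Sc D d c) (hy : y ∈ Sc D d c) :
    y * x * y⁻¹ ∈ Sc D d c :=
  ⟨Ds_closed_mem hD hx.1 hy.1, Ds_closed_mem hD hx.2 hy.2⟩

/-- Inside the partners of a common partner: the common set of `d` and `c` there is the common set of `d`, `c`
restricted to the partners of that member. -/
theorem Sc_inter {d c x y : G} : y ∈ Sc D d c ∩ Ds D x ↔ y ∈ Ds D x ∧ y ∈ Ds D d ∧ y ∈ Ds D c :=
  ⟨fun h => ⟨h.2, h.1.1, h.1.2⟩, fun h => ⟨⟨h.2.1, h.2.2⟩, h.1⟩⟩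

/-- All far pairs have common sets of the same size. -/
theorem Sc_ncard (hD : IsThreeTranspositionClass D) (hp : IsPrimitiveUnderConj D)
    (hw : ∃ a ∈ D, ∃ b ∈ D, a ≠ b ∧ Commute a b) {d c c' : G} (hd : d ∈ D) (hc : c ∈ D) (hdc : ¬ Commute d c)
    (hc' : c' ∈ D) (hdc' : ¬ Commute d c') : (Sc D d c').ncard = (Sc D d c).ncard := by
  obtain ⟨g, hg, rfl⟩ := rank_three_far hD hp hw hd c hc hdc c' hc' hdc'
  have hgd : g * d * g⁻¹ = d := by rw [hg.eq, mul_inv_cancel_right]
  rw [← Set.ncard_image_of_injective (Sc D d c) (cj_injective g)]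
  congr 1
  rw [Sc, Sc, Set.image_inter (cj_injective g), cj_Ds hD, cj_Ds hD, hgd]

end CfsgFischer
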