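/-
Descending to a set of members closed under conjugation whose local classes are projective reflection classes:
the group it generates modulo the centre carries a good class with the same local classes.
-/
import Cfsg.Agent.Lib.Fischer.LocalGood
import Cfsg.Agent.Lib.Fischer.Refl.Coord
import Cfsg.Agent.Lib.ThreeTrans.TypeM
import Cfsg.Agent.Lib.ThreeTrans.Exist.Transport
import Cfsg.Agent.Lib.ReflClass.Quasi

set_option autoImplicit false

namespace CfsgFischer.Descend

open Cfsg CfsgLib CfsgThreeTrans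

universe u v

section Transfer

variable {G : Type u} [Group G] {D : Set G} {A : Set G} {K : Subgroup G} {H : Type v} [Group H]

/-- The members of `A` inside a subgroup. -/
abbrev Sub (A : Set G) (K : Subgroup G) : Set K := {a | (a : G) ∈ A}

/-- The members of `A` generate the group they generate. -/
theorem sub_top (A : Set G) : Subgroup.closure (Sub A (Subgroup.closure A)) = ⊤ := Subgroup.closure_closure_coe_preimage

/-- A set of members closed under conjugation by its elements is invariant under the group they generate. -/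
theorem closed_closure (hD : IsThreeTranspositionSet D) (hAD : A ⊆ D)
    (hcl : ∀ a ∈ A, ∀ b ∈ A, b * a * b⁻¹ ∈ A) {g : G} (hg : g ∈ Subgroup.closure A) :
    ∀ a ∈ A, g * a * g⁻¹ ∈ A := by
  refine Subgroup.closure_induction'' (p := fun g _ => ∀ a ∈ A, g * a * g⁻¹ ∈ A) ?_ ?_ ?_ ?_ hg
  · exact fun x hx a ha => hcl a ha x hx
  · intro x hx a ha
    rw [inv_self hD (hAD hx)]
    exact hcl a ha x hx
  · intro a ha; simpa using ha
  · intro x y _ _ hx hy a ha
    rw [← cj_cj]
    exact hx _ (hy a ha)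

/-- A map injective on a closed set identifies the groups generated modulo their centres, with the classes. -/
theorem qg_transfer (hD : IsThreeTranspositionSet D) (hAD : A ⊆ D) (hcl : ∀ a ∈ A, ∀ b ∈ A, b * a * b⁻¹ ∈ A)
    (hAK : A ⊆ K) (f : K →* H) (hinj : Set.InjOn f (Sub A K)) :
    ∃ e : QG A ≃* QG (f '' Sub A K), e '' QD A = QD (f '' Sub A K) := by
  set A' := f '' Sub A K with hA'
  have hle : Subgroup.closure A ≤ K := (Subgroup.closure_le K).mpr hAK
  have himg : ∀ x : ↥(Subgroup.closure A), (x : G) ∈ A → f (Subgroup.inclusion hle x) ∈ A' :=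
    fun x hx => ⟨Subgroup.inclusion hle x, hx, rfl⟩
  have hmem : ∀ x : ↥(Subgroup.closure A), f (Subgroup.inclusion hle x) ∈ Subgroup.closure A' := by
    intro x
    have hx : x ∈ Subgroup.closure (Sub A (Subgroup.closure A)) := sub_top A ▸ Subgroup.mem_top x
    exact (Subgroup.closure_le ((Subgroup.closure A').comap (f.comp (Subgroup.inclusion hle)))).mpr
      (fun y hy => Subgroup.subset_closure (himg y hy)) hx
  let φ : ↥(Subgroup.closure A) →* ↥(Subgroup.closure A') := (f.comp (Subgroup.inclusion hle)).codRestrict _ hmem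
  have hφ : Function.Surjective φ := by
    rw [← MonoidHom.range_eq_top, eq_top_iff, ← Subgroup.closure_closure_coe_preimage (k := A'),
      Subgroup.closure_le]
    rintro ⟨y, hy⟩ (hyA : y ∈ A')
    obtain ⟨a, ha, rfl⟩ := hyA
    exact ⟨⟨(a : G), Subgroup.subset_closure ha⟩, Subtype.ext rfl⟩
  let Φ : ↥(Subgroup.closure A) →* QG A' := (QuotientGroup.mk' _).comp φ
  have hΦ : Function.Surjective Φ := (QuotientGroup.mk'_surjective _).comp hφ
  have hker : Subgroup.center ↥(Subgroup.closure A) = Φ.ker := by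
    ext x
    rw [MonoidHom.mem_ker]
    show _ ↔ QuotientGroup.mk' (Subgroup.center ↥(Subgroup.closure A')) (φ x) = 1
    rw [QuotientGroup.mk'_apply, QuotientGroup.eq_one_iff]
    refine ⟨fun hx => Subgroup.mem_center_iff.mpr fun y => ?_, fun hx => ?_⟩
    · obtain ⟨w, rfl⟩ := hφ y
      rw [← map_mul, ← map_mul, Subgroup.mem_center_iff.mp hx w]
    · have hfix : ∀ a : ↥(Subgroup.closure A), (a : G) ∈ A → a * x = x * a := by
        intro a ha
        have hca : (x : G) * a * (x : G)⁻¹ ∈ A := closed_closure hD hAD hcl x.2 a ha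
        have h1 : φ (x * a * x⁻¹) = φ a := by
          rw [map_mul, map_mul, map_inv, ← Subgroup.mem_center_iff.mp hx (φ a), mul_inv_cancel_right]
        have h2 := hinj (show Subgroup.inclusion hle (x * a * x⁻¹) ∈ Sub A K from hca)
          (show Subgroup.inclusion hle a ∈ Sub A K from ha) (congrArg Subtype.val h1)
        exact (mul_inv_eq_iff_eq_mul.mp (Subgroup.inclusion_injective hle h2)).symm
      refine Subgroup.mem_center_iff.mpr fun y => ?_
      refine Subgroup.mem_centralizer_singleton_iff.mp ((Subgroup.closure_le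
        (Subgroup.centralizer ({x} : Set ↥(Subgroup.closure A)))).mpr
          (fun a ha => Subgroup.mem_centralizer_singleton_iff.mpr (hfix a ha)) (x := y) ?_)
      exact sub_top A ▸ Subgroup.mem_top y
  refine ⟨(QuotientGroup.quotientMulEquivOfEq hker).trans (QuotientGroup.quotientKerEquivOfSurjective Φ hΦ), ?_⟩
  ext z
  constructor
  · rintro ⟨_, ⟨x, hx, rfl⟩, rfl⟩
    exact ⟨φ x, himg x hx, rfl⟩
  · rintro ⟨y, hy, rfl⟩
    obtain ⟨a, ha, hay⟩ : (y : H) ∈ A' := hy
    refine ⟨_, ⟨⟨(a : G), Subgroup.subset_closure ha⟩, ha, rfl⟩, ?_⟩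
    show (QuotientGroup.mk (φ ⟨(a : G), _⟩) : QG A') = _
    exact congrArg _ (Subtype.ext hay)

/-- Partner sets along a map injective and reflecting commutation on a set. -/
theorem image_Ds {f : K →* H} (hinj : Set.InjOn f (Sub A K))
    (hrefl : ∀ a ∈ Sub A K, ∀ b ∈ Sub A K, Commute (f a) (f b) → Commute a b) (hAD : A ⊆ D) {a : K}
    (ha : a ∈ Sub A K) : f '' Sub (A ∩ Ds D (a : G)) K = Ds (f '' Sub A K) (f a) := by
  ext z
  constructor
  · rintro ⟨b, ⟨hb, hba⟩, rfl⟩
    refine ⟨⟨b, hb, rfl⟩, fun e => hba.2.1 ?_, ?_⟩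
    · rw [hinj hb ha e]
    · exact (show Commute a b from Subtype.ext hba.2.2.eq).map f
  · rintro ⟨⟨b, hb, rfl⟩, hne, hc⟩
    exact ⟨b, ⟨hb, hAD hb, fun e => hne (congrArg f (Subtype.ext e)),
      congrArg Subtype.val (hrefl a ha b hb hc).eq⟩, rfl⟩

/-- A central core from the quotient. -/
theorem core_of_quot {X : Type u} [Group X] [Finite X] {p : ℕ} (hp : p.Prime)
    (h : pCore p (X ⧸ Subgroup.center X) = ⊥) : pCore p X ≤ Subgroup.center X := by
  haveI : Fact p.Prime := ⟨hp⟩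
  set q := QuotientGroup.mk' (Subgroup.center X)
  haveI : ((pCore p X).map q).Normal := Subgroup.Normal.map inferInstance q (QuotientGroup.mk'_surjective _)
  intro x hx
  have h1 : q x ∈ (⊥ : Subgroup _) := h ▸ le_pCore ((isPGroup_pCore p).map q) (Subgroup.mem_map_of_mem q hx)
  exact (QuotientGroup.eq_one_iff x).mp (Subgroup.mem_bot.mp h1)

end Transfer

section Refl

variable {n : ℕ} {μ c : ZMod 3}

/-- The kind of reflection classes is invariant under isomorphisms. -/
theorem isReflClass_congr {X : Type u} [Group X] {Y : Type v} [Group Y] {T : Set X} {T' : Set Y} (e : X ≃* Y)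
    (he : e '' T = T') (h : IsReflClass X T n μ c) : IsReflClass Y T' n μ c := by
  obtain ⟨Q, hQ, hμ, hc, f, hf⟩ := h
  refine ⟨Q, hQ, hμ, hc, e.symm.trans f, ?_⟩
  rw [← he, MulEquiv.coe_trans, Set.image_comp, Set.image_image (g := e.symm)]
  simp only [MulEquiv.symm_apply_apply, Set.image_id']
  exact hf

/-- A projective reflection class: a class with trivial centre and cores and without isolated members. -/
theorem refl_facts {X : Type u} [Group X] [Finite X] {T : Set X} (hn : 5 ≤ n) (h : IsReflClass X T n μ c) :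
    IsThreeTranspositionClass T ∧ Subgroup.center X = ⊥ ∧ pCore 2 X = ⊥ ∧ pCore 3 X = ⊥ ∧
      ∀ a ∈ T, ∃ b ∈ T, ¬ Commute a b := by
  obtain ⟨Q, hQ, -, hc, e, he⟩ := h
  set R := Cfsg.reflectionSubgroup (⇑Q) c
  set RS := {g : ↥R | (g : ↥(Cfsg.isometryGroup (ZMod 3) (⇑Q))) ∈ Cfsg.reflectionsOfNorm (⇑Q) c}
  have hR2 : ∃ a ∈ RS, ∃ b ∈ RS, a ≠ b := by
    obtain ⟨u, -, hu⟩ := CfsgReflClass.exists_orth_norm hQ (k := 0) (by omega) ![] (fun i => i.elim0)
      (fun i => i.elim0) hc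
    obtain ⟨v, hv, hvc⟩ := CfsgReflClass.exists_orth_norm hQ (k := 1) (by omega) ![u]
      (fun i => by fin_cases i; simp [hu, hc]) (fun i j hij => absurd (Subsingleton.elim i j) hij) hc
    obtain ⟨g, hg, hgu⟩ := Refl.rset_of_vec hc hu
    obtain ⟨k, hk, hkv⟩ := Refl.rset_of_vec hc hvc
    refine ⟨g, hg, k, hk, fun e => ?_⟩
    subst e
    have h0 : QuadraticMap.polar (⇑Q) u v = 0 := hv 0
    have e1 := hgu.2 v
    rw [h0, mul_zero, neg_zero, zero_smul, add_zero, hkv.2, QuadraticMap.polar, ← two_smul (ZMod 3) v,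
      QuadraticMap.map_smul, hvc, CfsgReflClass.inv_three hc, smul_eq_mul,
      show -(c * (2 * 2 * c - c - c)) = -(2 * (c * c)) by ring,
      (by decide : ∀ c : ZMod 3, c ≠ 0 → c * c = 1) c hc, show -((2 : ZMod 3) * 1) = 1 from rfl, one_smul,
      add_eq_left] at e1
    rw [e1, QuadraticMap.map_zero] at hvc
    exact hc hvc.symm
  obtain ⟨hcls, -, -, hZ, c2, c3⟩ := class_quot (CfsgReflClass.three_class_three hQ hn hc) hR2
    (CfsgReflClass.pCore_le_center hQ hn hc Nat.prime_two) (CfsgReflClass.pCore_le_center hQ hn hc Nat.prime_three)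
  have hT : T = e.symm '' ((QuotientGroup.mk : ↥R → ↥R ⧸ Subgroup.center ↥R) '' RS) := by
    rw [← he, Set.image_image]
    simp only [MulEquiv.symm_apply_apply, Set.image_id']
  have hclsT : IsThreeTranspositionClass T := by
    rw [hT]
    refine map_class hcls e.symm.toMonoidHom e.symm.surjective fun a ha h1 => ?_
    have := hcls.1.1 a ha
    rw [show a = 1 from (map_eq_one_iff _ e.symm.injective).mp h1, orderOf_one] at this
    omega
  have hcore : ∀ p, pCore p (↥R ⧸ Subgroup.center ↥R) = ⊥ → pCore p X = ⊥ := fun p hp => by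
    rw [← pCore_map_equiv p e.symm, hp, Subgroup.map_bot]
  have hZX : Subgroup.center X = ⊥ := CfsgThreeTrans.Exist.center_bot e.symm hZ
  refine ⟨hclsT, hZX, hcore 2 c2, hcore 3 c3, fun a ha => ?_⟩
  by_contra hno
  push Not at hno
  have h1 : a = 1 := Subgroup.mem_bot.mp (hZX ▸ mem_center_of_commute_cls hclsT fun b hb => hno b hb)
  have := hclsT.1.1 a ha
  rw [h1, orderOf_one] at this
  omega

variable {G : Type u} [Group G] [Finite G] {D A : Set G}

/-- When the members modulo the centre form a reflection class, the projection is faithful on them. -/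
theorem mk_facts (hD : IsThreeTranspositionSet D) (hAD : A ⊆ D) (hn : 5 ≤ n) (h : IsReflClass (QG A) (QD A) n μ c) :
    (∀ a ∈ A, ∃ b ∈ A, ¬ Commute a b) ∧
      Set.InjOn (QuotientGroup.mk : ↥(Subgroup.closure A) → QG A) (Sub A (Subgroup.closure A)) := by
  obtain ⟨-, -, -, -, hno⟩ := refl_facts hn h
  have h1 : ∀ a ∈ A, ∃ b ∈ A, ¬ Commute a b := by
    intro a ha
    obtain ⟨_, ⟨b, hb, rfl⟩, hab⟩ := hno _ ⟨⟨a, Subgroup.subset_closure ha⟩, ha, rfl⟩
    exact ⟨b, hb, fun hc => hab ((show Commute (⟨a, Subgroup.subset_closure ha⟩ : ↥(Subgroup.closure A)) b from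
      Subtype.ext hc.eq).map (QuotientGroup.mk' _))⟩
  refine ⟨h1, fun a ha b hb hab => ?_⟩
  have hz : a * b ∈ Subgroup.center ↥(Subgroup.closure A) := by
    have := QuotientGroup.eq.mp hab
    rwa [show a⁻¹ = a from Subtype.ext (inv_self hD (hAD ha))] at this
  have hc : Commute (a : G) b := by
    have h' := Subgroup.mem_center_iff.mp hz a
    rw [mul_assoc, mul_left_cancel_iff] at h'
    exact congrArg Subtype.val h'
  by_contra hne
  obtain ⟨e, he, hae⟩ := h1 a ha
  refine hae ((commute_mul_iff hD (hAD ha) (hAD hb) (hAD he) (fun q => hne (Subtype.ext q)) hc).mp ?_).1.symm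
  exact congrArg Subtype.val (Subgroup.mem_center_iff.mp hz ⟨e, Subgroup.subset_closure he⟩)

end Refl

section Descend

variable {G : Type u} [Group G] [Finite G] {D S : Set G}

/-- The projection of the members generating a set. -/
abbrev mkS (S : Set G) : ↥(Subgroup.closure S) →* QG S :=
  QuotientGroup.mk' (Subgroup.center ↥(Subgroup.closure S))

/-- The local classes of the set are reflection classes of dimension `n` with `m` members, fewer than half. -/
structure Hyp (D : Set G) (S : Set G) (n m : ℕ) : Prop where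
  hD : IsThreeTranspositionSet D
  sub : S ⊆ D
  cl : ∀ a ∈ S, ∀ b ∈ S, b * a * b⁻¹ ∈ S
  dim : 5 ≤ n
  deg : ∀ x ∈ S, (S ∩ Ds D x).ncard = m
  big : 2 * m < S.ncard
  loc : ∀ x ∈ S, ∃ μ c : ZMod 3, IsReflClass (QG (S ∩ Ds D x)) (QD (S ∩ Ds D x)) n μ c

variable {n m : ℕ}

/-- The local set is closed. -/
theorem Hyp.loc_cl (h : Hyp D S n m) {x : G} :
    ∀ a ∈ S ∩ Ds D x, ∀ b ∈ S ∩ Ds D x, b * a * b⁻¹ ∈ S ∩ Ds D x := by
  intro a ha b hb
  have e : b * x * b⁻¹ = x := by rw [hb.2.2.2.symm.eq, mul_inv_cancel_right]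
  have hm := h.cl a ha.1 b hb.1
  refine ⟨hm, h.sub hm, fun q => ha.2.2.1 (cj_injective b (q.trans e.symm)), ?_⟩
  have := (commute_cj_iff b).mpr ha.2.2.2
  rwa [e] at this

/-- The set is one class of the group it generates. -/
theorem Hyp.class' (h : Hyp D S n m) : IsThreeTranspositionClass (Sub S (Subgroup.closure S)) := by
  classical
  have hne : S.Nonempty := Set.nonempty_of_ncard_ne_zero (by have := h.big; omega)
  obtain ⟨x₀, hx₀⟩ := hne
  set R := Subgroup.closure S
  refine isClass_of_orbit ⟨fun x hx => h.hD.1 x (h.sub hx), fun x hx y hy => h.hD.2 x (h.sub hx) y (h.sub hy)⟩ rfl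
    (fun g hg => closed_closure h.hD h.sub h.cl hg) hx₀ fun y hy => ?_
  by_contra hnot
  set O := {z | z ∈ S ∧ ∃ g ∈ R, g * x₀ * g⁻¹ = z} with hO
  have hcom : ∀ o ∈ O, ∀ z ∈ S, z ∉ O → Commute o z := by
    rintro o ⟨ho, g, hg, rfl⟩ z hz hzO
    by_contra hnc
    refine hzO ⟨hz, _, mul_mem (mul_mem (Subgroup.subset_closure ho) (Subgroup.subset_closure hz)) hg, ?_⟩
    rw [← cj_cj]
    exact cj_pair' h.hD (h.sub ho) (h.sub hz) hnc
  have hyO : y ∉ O := fun hy' => hnot hy'.2
  have hx₀O : x₀ ∈ O := ⟨hx₀, 1, one_mem _, by simp⟩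
  -- no two members of the orbit commute
  have hwidth : ∀ o ∈ O, ∀ o' ∈ O, o' ≠ o → ¬ Commute o o' := by
    intro o ho o' ho' hne' hc
    have hoS := ho.1
    obtain ⟨μ, c, hloc⟩ := h.loc o hoS
    obtain ⟨hcls, -, -, -, -⟩ := refl_facts h.dim hloc
    obtain ⟨-, hinj⟩ := mk_facts h.hD (Set.inter_subset_left.trans h.sub) h.dim hloc
    have hyP : y ∈ S ∩ Ds D o := ⟨hy, h.sub hy, fun q => hyO (q ▸ ho), hcom o ho y hy hyO⟩
    have ho'P : o' ∈ S ∩ Ds D o := ⟨ho'.1, h.sub ho'.1, hne', hc⟩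
    set T₁ := (mkS (S ∩ Ds D o)) '' {a | (a : G) ∈ S ∩ Ds D o ∧ (a : G) ∈ O} with hT₁
    have hT : T₁ = QD (S ∩ Ds D o) := by
      refine eq_cls_of_commute_compl hcls ?_ ⟨_, ⟨⟨o', Subgroup.subset_closure ho'P⟩, ⟨ho'P, ho'⟩, rfl⟩⟩ ?_
      · rintro _ ⟨a, ha, rfl⟩; exact ⟨a, ha.1, rfl⟩
      · rintro _ ⟨a, ha, rfl⟩ _ ⟨b, hb, rfl⟩ hnb
        have hbO : (b : G) ∉ O := fun q => hnb ⟨b, ⟨hb, q⟩, rfl⟩
        exact (show Commute a b from Subtype.ext (hcom _ ha.2 _ hb.1 hbO).eq).map (mkS _)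
    obtain ⟨a, ⟨haP, haO⟩, hay⟩ : mkS (S ∩ Ds D o) ⟨y, Subgroup.subset_closure hyP⟩ ∈ T₁ :=
      hT ▸ ⟨⟨y, Subgroup.subset_closure hyP⟩, hyP, rfl⟩
    have e : (a : G) = y := congrArg Subtype.val (hinj haP hyP hay)
    rw [e] at haO
    exact hyO haO
  have h1 : O ⊆ S ∩ Ds D y := fun o ho => ⟨ho.1, h.sub ho.1, fun q => hyO (q ▸ ho), (hcom o ho y hy hyO).symm⟩
  have h2 : S \ O ⊆ S ∩ Ds D x₀ := fun z hz =>
    ⟨hz.1, h.sub hz.1, fun q => hz.2 (q ▸ hx₀O), hcom x₀ hx₀O z hz.1 hz.2⟩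
  have hOS : O ⊆ S := fun o ho => ho.1
  have e1 := Set.ncard_le_ncard h1 (Set.toFinite _)
  have e2 := Set.ncard_le_ncard h2 (Set.toFinite _)
  rw [h.deg y hy] at e1
  rw [h.deg x₀ hx₀, Set.ncard_sdiff hOS (Set.toFinite _)] at e2
  have := h.big
  omega

/-- A local set maps onto the partners. -/
theorem Hyp.loc_transfer (h : Hyp D S n m) {H : Type u} [Group H] (f : ↥(Subgroup.closure S) →* H)
    (hinj : Set.InjOn f (Sub S (Subgroup.closure S)))
    (hrefl : ∀ a ∈ Sub S (Subgroup.closure S), ∀ b ∈ Sub S (Subgroup.closure S),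
      Commute (f a) (f b) → Commute a b)
    {x : ↥(Subgroup.closure S)} (hx : (x : G) ∈ S) :
    ∃ e : QG (S ∩ Ds D (x : G)) ≃* QG (Ds (f '' Sub S (Subgroup.closure S)) (f x)),
      e '' QD (S ∩ Ds D (x : G)) = QD (Ds (f '' Sub S (Subgroup.closure S)) (f x)) := by
  have := qg_transfer h.hD (Set.inter_subset_left.trans h.sub) (h.loc_cl (x := (x : G)))
    (Set.inter_subset_left.trans Subgroup.subset_closure) f (hinj.mono fun a ha => ha.1)
  rw [image_Ds hinj hrefl h.sub (show x ∈ Sub S (Subgroup.closure S) from hx)] at this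
  exact this

/-- A member has a local member. -/
theorem Hyp.exists_near (h : Hyp D S n m) {x : G} (hx : x ∈ S) :
    ∃ y ∈ S ∩ Ds D x, ∃ z ∈ S ∩ Ds D x, ¬ Commute y z := by
  obtain ⟨μ, c, hloc⟩ := h.loc x hx
  obtain ⟨_, ⟨y, hy, rfl⟩, -⟩ := (refl_facts h.dim hloc).1.2.1
  obtain ⟨z, hz, hyz⟩ := (mk_facts h.hD (Set.inter_subset_left.trans h.sub) h.dim hloc).1 y hy
  exact ⟨(y : G), hy, z, hz, hyz⟩

/-- The cores of the group of a local set are central. -/
theorem Hyp.cores_local (h : Hyp D S n m) {x : ↥(Subgroup.closure S)} (hx : (x : G) ∈ S) :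
    CoresCentral (Sub S (Subgroup.closure S)) x := by
  obtain ⟨e, he⟩ := h.loc_transfer (MonoidHom.id _) Function.injective_id.injOn (fun _ _ _ _ q => q) hx
  obtain ⟨μ, c, hloc⟩ := h.loc x hx
  obtain ⟨-, -, c2, c3, -⟩ := refl_facts h.dim (isReflClass_congr e he hloc)
  rw [show (MonoidHom.id ↥(Subgroup.closure S)) '' Sub S (Subgroup.closure S) = Sub S (Subgroup.closure S) from
    Set.image_id _] at c2 c3
  exact ⟨core_of_quot Nat.prime_three c3, core_of_quot Nat.prime_two c2⟩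

/-- The cores of the group generated are central. -/
theorem Hyp.cores (h : Hyp D S n m) :
    pCore 2 ↥(Subgroup.closure S) ≤ Subgroup.center ↥(Subgroup.closure S) ∧
      pCore 3 ↥(Subgroup.closure S) ≤ Subgroup.center ↥(Subgroup.closure S) := by
  have hcls := h.class'
  set R := Subgroup.closure S
  set E := Sub S R
  obtain ⟨x, hx, -⟩ := hcls.2.1
  obtain ⟨y, hy, z, hz, hyz⟩ := h.exists_near (x := (x : G)) hx
  have near : ∀ {w : G} (hw : w ∈ S ∩ Ds D (x : G)), (⟨w, Subgroup.subset_closure hw.1⟩ : R) ∈ Ds E x :=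
    fun {w} hw => ⟨hw.1, fun q => hw.2.2.1 (congrArg Subtype.val q), Subtype.ext hw.2.2.2.eq⟩
  obtain ⟨k3, k2⟩ := h.cores_local hx
  refine ⟨core_two_of_partners hcls hx k2 ⟨_, near hy, _, near hz, fun q => hyz (congrArg Subtype.val q.eq)⟩, ?_⟩
  by_contra hnc
  set a : R := ⟨y, Subgroup.subset_closure hy.1⟩
  have ha : a ∈ Ds E x := near hy
  obtain ⟨u, hu, hne⟩ := moved_of_core hcls hnc ha.1
  set w := u * a * u⁻¹
  have hw : w ∈ Ws E a := by rw [Ws_eq_orbit hcls ha.1]; exact ⟨u, hu, rfl⟩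
  have htw : x ∈ Ds E w := by
    show x ∈ {q : R | q ∈ E ∧ q ≠ w ∧ Commute w q}
    rw [← hw.2]
    exact ⟨hx, ha.2.1.symm, ha.2.2.symm⟩
  have hwt : w ∈ Ds E x := ⟨hw.1, fun e => htw.2.1 e.symm, htw.2.2.symm⟩
  set L := Subgroup.closure (Ds E x)
  haveI : Fact (Nat.Prime 3) := ⟨Nat.prime_three⟩
  haveI : ((pCore 3 R).subgroupOf L).Normal := Subgroup.normal_subgroupOf
  have hP : IsPGroup 3 ((pCore 3 R).subgroupOf L) :=
    (isPGroup_pCore 3).comap_of_injective L.subtype L.subtype_injective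
  have hm' : a * w ∈ L := mul_mem (Subgroup.subset_closure ha) (Subgroup.subset_closure hwt)
  have hzc : (⟨a * w, hm'⟩ : L) ∈ Subgroup.center L :=
    k3 (le_pCore hP (Subgroup.mem_subgroupOf.mpr (mul_mem_three_of_Ws hcls ha.1 hw)))
  have hc : Commute a (a * w) :=
    congrArg Subtype.val (Subgroup.mem_center_iff.mp hzc ⟨a, Subgroup.subset_closure ha⟩)
  have h4 : Commute a w := by
    have := (Commute.refl a).inv_right.mul_right hc
    rwa [inv_mul_cancel_left] at this
  exact Ws_not_commute (⟨ha.1, rfl⟩ : a ∈ Ws E a) hw (Ne.symm hne) h4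

/-- The projection is faithful on the members. -/
theorem Hyp.mk_props (h : Hyp D S n m) :
    Set.InjOn (mkS S) (Sub S (Subgroup.closure S)) ∧
      ∀ a ∈ Sub S (Subgroup.closure S), ∀ b ∈ Sub S (Subgroup.closure S),
        Commute (mkS S a) (mkS S b) → Commute a b := by
  have hcls := h.class'
  obtain ⟨x, hx, -⟩ := hcls.2.1
  obtain ⟨y, hy, -⟩ := h.exists_near (x := (x : G)) hx
  obtain ⟨c2, c3⟩ := h.cores
  obtain ⟨-, hinj, hrefl, -⟩ := class_quot hcls
    ⟨x, hx, ⟨y, Subgroup.subset_closure hy.1⟩, hy.1, fun q => hy.2.2.1 (congrArg Subtype.val q).symm⟩ c2 c3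
  exact ⟨hinj, hrefl⟩

/-- **The descended class.** -/
theorem Hyp.good (h : Hyp D S n m) : Good (QD S) := by
  have hcls := h.class'
  obtain ⟨x, hx, -⟩ := hcls.2.1
  obtain ⟨y, hy, -⟩ := h.exists_near (x := (x : G)) hx
  obtain ⟨c2, c3⟩ := h.cores
  set y' : ↥(Subgroup.closure S) := ⟨y, Subgroup.subset_closure hy.1⟩
  have hne : x ≠ y' := fun q => hy.2.2.1 (congrArg Subtype.val q).symm
  obtain ⟨h1, hinj, -, hZ, k2, k3⟩ := class_quot hcls ⟨x, hx, y', hy.1, hne⟩ c2 c3
  refine ⟨h1, hZ, k2, k3, mkS S x, ⟨x, hx, rfl⟩, mkS S y', ⟨y', hy.1, rfl⟩, fun q => hne (hinj hx hy.1 q), ?_⟩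
  exact (show Commute x y' from Subtype.ext hy.2.2.2.eq).map (mkS S)

/-- The local class at the image of a member. -/
theorem Hyp.local_image (h : Hyp D S n m) {x : ↥(Subgroup.closure S)} (hx : (x : G) ∈ S) :
    (∃ μ c : ZMod 3, IsReflClass (QG (Ds (QD S) (mkS S x))) (QD (Ds (QD S) (mkS S x))) n μ c) ∧
      CoresCentral (QD S) (mkS S x) ∧
      ∀ μ c : ZMod 3, IsReflClass (QG (S ∩ Ds D (x : G))) (QD (S ∩ Ds D (x : G))) n μ c →
        IsReflClass (QG (Ds (QD S) (mkS S x))) (QD (Ds (QD S) (mkS S x))) n μ c := by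
  obtain ⟨hinj, hrefl⟩ := h.mk_props
  obtain ⟨e, he⟩ := h.loc_transfer (mkS S) hinj hrefl hx
  obtain ⟨μ, c, hloc⟩ := h.loc x hx
  have h' : IsReflClass (QG (Ds (QD S) (mkS S x))) (QD (Ds (QD S) (mkS S x))) n μ c := isReflClass_congr e he hloc
  obtain ⟨-, -, c2, c3, -⟩ := refl_facts h.dim h'
  exact ⟨⟨μ, c, h'⟩, ⟨core_of_quot Nat.prime_three c3, core_of_quot Nat.prime_two c2⟩,
    fun μ' c' hl => isReflClass_congr e he hl⟩

/-- Counting the common partners of two members in the image. -/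
theorem Hyp.ncard_image (h : Hyp D S n m) {x : ↥(Subgroup.closure S)} (hx : (x : G) ∈ S) :
    (Ds (QD S) (mkS S x)).ncard = m ∧
      ∀ z : ↥(Subgroup.closure S), (z : G) ∈ S →
        (Ds (QD S) (mkS S x) ∩ Ds (QD S) (mkS S z)).ncard = (S ∩ Ds D (x : G) ∩ Ds D (z : G)).ncard := by
  obtain ⟨hinj, hrefl⟩ := h.mk_props
  let R := Subgroup.closure S
  have count : ∀ B : Set G, B ⊆ S → (mkS S '' Sub B R).ncard = B.ncard := by
    intro B hB
    rw [(hinj.mono (fun a ha => hB ha : Sub B R ⊆ Sub S R)).ncard_image, ← Set.ncard_image_of_injective (Sub B R) Subtype.val_injective]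
    congr 1
    ext g
    exact ⟨fun ⟨a, ha, e⟩ => e ▸ ha, fun hg => ⟨⟨g, Subgroup.subset_closure (hB hg)⟩, hg, rfl⟩⟩
  have img : ∀ {a : R}, (a : G) ∈ S → Ds (QD S) (mkS S a) = mkS S '' Sub (S ∩ Ds D (a : G)) R :=
    fun {a} ha => (image_Ds hinj hrefl h.sub ha).symm
  refine ⟨by rw [img hx, count _ Set.inter_subset_left, h.deg x hx], fun z hz => ?_⟩
  rw [img hx, img hz, ← hinj.image_inter (fun a ha => ha.1) (fun a ha => ha.1), ← count _
    (Set.inter_subset_left.trans Set.inter_subset_left : S ∩ Ds D (x : G) ∩ Ds D (z : G) ⊆ S)]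
  congr 2
  ext a
  exact ⟨fun q => ⟨q.1, q.2.2⟩, fun q => ⟨q.1, q.1.1, q.2⟩⟩

/-- The number of members in the image. -/
theorem Hyp.ncard_qd (h : Hyp D S n m) : (QD S).ncard = S.ncard := by
  show (mkS S '' Sub S _).ncard = _
  rw [h.mk_props.1.ncard_image, ← Set.ncard_image_of_injective (Sub S (Subgroup.closure S)) Subtype.val_injective]
  congr 1
  ext g
  exact ⟨fun ⟨a, ha, e⟩ => e ▸ ha, fun hg => ⟨⟨g, Subgroup.subset_closure hg⟩, hg, rfl⟩⟩

end Descend

end CfsgFischer.Descend
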