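/-
Pairs of partners of `d` seen in the local class, and conjugation of the sets of common partners.
-/
import Cfsg.Agent.Lib.Fischer.Descend

set_option autoImplicit false

namespace CfsgFischer.Descend

open Cfsg CfsgLib CfsgThreeTrans

universe u

variable {G : Type u} [Group G] [Finite G] {D : Set G}

/-- The members of a set inside the group they generate have its cardinality. -/
theorem ncard_sub {A : Set G} {K : Subgroup G} (hAK : A ⊆ K) : (Sub A K).ncard = A.ncard := by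
  rw [← Set.ncard_image_of_injective (Sub A K) Subtype.val_injective]
  congr 1
  ext g
  exact ⟨fun ⟨a, ha, e⟩ => e ▸ ha, fun hg => ⟨⟨g, hAK hg⟩, hg, rfl⟩⟩

/-- The common partners of two members are closed under conjugation by their members. -/
theorem pair_closed (hD : IsThreeTranspositionClass D) {a b : G} :
    ∀ x ∈ Ds D a ∩ Ds D b, ∀ y ∈ Ds D a ∩ Ds D b, y * x * y⁻¹ ∈ Ds D a ∩ Ds D b :=
  fun _ hx _ hy => ⟨Ds_closed_mem hD hx.1 hy.1, Ds_closed_mem hD hx.2 hy.2⟩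

/-- Conjugation identifies the groups generated modulo their centres. -/
theorem conj_qg (hD : IsThreeTranspositionClass D) {A : Set G} (hAD : A ⊆ D)
    (hcl : ∀ a ∈ A, ∀ b ∈ A, b * a * b⁻¹ ∈ A) (g : G) :
    ∃ e : QG A ≃* QG ((fun x => g * x * g⁻¹) '' A), e '' QD A = QD ((fun x => g * x * g⁻¹) '' A) := by
  have h := qg_transfer (K := ⊤) hD.1 hAD hcl (fun _ _ => Subgroup.mem_top _)
    ((MulAut.conj g).toMonoidHom.comp (⊤ : Subgroup G).subtype)
    (((MulAut.conj g).injective.comp Subtype.val_injective).injOn)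
  have e : ((MulAut.conj g).toMonoidHom.comp (⊤ : Subgroup G).subtype) '' Sub A ⊤ =
      (fun x => g * x * g⁻¹) '' A := by
    ext z
    exact ⟨fun ⟨x, hx, q⟩ => ⟨x, hx, q⟩, fun ⟨x, hx, q⟩ => ⟨⟨x, Subgroup.mem_top x⟩, hx, q⟩⟩
  rwa [e] at h

/-- The common partners move with the pair. -/
theorem cj_pair_set (hD : IsThreeTranspositionClass D) (g a b : G) :
    (fun x => g * x * g⁻¹) '' (Ds D a ∩ Ds D b) = Ds D (g * a * g⁻¹) ∩ Ds D (g * b * g⁻¹) := by
  rw [Set.image_inter (cj_injective g), cj_Ds hD, cj_Ds hD]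

section Local

variable (hP : Prim D) {d : G} (hd : d ∈ D) (hc : CoresCentral D d)
include hP hd hc

theorem local_props :
    Set.InjOn (mkS (Ds D d)) (Sub (Ds D d) (Subgroup.closure (Ds D d))) ∧
      ∀ a ∈ Sub (Ds D d) (Subgroup.closure (Ds D d)), ∀ b ∈ Sub (Ds D d) (Subgroup.closure (Ds D d)),
        Commute (mkS (Ds D d) a) (mkS (Ds D d) b) → Commute a b := by
  obtain ⟨-, hinj, hrefl, -⟩ := class_quot (local_class hP hd) (local_two hP hd) hc.2 hc.1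
  exact ⟨hinj, hrefl⟩

/-- The partners of two members, seen in the local class. -/
theorem pair_image {a b : ↥(Subgroup.closure (Ds D d))} (ha : (a : G) ∈ Ds D d) (hb : (b : G) ∈ Ds D d) :
    mkS (Ds D d) '' Sub (Ds D d ∩ Ds D (a : G) ∩ Ds D (b : G)) (Subgroup.closure (Ds D d)) =
      Pair (QD (Ds D d)) (mkS (Ds D d) a) (mkS (Ds D d) b) := by
  obtain ⟨hinj, hrefl⟩ := local_props hP hd hc
  have ea := image_Ds hinj hrefl (fun x (hx : x ∈ Ds D d) => hx.1) ha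
  have eb := image_Ds hinj hrefl (fun x (hx : x ∈ Ds D d) => hx.1) hb
  show _ = Ds (mkS (Ds D d) '' Sub (Ds D d) _) _ ∩ Ds (mkS (Ds D d) '' Sub (Ds D d) _) _
  rw [← ea, ← eb, ← hinj.image_inter (fun x hx => hx.1) (fun x hx => hx.1)]
  congr 1
  ext x
  exact ⟨fun q => ⟨q.1, q.1.1, q.2⟩, fun q => ⟨q.1, q.2.2⟩⟩

/-- The number of the partners is that of the local class. -/
theorem ncard_local : (Ds D d).ncard = (QD (Ds D d)).ncard := by
  show _ = (mkS (Ds D d) '' Sub (Ds D d) _).ncard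
  rw [(local_props hP hd hc).1.ncard_image, ncard_sub (A := Ds D d) Subgroup.subset_closure]

/-- Common partners with one member. -/
theorem ncard_one {a : ↥(Subgroup.closure (Ds D d))} (ha : (a : G) ∈ Ds D d) :
    (Ds D d ∩ Ds D (a : G)).ncard = (Ds (QD (Ds D d)) (mkS (Ds D d) a)).ncard := by
  obtain ⟨hinj, hrefl⟩ := local_props hP hd hc
  show _ = (Ds (mkS (Ds D d) '' Sub (Ds D d) _) _).ncard
  rw [← image_Ds hinj hrefl (fun x (hx : x ∈ Ds D d) => hx.1) ha,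
    (hinj.mono fun x hx => hx.1).ncard_image,
    ncard_sub (A := Ds D d ∩ Ds D (a : G)) (Set.inter_subset_left.trans Subgroup.subset_closure)]

/-- Common partners with two members. -/
theorem ncard_pair {a b : ↥(Subgroup.closure (Ds D d))} (ha : (a : G) ∈ Ds D d) (hb : (b : G) ∈ Ds D d) :
    (Ds D d ∩ Ds D (a : G) ∩ Ds D (b : G)).ncard =
      (Pair (QD (Ds D d)) (mkS (Ds D d) a) (mkS (Ds D d) b)).ncard := by
  rw [← pair_image hP hd hc ha hb, ((local_props hP hd hc).1.mono fun x hx => hx.1.1).ncard_image,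
    ncard_sub (A := Ds D d ∩ Ds D (a : G) ∩ Ds D (b : G))
      ((Set.inter_subset_left.trans Set.inter_subset_left).trans Subgroup.subset_closure)]

/-- The group of the common partners, seen in the local class. -/
theorem pair_qg {a b : ↥(Subgroup.closure (Ds D d))} (ha : (a : G) ∈ Ds D d) (hb : (b : G) ∈ Ds D d) :
    ∃ e : QG (Ds D d ∩ Ds D (a : G) ∩ Ds D (b : G)) ≃*
        QG (Pair (QD (Ds D d)) (mkS (Ds D d) a) (mkS (Ds D d) b)),
      e '' QD (Ds D d ∩ Ds D (a : G) ∩ Ds D (b : G)) = QD (Pair (QD (Ds D d)) (mkS (Ds D d) a) (mkS (Ds D d) b)) := by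
  have h := qg_transfer (D := D) (A := Ds D d ∩ Ds D (a : G) ∩ Ds D (b : G)) hP.cls.1 (fun x hx => hx.1.1.1)
    (fun x hx y hy => ⟨⟨Ds_closed_mem hP.cls hx.1.1 hy.1.1, Ds_closed_mem hP.cls hx.1.2 hy.1.2⟩,
      Ds_closed_mem hP.cls hx.2 hy.2⟩)
    ((Set.inter_subset_left.trans Set.inter_subset_left).trans Subgroup.subset_closure) (mkS (Ds D d))
    ((local_props hP hd hc).1.mono fun x hx => hx.1.1)
  rwa [pair_image hP hd hc ha hb] at h

/-- A member of the common set of `d` and `c` sees a pair of the local class. -/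
theorem sc_local {c x : G} (hdc : ¬ Commute d c) (hcD : c ∈ D) (hx : x ∈ Sc D d c) :
    ∃ a ∈ QD (Ds D d), ∃ b ∈ QD (Ds D d), ¬ Commute a b ∧
      (Sc D d c ∩ Ds D x).ncard = (Pair (QD (Ds D d)) a b).ncard ∧
      ∃ e : QG (Sc D d c ∩ Ds D x) ≃* QG (Pair (QD (Ds D d)) a b),
        e '' QD (Sc D d c ∩ Ds D x) = QD (Pair (QD (Ds D d)) a b) := by
  obtain ⟨g, hg⟩ := cls_exists_conj hP.cls hx.1.1 hd
  have hin : ∀ {y : G}, y ∈ D → x ∈ Ds D y → g * y * g⁻¹ ∈ Ds D d := by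
    intro y hy hxy
    rw [← hg]
    exact cj_Ds hP.cls g x ▸ ⟨y, mem_both hy hxy, rfl⟩
  have ha := hin hd hx.1
  have hb := hin hcD hx.2
  set a : ↥(Subgroup.closure (Ds D d)) := ⟨g * d * g⁻¹, Subgroup.subset_closure ha⟩
  set b : ↥(Subgroup.closure (Ds D d)) := ⟨g * c * g⁻¹, Subgroup.subset_closure hb⟩
  have himg : (fun z => g * z * g⁻¹) '' (Sc D d c ∩ Ds D x) = Ds D d ∩ Ds D (a : G) ∩ Ds D (b : G) := by
    rw [Sc, Set.image_inter (cj_injective g), cj_pair_set hP.cls, cj_Ds hP.cls, hg, Set.inter_comm _ (Ds D d),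
      Set.inter_assoc]
  refine ⟨mkS _ a, ⟨a, ha, rfl⟩, mkS _ b, ⟨b, hb, rfl⟩, fun q => hdc ((commute_cj_iff g).mp
    (congrArg Subtype.val ((local_props hP hd hc).2 a ha b hb q).eq)), ?_, ?_⟩
  · rw [← ncard_pair hP hd hc ha hb, ← himg, Set.ncard_image_of_injective _ (cj_injective g)]
  · have h₁ := conj_qg hP.cls (A := Sc D d c ∩ Ds D x) (fun z hz => hz.1.1.1)
      (fun z hz w hw => ⟨Sc_closed hP.cls hz.1 hw.1, Ds_closed_mem hP.cls hz.2 hw.2⟩) g
    rw [himg] at h₁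
    obtain ⟨e₁, he₁⟩ := h₁
    obtain ⟨e₂, he₂⟩ := pair_qg hP hd hc (a := a) (b := b) ha hb
    exact ⟨e₁.trans e₂, by rw [MulEquiv.coe_trans, Set.image_comp, he₁, he₂]⟩

/-- The descent hypothesis for a common set, from the pairs of the local class. -/
theorem sc_hyp {n m : ℕ} (hn : 5 ≤ n) (μ : ZMod 3 → ZMod 3)
    (hpair : ∀ a ∈ QD (Ds D d), ∀ b ∈ QD (Ds D d), ¬ Commute a b → (Pair (QD (Ds D d)) a b).ncard = m ∧
      ∃ c₃ : ZMod 3, c₃ ≠ 0 ∧ IsReflClass (QG (Pair (QD (Ds D d)) a b)) (QD (Pair (QD (Ds D d)) a b)) n (μ c₃) c₃)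
    {c : G} (hcD : c ∈ D) (hdc : ¬ Commute d c) (hbig : 2 * m < (Sc D d c).ncard) :
    Hyp D (Sc D d c) n m ∧ ∀ x ∈ Sc D d c, ∃ c₃ : ZMod 3, c₃ ≠ 0 ∧
      IsReflClass (QG (Sc D d c ∩ Ds D x)) (QD (Sc D d c ∩ Ds D x)) n (μ c₃) c₃ := by
  have key : ∀ x ∈ Sc D d c, (Sc D d c ∩ Ds D x).ncard = m ∧ ∃ c₃ : ZMod 3, c₃ ≠ 0 ∧
      IsReflClass (QG (Sc D d c ∩ Ds D x)) (QD (Sc D d c ∩ Ds D x)) n (μ c₃) c₃ := by
    intro x hx
    obtain ⟨a, ha, b, hb, hab, hn', e, he⟩ := sc_local hP hd hc hdc hcD hx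
    obtain ⟨h1, c₃, hc₃, h2⟩ := hpair a ha b hb hab
    exact ⟨hn'.trans h1, c₃, hc₃, isReflClass_congr e.symm (by
      rw [← he, Set.image_image]; simp only [MulEquiv.symm_apply_apply, Set.image_id']) h2⟩
  exact ⟨⟨hP.cls.1, fun x hx => hx.1.1, fun a ha b hb => Sc_closed hP.cls ha hb, hn, fun x hx => (key x hx).1,
    hbig, fun x hx => (key x hx).2.elim fun c₃ h => ⟨_, _, h.2⟩⟩, fun x hx => (key x hx).2⟩

end Local

/-- Statements about the pairs at one member hold for all pairs. -/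
theorem refl_all_pairs (hD : IsThreeTranspositionClass D) {d : G} (hd : d ∈ D) {n : ℕ} (μ : ZMod 3 → ZMod 3)
    (h : ∀ c ∈ D, ¬ Commute d c → ∃ c₃ : ZMod 3, c₃ ≠ 0 ∧
      IsReflClass (QG (Pair D d c)) (QD (Pair D d c)) n (μ c₃) c₃) :
    ∀ a ∈ D, ∀ b ∈ D, ¬ Commute a b → ∃ c₃ : ZMod 3, c₃ ≠ 0 ∧
      IsReflClass (QG (Pair D a b)) (QD (Pair D a b)) n (μ c₃) c₃ := by
  intro a ha b hb hab
  obtain ⟨g, rfl⟩ := cls_exists_conj hD hd ha
  obtain ⟨b, rfl⟩ : ∃ b', g * b' * g⁻¹ = b := ⟨g⁻¹ * b * g⁻¹⁻¹, cj_inv g b⟩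
  rw [commute_cj_iff] at hab
  obtain ⟨c₃, hc₃, hr⟩ := h b ((cj_cls_iff hD g).mp hb) hab
  have h' := conj_qg hD (A := Pair D d b) (fun x hx => hx.1.1) (pair_closed hD) g
  rw [cj_pair_set hD] at h'
  obtain ⟨e, he⟩ := h'
  exact ⟨c₃, hc₃, isReflClass_congr e he hr⟩

end CfsgFischer.Descend
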