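/-
A primitive class whose partner group is a symmetric group modulo its centre: the group is symmetric of two
degrees more, outside the exceptional configuration in degree six.
-/
import Cfsg.Agent.Lib.Fischer.LocalCoord
import Cfsg.Agent.Lib.ThreeTrans.SymChain
import Cfsg.Agent.Lib.ThreeTrans.SrgTrace
import Cfsg.Agent.Lib.Fischer.Interface

set_option autoImplicit false
set_option linter.unusedSectionVars false

namespace CfsgFischer

open Cfsg CfsgThreeTrans

universe u

variable {G : Type u} [Group G] [Finite G] {D : Set G}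

/-- A subgroup containing `d`, its partners and one member not commuting with `d` is everything. -/
theorem eq_top_of_far (hD : IsThreeTranspositionClass D) (hp : IsPrimitiveUnderConj D)
    (hw : ∃ a ∈ D, ∃ b ∈ D, a ≠ b ∧ Commute a b) {d c : G} (hd : d ∈ D) (hc : c ∈ D) (hdc : ¬ Commute d c)
    (H : Subgroup G) (hdH : d ∈ H) (hcH : c ∈ H) (hH : Ds D d ⊆ H) : H = ⊤ := by
  set H' : Subgroup G := Subgroup.closure {y : G | y ∈ D ∧ y ∈ H} with hH'
  have hle : H' ≤ H := (Subgroup.closure_le _).mpr fun y hy => hy.2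
  have hmem : ∀ y ∈ D, y ∈ H → y ∈ H' := fun y hy hyH => Subgroup.subset_closure ⟨hy, hyH⟩
  have hDsub : IsDSubgroup D H' := by
    refine le_antisymm ((Subgroup.closure_le _).mpr fun y hy => hy.2) ((Subgroup.closure_le _).mpr fun y hy => ?_)
    exact Subgroup.subset_closure ⟨hy.1, hmem y hy.1 hy.2⟩
  obtain ⟨hne, hmax⟩ := partner_subgroup_maximal hD hp hw hd
  have hsub : Subgroup.closure {y : G | y ∈ D ∧ Commute d y} ≤ H' := by
    refine (Subgroup.closure_le _).mpr fun y hy => ?_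
    by_cases hyd : y = d
    · exact hyd ▸ hmem d hd hdH
    · exact hmem y hy.1 (hH ⟨hy.1, hyd, hy.2⟩)
  rcases hmax H' hDsub hsub with h | h
  · exfalso
    have hcC : Subgroup.closure {y : G | y ∈ D ∧ Commute d y} ≤ Subgroup.centralizer ({d} : Set G) :=
      (Subgroup.closure_le _).mpr fun y hy => Subgroup.mem_centralizer_singleton_iff.mpr hy.2.eq.symm
    exact hdc (show Commute c d from
      Subgroup.mem_centralizer_singleton_iff.mp (hcC (h ▸ hmem c hc hcH))).symm
  · exact eq_top_iff.mpr (h ▸ hle)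

namespace Sym

/-- The transpositions on `n` points. -/
abbrev Swaps (n : ℕ) : Set (Equiv.Perm (Fin n)) := {σ | σ.IsSwap}

variable {n : ℕ} {d : G} (C : Coord D d (Swaps n))

/-- The pairs of points whose transpositions commute with `c`. -/
def Rel (c : G) (a b : Fin n) : Prop := ∃ x ∈ Sc D d c, C.f x = Equiv.swap a b

theorem rel_symm {c : G} {a b : Fin n} (h : Rel C c a b) : Rel C c b a := by
  obtain ⟨x, hx, e⟩ := h
  exact ⟨x, hx, e.trans (Equiv.swap_comm a b)⟩

theorem rel_trans (hD : IsThreeTranspositionClass D) {c : G} {a b e : Fin n} (hab : a ≠ b) (hbe : b ≠ e)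
    (hae : a ≠ e) (h : Rel C c a b) (h' : Rel C c b e) : Rel C c a e := by
  obtain ⟨x, hx, ex⟩ := h
  obtain ⟨y, hy, ey⟩ := h'
  refine ⟨y * x * y⁻¹, Sc_closed hD hx hy, ?_⟩
  rw [C.conj x hx.1 y hy.1, ex, ey, ← Equiv.swap_apply_apply, Equiv.swap_apply_left,
    Equiv.swap_apply_of_ne_of_ne hab hae]

/-- The transpositions inside a set of points. -/
def pairSet (A : Finset (Fin n)) : Set (Equiv.Perm (Fin n)) :=
  {σ | ∃ a ∈ A, ∃ b ∈ A, a ≠ b ∧ σ = Equiv.swap a b}

theorem pairSet_ncard (A : Finset (Fin n)) : (pairSet A).ncard = A.card.choose 2 := by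
  classical
  rw [← Finset.card_powersetCard, ← Set.ncard_coe_finset]
  refine Set.ncard_congr (fun σ _ => σ.support) ?_ ?_ ?_
  · rintro σ ⟨a, ha, b, hb, hab, rfl⟩
    rw [Finset.mem_coe, Finset.mem_powersetCard, Equiv.Perm.support_swap hab]
    refine ⟨?_, Finset.card_pair hab⟩
    intro x hx
    rcases Finset.mem_insert.mp hx with rfl | hx
    · exact ha
    · exact (Finset.mem_singleton.mp hx) ▸ hb
  · rintro σ τ ⟨a, ha, b, hb, hab, rfl⟩ ⟨a', ha', b', hb', hab', rfl⟩ e
    rw [Equiv.Perm.support_swap hab, Equiv.Perm.support_swap hab'] at e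
    have h1 : a ∈ ({a', b'} : Finset (Fin n)) := e ▸ Finset.mem_insert_self _ _
    have h2 : b ∈ ({a', b'} : Finset (Fin n)) := e ▸ Finset.mem_insert_of_mem (Finset.mem_singleton_self _)
    simp only [Finset.mem_insert, Finset.mem_singleton] at h1 h2
    rcases h1 with rfl | rfl <;> rcases h2 with rfl | rfl
    · exact absurd rfl hab
    · rfl
    · exact Equiv.swap_comm _ _
    · exact absurd rfl hab
  · intro s hs
    rw [Finset.mem_coe, Finset.mem_powersetCard] at hs
    obtain ⟨a, b, hab, rfl⟩ := Finset.card_eq_two.mp hs.2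
    exact ⟨Equiv.swap a b, ⟨a, hs.1 (Finset.mem_insert_self _ _), b,
      hs.1 (Finset.mem_insert_of_mem (Finset.mem_singleton_self _)), hab, rfl⟩, Equiv.Perm.support_swap hab⟩

theorem swap_ne_one {a b : Fin n} (hab : a ≠ b) : (Equiv.swap a b) ≠ 1 := fun e =>
  hab ((by simpa using congrArg (fun p : Equiv.Perm (Fin n) => p a) e : b = a)).symm

theorem swap_inj {a b a' b' : Fin n} (hab : a ≠ b) (e : Equiv.swap a b = Equiv.swap a' b') :
    (a = a' ∧ b = b') ∨ (a = b' ∧ b = a') := by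
  have h1 := congrArg (fun p : Equiv.Perm (Fin n) => p a) e
  simp only [Equiv.swap_apply_left] at h1
  by_cases haa : a = a'
  · subst haa
    rw [Equiv.swap_apply_left] at h1
    exact Or.inl ⟨rfl, h1⟩
  by_cases hab' : a = b'
  · subst hab'
    rw [Equiv.swap_apply_right] at h1
    exact Or.inr ⟨rfl, h1⟩
  rw [Equiv.swap_apply_of_ne_of_ne haa hab'] at h1
  exact absurd h1.symm hab

/-- The members commuting with a transposition and with one not commuting with it. -/
theorem both_iff {p q r a b : Fin n} (hpq : p ≠ q) (hqr : q ≠ r) (hpr : p ≠ r) (hab : a ≠ b) :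
    (Commute (Equiv.swap p q) (Equiv.swap a b) ∧ Equiv.swap a b ≠ Equiv.swap p q ∧
      Commute (Equiv.swap q r) (Equiv.swap a b) ∧ Equiv.swap a b ≠ Equiv.swap q r) ↔
    a ∈ ({p, q, r} : Finset (Fin n))ᶜ ∧ b ∈ ({p, q, r} : Finset (Fin n))ᶜ := by
  simp only [Finset.mem_compl, Finset.mem_insert, Finset.mem_singleton, not_or]
  constructor
  · rintro ⟨h1, h2, h3, h4⟩
    obtain ⟨e1, e2, e3, e4⟩ := SymChain.disjoint_of_comm hpq hab (fun e => h2 e.symm) h1
    obtain ⟨f1, f2, f3, f4⟩ := SymChain.disjoint_of_comm hqr hab (fun e => h4 e.symm) h3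
    exact ⟨⟨fun e => e1 e.symm, fun e => e3 e.symm, fun e => f3 e.symm⟩,
      ⟨fun e => e2 e.symm, fun e => e4 e.symm, fun e => f4 e.symm⟩⟩
  · rintro ⟨⟨ha1, ha2, ha3⟩, hb1, hb2, hb3⟩
    refine ⟨SymChain.comm_disjoint (Ne.symm ha1) (Ne.symm hb1) (Ne.symm ha2) (Ne.symm hb2), fun e => ?_,
      SymChain.comm_disjoint (Ne.symm ha2) (Ne.symm hb2) (Ne.symm ha3) (Ne.symm hb3), fun e => ?_⟩
    · rcases swap_inj hab e with ⟨h, -⟩ | ⟨h, -⟩
      exacts [ha1 h, ha2 h]
    · rcases swap_inj hab e with ⟨h, -⟩ | ⟨h, -⟩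
      exacts [ha2 h, ha3 h]

theorem exists_share {a b a' b' : Fin n} (hab : a ≠ b) (hab' : a' ≠ b')
    (h : ¬ Commute (Equiv.swap a b) (Equiv.swap a' b')) : a = a' ∨ a = b' ∨ b = a' ∨ b = b' := by
  by_contra hc
  simp only [not_or] at hc
  exact h (SymChain.comm_disjoint hc.1 hc.2.1 hc.2.2.1 hc.2.2.2)

/-- In the partners of `x`, those commuting with `c` are the pairs avoiding three points. -/
theorem link (hD : IsThreeTranspositionClass D) (hn : 5 ≤ n) (hd : d ∈ D) {c : G} (hc : c ∈ D)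
    (hdc : ¬ Commute d c) {i j : Fin n} (hij : i ≠ j) (hrel : Rel C c i j) :
    ∃ u, u ≠ i ∧ u ≠ j ∧ ∀ a b, a ≠ b → a ≠ i → a ≠ j → b ≠ i → b ≠ j → (Rel C c a b ↔ a ≠ u ∧ b ≠ u) := by
  classical
  obtain ⟨x, hx, ex⟩ := hrel
  obtain ⟨E⟩ := C.exists_at hD hd hx.1.1
  have hdx : d ∈ Ds D x := mem_both hd hx.1
  have hcx : c ∈ Ds D x := mem_both hc hx.2
  obtain ⟨p, q, hpq, ep⟩ := E.mem d hdx
  obtain ⟨q', r, hqr', er⟩ := E.mem c hcx
  have hnc : ¬ Commute (Equiv.swap p q) (Equiv.swap q' r) := by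
    rw [← ep, ← er, ← E.comm d hdx c hcx]
    exact hdc
  obtain ⟨p₁, q₁, r₁, h12, h23, h13, ed, ec⟩ : ∃ p₁ q₁ r₁ : Fin n, p₁ ≠ q₁ ∧ q₁ ≠ r₁ ∧ p₁ ≠ r₁ ∧
      E.f d = Equiv.swap p₁ q₁ ∧ E.f c = Equiv.swap q₁ r₁ := by
    have hne : Equiv.swap p q ≠ Equiv.swap q' r := fun e => hnc (e ▸ Commute.refl _)
    rcases exists_share hpq hqr' hnc with h | h | h | h
    · subst h
      exact ⟨q, p, r, hpq.symm, hqr', fun e => hne (e ▸ rfl), ep.trans (Equiv.swap_comm _ _), er⟩
    · subst h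
      exact ⟨q, p, q', hpq.symm, hqr'.symm, fun e => hne (e ▸ Equiv.swap_comm _ _),
        ep.trans (Equiv.swap_comm _ _), er.trans (Equiv.swap_comm _ _)⟩
    · subst h
      exact ⟨p, q, r, hpq, hqr', fun e => hne (e ▸ Equiv.swap_comm _ _), ep, er⟩
    · subst h
      exact ⟨p, q, q', hpq, hqr'.symm, fun e => hne (e ▸ rfl), ep, er.trans (Equiv.swap_comm _ _)⟩
  set R : Finset (Fin n) := ({p₁, q₁, r₁} : Finset (Fin n))ᶜ with hR
  have hRcard : R.card = n - 3 := by
    rw [hR, Finset.card_compl, Fintype.card_fin]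
    congr 1
    rw [Finset.card_insert_of_notMem (by simp [h12, h13]), Finset.card_pair h23]
  -- the link
  set T : Set G := Sc D d c ∩ Ds D x with hT
  have hTR : ∀ y ∈ T, E.f y ∈ pairSet R := by
    intro y hy
    obtain ⟨hyx, hyd, hyc⟩ := Sc_inter.mp hy
    obtain ⟨a, b, hab, ey⟩ := E.mem y hyx
    have h1 : Commute (E.f d) (E.f y) := (E.comm d hdx y hyx).mp hyd.2.2
    have h2 : E.f y ≠ E.f d := fun e => hyd.2.1 (E.inj y hyx d hdx e)
    have h3 : Commute (E.f c) (E.f y) := (E.comm c hcx y hyx).mp hyc.2.2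
    have h4 : E.f y ≠ E.f c := fun e => hyc.2.1 (E.inj y hyx c hcx e)
    rw [ed, ey] at h1 h2
    rw [ec, ey] at h3 h4
    obtain ⟨ha, hb⟩ := (both_iff h12 h23 h13 hab).mp ⟨h1, h2, h3, h4⟩
    exact ⟨a, ha, b, hb, hab, ey⟩
  have hRT : ∀ a ∈ R, ∀ b ∈ R, a ≠ b → ∃ y ∈ T, E.f y = Equiv.swap a b := by
    intro a ha b hb hab
    obtain ⟨y, hyx, ey⟩ := E.surj (Equiv.swap a b) ⟨a, b, hab, rfl⟩
    obtain ⟨h1, h2, h3, h4⟩ := (both_iff h12 h23 h13 hab).mpr ⟨ha, hb⟩
    rw [← ey, ← ed] at h1 h2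
    rw [← ey, ← ec] at h3 h4
    exact ⟨y, Sc_inter.mpr ⟨hyx, ⟨hyx.1, fun e => h2 (e ▸ rfl), (E.comm d hdx y hyx).mpr h1⟩,
      ⟨hyx.1, fun e => h4 (e ▸ rfl), (E.comm c hcx y hyx).mpr h3⟩⟩, ey⟩
  set A : Finset (Fin n) :=
    Finset.univ.filter fun a => a ≠ i ∧ a ≠ j ∧ ∃ b, b ≠ i ∧ b ≠ j ∧ a ≠ b ∧ Rel C c a b with hA
  have hTA : ∀ y ∈ T, C.f y ∈ pairSet A := by
    intro y hy
    obtain ⟨hyx, hyd, -⟩ := Sc_inter.mp hy
    obtain ⟨a, b, hab, ey⟩ := C.mem y hyd
    have h1 : Commute (C.f x) (C.f y) := (C.comm x hx.1 y hyd).mp hyx.2.2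
    have h2 : C.f x ≠ C.f y := fun e => hyx.2.1 (C.inj x hx.1 y hyd e).symm
    rw [ex, ey] at h1 h2
    obtain ⟨e1, e2, e3, e4⟩ := SymChain.disjoint_of_comm hij hab h2 h1
    refine ⟨a, ?_, b, ?_, hab, ey⟩
    · rw [hA, Finset.mem_filter]
      exact ⟨Finset.mem_univ _, e1.symm, e3.symm, b, e2.symm, e4.symm, hab, y, hy.1, ey⟩
    · rw [hA, Finset.mem_filter]
      exact ⟨Finset.mem_univ _, e2.symm, e4.symm, a, e1.symm, e3.symm, hab.symm, y, hy.1,
        ey.trans (Equiv.swap_comm a b)⟩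
  have hmemT : ∀ a b, a ≠ b → a ≠ i → a ≠ j → b ≠ i → b ≠ j → Rel C c a b →
      ∃ y ∈ T, C.f y = Equiv.swap a b := by
    rintro a b hab hai haj hbi hbj ⟨y, hy, ey⟩
    refine ⟨y, ⟨hy, hy.1.1, fun e => ?_, ?_⟩, ey⟩
    · subst e
      rcases swap_inj hab (ey.symm.trans ex) with ⟨h, -⟩ | ⟨h, -⟩
      exacts [hai h, haj h]
    · rw [C.comm x hx.1 y hy.1, ex, ey]
      exact SymChain.comm_disjoint (Ne.symm hai) (Ne.symm hbi) (Ne.symm haj) (Ne.symm hbj)
  -- two members of the link have a common neighbour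
  have hcon : ∀ y ∈ T, ∀ z ∈ T, ¬ Commute y z ∨ y = z ∨ ∃ w ∈ T, ¬ Commute y w ∧ ¬ Commute z w := by
    intro y hy z hz
    by_cases hyz : Commute y z
    swap
    · exact Or.inl hyz
    by_cases he : y = z
    · exact Or.inr (Or.inl he)
    obtain ⟨a, ha, b, hb, hab, ey⟩ := hTR y hy
    obtain ⟨a', ha', b', hb', hab', ez⟩ := hTR z hz
    have hne : Equiv.swap a b ≠ Equiv.swap a' b' := fun e =>
      he (E.inj y hy.2 z hz.2 (ey.trans (e.trans ez.symm)))
    have hcc : Commute (Equiv.swap a b) (Equiv.swap a' b') := by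
      rw [← ey, ← ez]
      exact (E.comm y hy.2 z hz.2).mp hyz
    obtain ⟨e1, e2, e3, e4⟩ := SymChain.disjoint_of_comm hab hab' hne hcc
    obtain ⟨w, hwT, ew⟩ := hRT a ha a' ha' e1
    refine Or.inr (Or.inr ⟨w, hwT, fun hc => ?_, fun hc => ?_⟩)
    · have := (E.comm y hy.2 w hwT.2).mp hc
      rw [ey, ew, Equiv.swap_comm a b] at this
      exact SymChain.not_comm_share hab.symm e1 e3 this
    · have := (E.comm z hz.2 w hwT.2).mp hc
      rw [ez, ew, Equiv.swap_comm a' b', Equiv.swap_comm a a'] at this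
      exact SymChain.not_comm_share hab'.symm e1.symm e2.symm this
  have htr : ∀ a b e : Fin n, (a = b ∨ Rel C c a b) → (b = e ∨ Rel C c b e) → (a = e ∨ Rel C c a e) := by
    intro a b e h h'
    by_cases hae : a = e
    · exact Or.inl hae
    rcases h with rfl | h
    · exact h'
    rcases h' with rfl | h'
    · exact Or.inr h
    by_cases hab : a = b
    · exact hab ▸ Or.inr h'
    by_cases hbe : b = e
    · exact hbe ▸ Or.inr h
    exact Or.inr (rel_trans C hD hab hbe hae h h')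
  have hshare : ∀ y ∈ Sc D d c, ∀ z ∈ Sc D d c, ¬ Commute y z → ∀ a b a' b' : Fin n, a ≠ b → a' ≠ b' →
      C.f y = Equiv.swap a b → C.f z = Equiv.swap a' b' → a = a' ∨ Rel C c a a' := by
    intro y hy z hz hnc a b a' b' hab hab' ey ez
    have h1 : Rel C c a b := ⟨y, hy, ey⟩
    have h2 : Rel C c b' a' := ⟨z, hz, ez.trans (Equiv.swap_comm a' b')⟩
    have hns : ¬ Commute (Equiv.swap a b) (Equiv.swap a' b') := by
      rw [← ey, ← ez, ← C.comm y hy.1 z hz.1]
      exact hnc
    rcases exists_share hab hab' hns with h | h | h | h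
    · exact Or.inl h
    · exact Or.inr (h ▸ h2)
    · exact Or.inr (h ▸ h1)
    · exact htr a b a' (Or.inr h1) (h ▸ Or.inr h2)
  have hclique : ∀ a ∈ A, ∀ b ∈ A, a ≠ b → Rel C c a b := by
    intro a ha b hb hab
    rw [hA, Finset.mem_filter] at ha hb
    obtain ⟨-, hai, haj, a', ha'i, ha'j, haa, hra⟩ := ha
    obtain ⟨-, hbi, hbj, b', hb'i, hb'j, hbb, hrb⟩ := hb
    obtain ⟨y, hy, ey⟩ := hmemT a a' haa hai haj ha'i ha'j hra
    obtain ⟨z, hz, ez⟩ := hmemT b b' hbb hbi hbj hb'i hb'j hrb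
    refine Or.resolve_left ?_ hab
    rcases hcon y hy z hz with h | h | ⟨w, hw, h1, h2⟩
    · exact hshare y hy.1 z hz.1 h a a' b b' haa hbb ey ez
    · subst h
      rcases swap_inj haa (ey.symm.trans ez) with ⟨h, -⟩ | ⟨h, -⟩
      · exact Or.inl h
      · exact Or.inr (h ▸ rel_symm C hrb)
    · obtain ⟨w1, w2, hw12, ew⟩ := C.mem w hw.1.1
      refine htr a w1 b (hshare y hy.1 w hw.1 h1 a a' w1 w2 haa hw12 ey ew) ?_
      exact hshare w hw.1 z hz.1 (fun e => h2 e.symm) w1 w2 b b' hw12 hbb ew ez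
  have h1 : T.ncard = (n - 3).choose 2 := by
    rw [← hRcard, ← pairSet_ncard R]
    refine Set.ncard_congr (fun y _ => E.f y) hTR (fun y z hy hz e => E.inj y hy.2 z hz.2 e) ?_
    rintro σ ⟨a, ha, b, hb, hab, rfl⟩
    obtain ⟨y, hy, ey⟩ := hRT a ha b hb hab
    exact ⟨y, hy, ey⟩
  have h2 : T.ncard = A.card.choose 2 := by
    rw [← pairSet_ncard A]
    refine Set.ncard_congr (fun y _ => C.f y) hTA (fun y z hy hz e => C.inj y hy.1.1 z hz.1.1 e) ?_
    rintro σ ⟨a, ha, b, hb, hab, rfl⟩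
    have hr := hclique a ha b hb hab
    rw [hA, Finset.mem_filter] at ha hb
    obtain ⟨y, hy, ey⟩ := hmemT a b hab ha.2.1 ha.2.2.1 hb.2.1 hb.2.2.1 hr
    exact ⟨y, hy, ey⟩
  have hAcard : A.card = n - 3 := by
    rcases Nat.lt_trichotomy A.card (n - 3) with h | h | h
    · exfalso
      rcases Nat.lt_or_ge A.card 2 with h' | h'
      · rw [Nat.choose_eq_zero_of_lt h'] at h2
        have : 1 ≤ (n - 3).choose 2 := Nat.choose_pos (by omega)
        omega
      · have := Nat.choose_le_choose 2 (show A.card + 1 ≤ n - 3 by omega)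
        rw [Nat.choose_succ_succ, Nat.choose_one_right] at this
        have e2 : Nat.choose A.card (Nat.succ 1) = A.card.choose 2 := rfl
        omega
    · exact h
    · exfalso
      have := Nat.choose_le_choose 2 (show n - 3 + 1 ≤ A.card by omega)
      rw [Nat.choose_succ_succ, Nat.choose_one_right] at this
      have e2 : Nat.choose (n - 3) (Nat.succ 1) = (n - 3).choose 2 := rfl
      omega
  have hsub : A ⊆ ({i, j} : Finset (Fin n))ᶜ := fun a ha => by
    rw [hA, Finset.mem_filter] at ha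
    simp [ha.2.1, ha.2.2.1]
  obtain ⟨u, hu, huA⟩ : ∃ u ∈ ({i, j} : Finset (Fin n))ᶜ, u ∉ A := by
    by_contra hno
    push Not at hno
    have := Finset.card_le_card (show ({i, j} : Finset (Fin n))ᶜ ⊆ A from hno)
    rw [Finset.card_compl, Fintype.card_fin, Finset.card_pair hij] at this
    omega
  have hall : ∀ a, a ≠ i → a ≠ j → a ≠ u → a ∈ A := by
    intro a hai haj hau
    by_contra haA
    have hsub2 : A ⊆ (({i, j} : Finset (Fin n))ᶜ.erase u).erase a := fun e he =>
      Finset.mem_erase.mpr ⟨fun h => haA (h ▸ he), Finset.mem_erase.mpr ⟨fun h => huA (h ▸ he), hsub he⟩⟩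
    have := Finset.card_le_card hsub2
    rw [Finset.card_erase_of_mem (Finset.mem_erase.mpr ⟨hau, by simp [hai, haj]⟩),
      Finset.card_erase_of_mem hu, Finset.card_compl, Fintype.card_fin, Finset.card_pair hij] at this
    omega
  simp only [Finset.mem_compl, Finset.mem_insert, Finset.mem_singleton, not_or] at hu
  refine ⟨u, hu.1, hu.2, fun a b hab hai haj hbi hbj => ⟨fun h => ⟨fun e => huA ?_, fun e => huA ?_⟩,
    fun h => hclique a (hall a hai haj h.1) b (hall b hbi hbj h.2) hab⟩⟩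
  · subst e
    rw [hA, Finset.mem_filter]
    exact ⟨Finset.mem_univ _, hai, haj, b, hbi, hbj, hab, h⟩
  · subst e
    rw [hA, Finset.mem_filter]
    exact ⟨Finset.mem_univ _, hbi, hbj, a, hai, haj, hab.symm, rel_symm C h⟩

/-- The members commuting with a far member: all pairs avoiding one point, or two cliques in degree five or six. -/
theorem shape (hD : IsThreeTranspositionClass D) (hp : IsPrimitiveUnderConj D)
    (hw : ∃ a ∈ D, ∃ b ∈ D, a ≠ b ∧ Commute a b) (hn : 5 ≤ n) (hd : d ∈ D) {c : G} (hc : c ∈ D)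
    (hdc : ¬ Commute d c) :
    (∃ u, ∀ a b, a ≠ b → (Rel C c a b ↔ a ≠ u ∧ b ≠ u)) ∨ (n = 5 ∧ (Sc D d c).ncard = 2) ∨ n = 6 := by
  classical
  obtain ⟨x, hx⟩ : ∃ x, x ∈ Sc D d c := exists_common hD hp hw hd hc hdc
  obtain ⟨i, j, hij, ex⟩ := C.mem x hx.1
  have hrel : Rel C c i j := ⟨x, hx, ex⟩
  obtain ⟨u, hui, huj, hu⟩ := link C hD hn hd hc hdc hij hrel
  obtain ⟨r, s, hr, hs, hrs⟩ : ∃ r s, r ∈ ({i, j, u} : Finset (Fin n))ᶜ ∧ s ∈ ({i, j, u} : Finset (Fin n))ᶜ ∧
      r ≠ s := by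
    have hcard : 2 ≤ ({i, j, u} : Finset (Fin n))ᶜ.card := by
      rw [Finset.card_compl, Fintype.card_fin,
        Finset.card_insert_of_notMem (by simp [hij, hui.symm]), Finset.card_pair huj.symm]
      omega
    obtain ⟨r, hr, s, hs, hrs⟩ := Finset.one_lt_card.mp hcard
    exact ⟨r, s, hr, hs, hrs⟩
  simp only [Finset.mem_compl, Finset.mem_insert, Finset.mem_singleton, not_or] at hr hs
  by_cases hB : ∃ a b, (a = i ∨ a = j) ∧ (b ≠ i ∧ b ≠ j ∧ b ≠ u) ∧ Rel C c a b
  · obtain ⟨a, b, ha, ⟨hbi, hbj, hbu⟩, hab⟩ := hB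
    left
    refine ⟨u, ?_⟩
    have hb_all : ∀ e, e ≠ u → e ≠ b → Rel C c e b := by
      intro e heu heb
      rcases ha with rfl | rfl
      · by_cases hei : e = a
        · exact hei ▸ hab
        by_cases hej : e = j
        · subst hej; exact rel_trans C hD hei (Ne.symm hbi) heb (rel_symm C hrel) hab
        exact (hu e b heb hei hej hbi hbj).mpr ⟨heu, hbu⟩
      · by_cases hei : e = a
        · exact hei ▸ hab
        by_cases hej : e = i
        · subst hej; exact rel_trans C hD hei (Ne.symm hbj) heb hrel hab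
        exact (hu e b heb hej hei hbi hbj).mpr ⟨heu, hbu⟩
    have hall : ∀ e f, e ≠ f → e ≠ u → f ≠ u → Rel C c e f := by
      intro e f hef heu hfu
      by_cases heb : e = b
      · subst heb; exact rel_symm C (hb_all f hfu hef.symm)
      by_cases hfb : f = b
      · subst hfb; exact hb_all e heu hef
      exact rel_trans C hD heb (Ne.symm hfb) hef (hb_all e heu heb) (rel_symm C (hb_all f hfu hfb))
    have hu_none : ∀ e, e ≠ u → ¬ Rel C c u e := by
      intro e heu h
      have hub : Rel C c u b := by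
        by_cases heb : e = b
        · exact heb ▸ h
        · exact rel_trans C hD (Ne.symm heu) heb (Ne.symm hbu) h (hall e b heb heu hbu)
      exact ((hu u b (Ne.symm hbu) hui huj hbi hbj).mp hub).1 rfl
    intro e f hef
    refine ⟨fun h => ⟨fun he => ?_, fun hf => ?_⟩, fun h => hall e f hef h.1 h.2⟩
    · subst he; exact hu_none f hef.symm h
    · subst hf; exact hu_none e hef (rel_symm C h)
  push Not at hB
  obtain ⟨v, hvr, hvs, hv⟩ := link C hD hn hd hc hdc hrs ((hu r s hrs hr.1 hr.2.1 hs.1 hs.2.1).mpr ⟨hr.2.2, hs.2.2⟩)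
  have hone : ∀ t, t ≠ i → t ≠ j → t ≠ u → t ≠ r → t ≠ s → t = v := by
    intro t hti htj htu htr hts
    by_contra htv
    have hvi : v ≠ i := fun e => ((hv i j hij (Ne.symm hr.1) (Ne.symm hs.1) (Ne.symm hr.2.1) (Ne.symm hs.2.1)).mp
      hrel).1 e.symm
    exact hB i t (Or.inl rfl) ⟨hti, htj, htu⟩
      ((hv i t (Ne.symm hti) (Ne.symm hr.1) (Ne.symm hs.1) htr hts).mpr ⟨Ne.symm hvi, htv⟩)
  have hn6 : n ≤ 6 := by
    by_contra hlt
    have hsub : (Finset.univ : Finset (Fin n)) ⊆ {i, j, u, r, s, v} := fun t _ => by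
      simp only [Finset.mem_insert, Finset.mem_singleton]
      by_contra hc'
      simp only [not_or] at hc'
      exact hc'.2.2.2.2.2 (hone t hc'.1 hc'.2.1 hc'.2.2.1 hc'.2.2.2.1 hc'.2.2.2.2.1)
    have := (Finset.card_le_card hsub).trans Finset.card_le_six
    rw [Finset.card_univ, Fintype.card_fin] at this
    omega
  by_cases h6 : n = 6
  · exact Or.inr (Or.inr h6)
  have h5 : n = 5 := by omega
  have hsurj : ∀ t, t = i ∨ t = j ∨ t = u ∨ t = r ∨ t = s := by
    intro t
    by_contra hc'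
    simp only [not_or] at hc'
    have hsub : ({t, i, j, u, r, s} : Finset (Fin n)) ⊆ Finset.univ := Finset.subset_univ _
    have := Finset.card_le_card hsub
    rw [Finset.card_univ, Fintype.card_fin, Finset.card_insert_of_notMem (by simp [hc']),
      Finset.card_insert_of_notMem (by simp [hij, hui.symm, Ne.symm hr.1, Ne.symm hs.1]),
      Finset.card_insert_of_notMem (by simp [huj.symm, Ne.symm hr.2.1, Ne.symm hs.2.1]),
      Finset.card_insert_of_notMem (by simp [Ne.symm hr.2.2, Ne.symm hs.2.2]), Finset.card_pair hrs] at this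
    omega
  by_cases hiu : Rel C c i u
  · exfalso
    have hju : Rel C c j u := rel_trans C hD hij.symm hui.symm huj.symm (rel_symm C hrel) hiu
    have h1 := (hv i j hij (Ne.symm hr.1) (Ne.symm hs.1) (Ne.symm hr.2.1) (Ne.symm hs.2.1)).mp hrel
    have h2 := (hv j u huj.symm (Ne.symm hr.2.1) (Ne.symm hs.2.1) (Ne.symm hr.2.2) (Ne.symm hs.2.2)).mp hju
    rcases hsurj v with e | e | e | e | e
    exacts [h1.1 e.symm, h1.2 e.symm, h2.2 e.symm, hvr e, hvs e]
  right; left
  refine ⟨h5, ?_⟩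
  have hju : ¬ Rel C c j u := fun h => hiu (rel_trans C hD hij huj.symm hui.symm hrel h)
  obtain ⟨y, hy, ey⟩ := (hu r s hrs hr.1 hr.2.1 hs.1 hs.2.1).mpr ⟨hr.2.2, hs.2.2⟩
  have hxy : x ≠ y := fun e => by
    subst e
    rcases swap_inj hij (ex.symm.trans ey) with ⟨h, -⟩ | ⟨h, -⟩
    exacts [hr.1 h.symm, hs.1 h.symm]
  have heq : Sc D d c = {x, y} := by
    ext z
    refine ⟨fun hz => ?_, ?_⟩
    · obtain ⟨a, b, hab, ez⟩ := C.mem z hz.1
      have hzr : Rel C c a b := ⟨z, hz, ez⟩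
      have key : (a = i ∧ b = j) ∨ (a = j ∧ b = i) ∨ (a = r ∧ b = s) ∨ (a = s ∧ b = r) := by
        have hno : ∀ p q, p ≠ q → Rel C c p q → (p = i ∨ p = j) → q = i ∨ q = j := by
          intro p q hpq hpr hp'
          by_contra hq
          simp only [not_or] at hq
          by_cases hqu : q = u
          · subst hqu
            rcases hp' with rfl | rfl
            exacts [hiu hpr, hju hpr]
          · exact hB p q hp' ⟨hq.1, hq.2, hqu⟩ hpr
        have hnu : ∀ p q, p ≠ q → Rel C c p q → p ≠ u := by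
          intro p q hpq hpr hpu
          subst hpu
          by_cases hq : q = i ∨ q = j
          · rcases hno q p hpq.symm (rel_symm C hpr) hq with h | h
            exacts [hui h, huj h]
          · simp only [not_or] at hq
            exact ((hu p q hpq hui huj hq.1 hq.2).mp hpr).1 rfl
        rcases hsurj a with e | e | e | e | e
        · have hb := hno a b hab hzr (Or.inl e)
          rcases hb with hb | hb
          · exact absurd (e.trans hb.symm) hab
          · exact Or.inl ⟨e, hb⟩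
        · have hb := hno a b hab hzr (Or.inr e)
          rcases hb with hb | hb
          · exact Or.inr (Or.inl ⟨e, hb⟩)
          · exact absurd (e.trans hb.symm) hab
        · exact absurd e (hnu a b hab hzr)
        · rcases hsurj b with f | f | f | f | f
          · exact absurd (hno b a hab.symm (rel_symm C hzr) (Or.inl f)) (by rw [e]; simp [hr.1, hr.2.1])
          · exact absurd (hno b a hab.symm (rel_symm C hzr) (Or.inr f)) (by rw [e]; simp [hr.1, hr.2.1])
          · exact absurd f (hnu b a hab.symm (rel_symm C hzr))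
          · exact absurd (e.trans f.symm) hab
          · exact Or.inr (Or.inr (Or.inl ⟨e, f⟩))
        · rcases hsurj b with f | f | f | f | f
          · exact absurd (hno b a hab.symm (rel_symm C hzr) (Or.inl f)) (by rw [e]; simp [hs.1, hs.2.1])
          · exact absurd (hno b a hab.symm (rel_symm C hzr) (Or.inr f)) (by rw [e]; simp [hs.1, hs.2.1])
          · exact absurd f (hnu b a hab.symm (rel_symm C hzr))
          · exact Or.inr (Or.inr (Or.inr ⟨e, f⟩))
          · exact absurd (e.trans f.symm) hab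
      rcases key with ⟨rfl, rfl⟩ | ⟨rfl, rfl⟩ | ⟨rfl, rfl⟩ | ⟨rfl, rfl⟩
      · exact Or.inl (C.inj z hz.1 x hx.1 (ez.trans ex.symm))
      · exact Or.inl (C.inj z hz.1 x hx.1 (ez.trans ((Equiv.swap_comm _ _).trans ex.symm)))
      · exact Or.inr (C.inj z hz.1 y hy.1 (ez.trans ey.symm))
      · exact Or.inr (C.inj z hz.1 y hy.1 (ez.trans ((Equiv.swap_comm _ _).trans ey.symm)))
    · rintro (rfl | rfl)
      exacts [hx, hy]
  rw [heq, Set.ncard_pair hxy]

theorem five_partners : ∀ σ : Equiv.Perm (Fin 5), σ.IsSwap →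
    {τ : Equiv.Perm (Fin 5) | τ.IsSwap ∧ τ ≠ σ ∧ Commute σ τ}.ncard = 3 := by
  rintro σ ⟨a, b, hab, rfl⟩
  have h : {τ : Equiv.Perm (Fin 5) | τ.IsSwap ∧ τ ≠ Equiv.swap a b ∧ Commute (Equiv.swap a b) τ} =
      pairSet ({a, b} : Finset (Fin 5))ᶜ := by
    ext τ
    constructor
    · rintro ⟨⟨p, q, hpq, rfl⟩, hne, hc⟩
      obtain ⟨e1, e2, e3, e4⟩ := SymChain.disjoint_of_comm hab hpq (fun e => hne e.symm) hc
      exact ⟨p, by simp [e1.symm, e3.symm], q, by simp [e2.symm, e4.symm], hpq, rfl⟩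
    · rintro ⟨p, hp, q, hq, hpq, rfl⟩
      simp only [Finset.mem_compl, Finset.mem_insert, Finset.mem_singleton, not_or] at hp hq
      refine ⟨⟨p, q, hpq, rfl⟩, fun e => ?_,
        SymChain.comm_disjoint (Ne.symm hp.1) (Ne.symm hq.1) (Ne.symm hp.2) (Ne.symm hq.2)⟩
      rcases swap_inj hpq e with ⟨h, -⟩ | ⟨h, -⟩
      exacts [hp.1 h, hp.2 h]
  rw [h, pairSet_ncard, Finset.card_compl, Fintype.card_fin, Finset.card_pair hab]
  rfl

/-- The configuration with two common members in degree five does not occur. -/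
theorem five_two_false {d : G} (C : Coord D d (Swaps 5)) (hD : IsThreeTranspositionClass D)
    (hp : IsPrimitiveUnderConj D) (hw : ∃ a ∈ D, ∃ b ∈ D, a ≠ b ∧ Commute a b) (hd : d ∈ D) {c : G} (hc : c ∈ D)
    (hdc : ¬ Commute d c) (h : (Sc D d c).ncard = 2) : False := by
  classical
  haveI := Fintype.ofFinite ↥D
  haveI : Nonempty ↥D := ⟨⟨d, hd⟩⟩
  let R : ↥D → ↥D → Prop := fun x y => (y : G) ∈ Ds D x
  have hsets : ∀ (P : ↥D → Prop) [DecidablePred P] (Q : Set G), (∀ z : ↥D, P z ↔ (z : G) ∈ Q) → Q ⊆ D →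
      (Finset.univ.filter P).card = Q.ncard := by
    intro P _ Q hPQ hQ
    rw [← Set.ncard_coe_finset, ← Set.ncard_image_of_injective _ Subtype.val_injective]
    congr 1
    ext z
    simp only [Finset.coe_filter, Finset.mem_univ, true_and, Set.mem_image, Set.mem_setOf_eq]
    exact ⟨fun ⟨w, hw, e⟩ => e ▸ (hPQ w).mp hw, fun hz => ⟨⟨z, hQ hz⟩, (hPQ _).mpr hz, rfl⟩⟩
  have hdeg : ∀ a ∈ D, (Ds D a).ncard = 10 := by
    intro a ha
    obtain ⟨E⟩ := C.exists_at hD hd ha
    rw [show (10 : ℕ) = (Finset.univ : Finset (Fin 5)).card.choose 2 from rfl, ← pairSet_ncard Finset.univ]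
    refine Set.ncard_congr (fun y _ => E.f y) ?_ (fun y z hy hz e => E.inj y hy z hz e) ?_
    · intro y hy
      obtain ⟨p, q, hpq, e⟩ := E.mem y hy
      exact ⟨p, Finset.mem_univ _, q, Finset.mem_univ _, hpq, e⟩
    · rintro σ ⟨p, -, q, -, hpq, rfl⟩
      obtain ⟨y, hy, e⟩ := E.surj _ ⟨p, q, hpq, rfl⟩
      exact ⟨y, hy, e⟩
  have hreg : Srg.IsReg R 10 3 2 := by
    refine ⟨fun x y hxy => mem_both x.2 hxy, fun x hx => hx.2.1 rfl, fun x => ?_, fun x y hxy => ?_,
      fun x y hne hnr => ?_⟩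
    · exact (hsets (fun z => R x z) (Ds D x) (fun z => Iff.rfl) (fun z hz => hz.1)).trans (hdeg _ x.2)
    · refine (hsets (fun z => R x z ∧ R y z) (Sc D x y) (fun z => Iff.rfl) (fun z hz => hz.1.1)).trans ?_
      obtain ⟨E⟩ := C.exists_at hD hd x.2
      rw [← five_partners _ (E.mem _ hxy)]
      refine Set.ncard_congr (fun z _ => E.f z) ?_ (fun y z hy hz e => E.inj y hy.1 z hz.1 e) ?_
      · intro z hz
        exact ⟨E.mem z hz.1, fun e => hz.2.2.1 (E.inj z hz.1 y hxy e), (E.comm y hxy z hz.1).mp hz.2.2.2⟩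
      · rintro τ ⟨hτ, hne', hcm⟩
        obtain ⟨z, hz, rfl⟩ := E.surj τ hτ
        exact ⟨z, ⟨hz, hz.1, fun e => hne' (e ▸ rfl), (E.comm y hxy z hz).mpr hcm⟩, rfl⟩
    · have hxy : ¬ Commute (x : G) (y : G) := fun hc' =>
        hnr ⟨y.2, fun e => hne (Subtype.ext e.symm), hc'⟩
      refine (hsets (fun z => R x z ∧ R y z) (Sc D x y) (fun z => Iff.rfl) (fun z hz => hz.1.1)).trans ?_
      obtain ⟨g, hg⟩ := cls_exists_conj hD hd x.2
      have hgc : g * c * g⁻¹ ∈ D := cls_conj hD g hc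
      have hxc : ¬ Commute (x : G) (g * c * g⁻¹) := by
        rw [← hg, commute_cj_iff]
        exact hdc
      rw [Sc_ncard hD hp hw x.2 hgc hxc y.2 hxy, ← h, ← Set.ncard_image_of_injective (Sc D d c) (cj_injective g)]
      congr 1
      rw [Sc, Sc, Set.image_inter (cj_injective g), cj_Ds hD, cj_Ds hD, hg]
  have hv := Srg.count hreg
  have hsq := Srg.discr_square' hreg (by norm_num) (by
    push_cast at hv ⊢
    omega)
  obtain ⟨r, hr⟩ := hsq
  norm_num at hr
  have h1 : r ≤ 5 := by nlinarith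
  have h2 : -5 ≤ r := by nlinarith
  interval_cases r <;> norm_num at hr

/-- Relabel so that the missing point is the first one. -/
theorem relabel (σ : Equiv.Perm (Fin n)) (hD : IsThreeTranspositionClass D) :
    ∃ C' : Coord D d (Swaps n), ∀ c a b, Rel C' c (σ a) (σ b) ↔ Rel C c a b := by
  have hsw : ∀ a b : Fin n, σ * Equiv.swap a b * σ⁻¹ = Equiv.swap (σ a) (σ b) := fun a b =>
    (Equiv.swap_apply_apply σ a b).symm
  refine ⟨{
    f := fun x => σ * C.f x * σ⁻¹
    mem := fun x hx => ?_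
    inj := fun x hx y hy e => C.inj x hx y hy (cj_injective σ e)
    surj := fun t ht => ?_
    comm := fun x hx y hy => (C.comm x hx y hy).trans (commute_cj_iff σ).symm
    conj := fun x hx y hy => by rw [C.conj x hx y hy]; group }, fun c a b => ?_⟩
  · obtain ⟨p, q, hpq, e⟩ := C.mem x hx
    exact ⟨σ p, σ q, σ.injective.ne hpq, by rw [e, hsw]⟩
  · obtain ⟨p, q, hpq, rfl⟩ := ht
    obtain ⟨x, hx, e⟩ := C.surj (Equiv.swap (σ⁻¹ p) (σ⁻¹ q)) ⟨_, _, σ⁻¹.injective.ne hpq, rfl⟩
    refine ⟨x, hx, ?_⟩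
    show σ * C.f x * σ⁻¹ = _
    rw [e, hsw]
    simp
  · constructor
    · rintro ⟨x, hx, e⟩
      exact ⟨x, hx, cj_injective σ (e.trans (hsw a b).symm)⟩
    · rintro ⟨x, hx, e⟩
      exact ⟨x, hx, by show σ * C.f x * σ⁻¹ = _; rw [e, hsw]⟩

/-- A far member missing one point gives the symmetric group on two more points. -/
theorem recognise {k : ℕ} (hk : 4 ≤ k) {d : G} (C : Coord D d (Swaps (k + 1))) (hD : IsThreeTranspositionClass D)
    (hp : IsPrimitiveUnderConj D) (hw : ∃ a ∈ D, ∃ b ∈ D, a ≠ b ∧ Commute a b) (hd : d ∈ D) {c : G} (hc : c ∈ D)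
    (hdc : ¬ Commute d c) (hu : ∀ a b, a ≠ b → (Rel C c a b ↔ a ≠ 0 ∧ b ≠ 0)) :
    ∃ e : G ≃* Equiv.Perm (Fin (k + 3)), e '' D = {σ | σ.IsSwap} := by
  classical
  have hne : ∀ i : Fin k, i.castSucc ≠ i.succ := fun i => ne_of_lt Fin.castSucc_lt_succ
  choose g hgD hgf using fun i : Fin k => C.surj (Equiv.swap i.castSucc i.succ) ⟨_, _, hne i, rfl⟩
  have hcg : ∀ i : Fin k, Commute c (g i) ↔ i.val ≠ 0 := by
    intro i
    constructor
    · intro hcm hi
      obtain ⟨h0, -⟩ := (hu i.castSucc i.succ (hne i)).mp ⟨g i, mem_Sc hdc (hgD i) hcm, hgf i⟩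
      exact h0 (Fin.ext hi)
    · intro hi
      obtain ⟨y, hy, ey⟩ := (hu i.castSucc i.succ (hne i)).mpr
        ⟨fun e => hi (congrArg Fin.val e), Fin.succ_ne_zero i⟩
      rw [C.inj (g i) (hgD i) y hy.1 ((hgf i).trans ey.symm)]
      exact hy.2.2.2
  have hgg : ∀ i j : Fin k, i.val + 1 < j.val → Commute (g i) (g j) := by
    intro i j hij
    rw [C.comm _ (hgD i) _ (hgD j), hgf, hgf]
    exact SymChain.comm_disjoint (by simp [Fin.ext_iff]; omega) (by simp [Fin.ext_iff]; omega)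
      (by simp [Fin.ext_iff]; omega) (by simp [Fin.ext_iff]; omega)
  have hgn : ∀ i j : Fin k, i.val + 1 = j.val → ¬ Commute (g i) (g j) := by
    intro i j hij
    rw [C.comm _ (hgD i) _ (hgD j), hgf, hgf, show j.castSucc = i.succ from Fin.ext (by simp; omega)]
    exact SymChain.not_comm_share (hne i) (by simp [Fin.ext_iff]; omega) (by simp [Fin.ext_iff]; omega)
  let v : Fin (k + 2) → G := Fin.cons d (Fin.cons c g)
  have hv0 : v 0 = d := rfl
  have hv1 : v (Fin.succ 0) = c := rfl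
  have hv2 : ∀ i : Fin k, v i.succ.succ = g i := fun i => rfl
  obtain ⟨φ, hφ, hφv, hr⟩ := SymChain.exists_hom_chain (D := D) (k + 2) (by omega) hD.1 v
    (fun i => by
      induction i using Fin.cases with
      | zero => exact hd
      | succ i => induction i using Fin.cases with
        | zero => exact hc
        | succ i => exact (hgD i).1)
    (fun i j hij => by
      induction j using Fin.cases with
      | zero => simp at hij
      | succ j => induction j using Fin.cases with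
        | zero => simp at hij
        | succ j =>
          induction i using Fin.cases with
          | zero => exact (hgD j).2.2
          | succ i => induction i using Fin.cases with
            | zero => exact (hcg j).mpr (by simp at hij; omega)
            | succ i => exact hgg i j (by simp at hij; omega))
    (fun i j hij => by
      induction j using Fin.cases with
      | zero => simp at hij
      | succ j => induction j using Fin.cases with
        | zero =>
          induction i using Fin.cases with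
          | zero => exact hdc
          | succ i => simp at hij
        | succ j =>
          induction i using Fin.cases with
          | zero => simp at hij
          | succ i => induction i using Fin.cases with
            | zero => exact fun h => (hcg j).mp h (by simp at hij; omega)
            | succ i => exact hgn i j (by simp at hij; omega))
    (by
      show v ⟨0, _⟩ ≠ v ⟨2, _⟩
      rw [show (⟨2, by omega⟩ : Fin (k + 2)) = (⟨0, by omega⟩ : Fin k).succ.succ from Fin.ext rfl, hv2]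
      exact fun e => (hgD _).2.1 e.symm)
  have hrd : d ∈ φ.range := hr ▸ Subgroup.subset_closure ⟨0, rfl⟩
  have hrc : c ∈ φ.range := hr ▸ Subgroup.subset_closure ⟨Fin.succ 0, rfl⟩
  have hDs : Ds D d ⊆ φ.range := by
    let L : Subgroup G := Subgroup.closure (Set.range g)
    let L' : Subgroup (Equiv.Perm (Fin (k + 1))) :=
      { carrier := {τ | ∃ h ∈ L, Commute h d ∧ ∀ x ∈ Ds D d, C.f (h * x * h⁻¹) = τ * C.f x * τ⁻¹}
        one_mem' := ⟨1, one_mem L, Commute.one_left d, fun x _ => by simp⟩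
        mul_mem' := by
          rintro τ τ' ⟨h, hh, hhd, e⟩ ⟨h', hh', hhd', e'⟩
          refine ⟨h * h', mul_mem hh hh', hhd.mul_left hhd', fun x hx => ?_⟩
          rw [← cj_cj, e _ (Ds_closed hD hhd' hx), e' x hx, cj_cj]
        inv_mem' := by
          rintro τ ⟨h, hh, hhd, e⟩
          refine ⟨h⁻¹, inv_mem hh, hhd.inv_left, fun x hx => ?_⟩
          have := e _ (Ds_closed hD hhd.inv_left hx)
          rw [cj_inv] at this
          rw [this]
          group }
    have hgen : ∀ i : Fin k, Equiv.swap i.castSucc i.succ ∈ L' := fun i =>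
      ⟨g i, Subgroup.subset_closure ⟨i, rfl⟩, (hgD i).2.2.symm, fun x hx => by rw [C.conj x hx _ (hgD i), hgf]⟩
    have htop : ∀ τ, τ ∈ L' := fun τ => by
      have hm : τ ∈ Submonoid.closure (Set.range fun i : Fin k => Equiv.swap i.castSucc i.succ) :=
        (Equiv.Perm.mclosure_swap_castSucc_succ k).symm ▸ Submonoid.mem_top τ
      induction hm using Submonoid.closure_induction with
      | mem x hx => obtain ⟨i, rfl⟩ := hx; exact hgen i
      | one => exact one_mem L'
      | mul x y _ _ hx hy => exact mul_mem hx hy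
    have hLr : L ≤ φ.range := hr ▸ Subgroup.closure_mono (by rintro _ ⟨i, rfl⟩; exact ⟨i.succ.succ, hv2 i⟩)
    intro x hx
    obtain ⟨a, b, hab, ex⟩ := C.mem x hx
    obtain ⟨k', rfl⟩ : ∃ k', k = k' + 1 := ⟨k - 1, by omega⟩
    obtain ⟨τ, hτ⟩ := SymChain.pair_conj a b hab
    obtain ⟨h, hh, hhd, e⟩ := htop τ
    have h0 : C.f (g ⟨0, by omega⟩) = Equiv.swap 0 1 := by rw [hgf]; rfl
    have hx' : h * g ⟨0, by omega⟩ * h⁻¹ = x := by
      refine C.inj _ (Ds_closed hD hhd (hgD _)) x hx ?_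
      rw [e _ (hgD _), h0, hτ, ex]
    rw [← hx']
    exact mul_mem (mul_mem (hLr hh) (hLr (Subgroup.subset_closure ⟨_, rfl⟩))) (inv_mem (hLr hh))
  have htop : φ.range = ⊤ := eq_top_of_far hD hp hw hd hc hdc _ hrd hrc hDs
  let e := MulEquiv.ofBijective φ ⟨hφ, MonoidHom.range_eq_top.mp htop⟩
  refine ⟨e.symm, ?_⟩
  have hd0 : φ (Equiv.swap 0 1) = d := by
    rw [show (Equiv.swap 0 1 : Equiv.Perm (Fin (k + 3))) = Equiv.swap (0 : Fin (k + 2)).castSucc (0 : Fin (k + 2)).succ
      from rfl, hφv]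
    exact hv0
  ext σ
  constructor
  · rintro ⟨y, hy, rfl⟩
    obtain ⟨h, rfl⟩ := cls_exists_conj hD hd hy
    rw [Set.mem_setOf_eq, map_mul, map_mul, map_inv,
      show e.symm d = Equiv.swap 0 1 from e.symm_apply_eq.mpr hd0.symm, ← Equiv.swap_apply_apply]
    exact ⟨_, _, (e.symm h).injective.ne (by simp), rfl⟩
  · rintro ⟨a, b, hab, rfl⟩
    obtain ⟨τ, hτ⟩ := SymChain.pair_conj a b hab
    refine ⟨φ (Equiv.swap a b), ?_, e.symm_apply_apply _⟩
    rw [← hτ, map_mul, map_mul, map_inv, hd0]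
    exact cls_conj hD _ hd

end Sym

/-- Degree at least five: two more points, except possibly in degree six. -/
theorem step_sym (hD : IsThreeTranspositionClass D) (hp : IsPrimitiveUnderConj D)
    (hw : ∃ a ∈ D, ∃ b ∈ D, a ≠ b ∧ Commute a b) {d : G} (hd : d ∈ D) {n : ℕ} (hn : 5 ≤ n)
    (C : Coord D d (Sym.Swaps n)) :
    (∃ e : G ≃* Equiv.Perm (Fin (n + 2)), e '' D = {σ | σ.IsSwap}) ∨ n = 6 := by
  classical
  obtain ⟨c, hc, hdc⟩ := exists_noncommute hD hp.2.1 hd
  rcases Sym.shape C hD hp hw hn hd hc hdc with ⟨u, hu⟩ | ⟨rfl, h⟩ | h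
  · left
    obtain ⟨k, rfl⟩ : ∃ k, n = k + 1 := ⟨n - 1, by omega⟩
    obtain ⟨C', hC'⟩ := Sym.relabel C (Equiv.swap 0 u) hD
    refine Sym.recognise (by omega) C' hD hp hw hd hc hdc fun a b hab => ?_
    have := hC' c (Equiv.swap 0 u a) (Equiv.swap 0 u b)
    rw [Equiv.swap_apply_self, Equiv.swap_apply_self] at this
    rw [this, hu _ _ ((Equiv.injective _).ne hab)]
    refine and_congr (not_congr ?_) (not_congr ?_) <;>
      rw [Equiv.apply_eq_iff_eq_symm_apply, Equiv.symm_swap, Equiv.swap_apply_right]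
  · exact (Sym.five_two_false C hD hp hw hd hc hdc h).elim
  · exact Or.inr h

/-- The step from a symmetric group. -/
theorem step_sym_kind (n : ℕ) : Step.{u} (.sym n) := by
  intro G _ _ D hP d hd hcores hhas
  obtain ⟨hn, hn6, e, he⟩ := hhas
  have hne : ∃ t ∈ Sym.Swaps n, t ≠ 1 := by
    refine ⟨Equiv.swap ⟨0, by omega⟩ ⟨1, by omega⟩, ⟨_, _, ?_, rfl⟩, Sym.swap_ne_one ?_⟩ <;> simp
  obtain ⟨C⟩ := coord_of_iso hP.cls hP.prim hP.pair hd hcores.2 hne e he
  rcases step_sym hP.cls hP.prim hP.pair hd hn C with h | h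
  · exact ⟨.sym (n + 2), rfl, by omega, by omega, h⟩
  · exact absurd h hn6

end CfsgFischer
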