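/-
A primitive class whose partner group is a projective reflection group over three elements: the group is the
projective reflection group in one more dimension.
-/
import Cfsg.Agent.Lib.Fischer.Refl.Table

set_option autoImplicit false

namespace CfsgFischer

open Cfsg CfsgThreeTrans QuadraticMap CfsgReflClass Refl

universe u

/-- **The reflection step.** -/
theorem step_refl (n : ℕ) (μ c : ZMod 3) : Step.{u} (.refl n μ c) := by
  intro G _ _ D hP d hd hcores hHas
  obtain ⟨hn, Q, hQ, hμ, hc, e, he⟩ := hHas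
  have hD := hP.cls
  have hw := hP.pair
  obtain ⟨u, v, hu, hv, huv⟩ : ∃ u v, Q u = c ∧ Q v = c ∧ B Q u v = 0 := by
    obtain ⟨u, -, hu⟩ := exists_orth_norm hQ (k := 0) (by omega) ![] (fun i => i.elim0) (fun i => i.elim0) hc
    obtain ⟨v, hv, hvc⟩ := exists_orth_norm hQ (k := 1) (by omega) ![u]
      (fun i => by fin_cases i; simp [hu, hc]) (fun i j hij => absurd (Subsingleton.elim i j) hij) hc
    exact ⟨u, v, hu, hvc, hv 0⟩
  obtain ⟨w, hwc, huw, hwv⟩ := exists_linking hQ hn hc hu hv huv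
  obtain ⟨g, hg, hgu⟩ := rset_of_vec hc hu
  obtain ⟨k, hk, hkw⟩ := rset_of_vec hc hwc
  have hT : ∃ t ∈ (QuotientGroup.mk : ↥(Cfsg.reflectionSubgroup (⇑Q) c) →
      ↥(Cfsg.reflectionSubgroup (⇑Q) c) ⧸ Subgroup.center ↥(Cfsg.reflectionSubgroup (⇑Q) c)) '' RSet Q c,
      t ≠ 1 := by
    refine ⟨_, ⟨g, hg, rfl⟩, fun h => ?_⟩
    have hgk : Commute g k := (Subgroup.mem_center_iff.mp ((QuotientGroup.eq_one_iff g).mp h) k).symm
    rcases (refl_commute_iff hc hu hwc hgu hkw).mp hgk with h1 | h1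
    · exact huw h1
    · exact hwv ((h1.B_zero (Q := Q) v).mp huv)
  obtain ⟨C0⟩ := coord_of_iso hD hP.prim hw hd hcores.2 hT e he
  obtain ⟨C⟩ := RCoord.of_coord hD hQ hn hc C0
  obtain ⟨e₀, he₀, hde₀⟩ := exists_noncommute hD hP.prim.2.1 hd
  have H : Hyp D d Q c := ⟨hD, hP.prim, hw, hQ, hn, hc, hd⟩
  obtain ⟨w₀, hw₀⟩ := exists_pt C H he₀ hde₀
  have h := Refl.isReflClass (C := C) ⟨H, he₀, hde₀, hw₀⟩ hP.center
  rw [hμ] at h
  exact ⟨_, rfl, by omega, h⟩

end CfsgFischer
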