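/-
The step from type M(22): the group has type M(23).
-/
import Cfsg.Agent.Lib.Fischer.LocalPairs
import Cfsg.Agent.Lib.Fischer.FibreCount
import Cfsg.Agent.Lib.Fischer.StepRefl
import Cfsg.Agent.Lib.ThreeTrans.M23.Params

set_option autoImplicit false

namespace CfsgFischer

open Cfsg CfsgThreeTrans Descend

universe u

variable {G : Type u} [Group G] [Finite G] {D : Set G}

/-- The data of type M(23) at a member whose local class has type M(22). -/
theorem base23 (hP : Prim D) {d : G} (hd : d ∈ D) (hc : CoresCentral D d) (hE : Prim (QD (Ds D d)))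
    (h22 : IsOfTypeM22 (QG (Ds D d)) (QD (Ds D d))) : ∃ B : M23.Base D, B.t = d := by
  obtain ⟨s, hs, h3, h2, F, iF, iFt, iFd, hF, ⟨A⟩⟩ := M22.exists_full (cls_group hE.cls) hE.prim h22
  exact ⟨⟨d, hd, hE.cls, hE.prim, h22, hc.2, local_two hP hd, local_class hP hd, s, hs, h3, h2, F, hF, A⟩, rfl⟩

/-- **The step from type M(22).** -/
theorem step_m22 : Step.{u} .m22 := by
  intro G _ _ D hP d hd hc hHas
  obtain ⟨h22, hpairs⟩ := hHas
  have hD := hP.cls
  have hE := (local_good G D hP d hd hc).1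
  obtain ⟨B, -⟩ := base23 hP hd hc hE h22
  have hμ := (M23.params hD hP.prim B).2
  have hm : ∀ a ∈ QD (Ds D d), ∀ b ∈ QD (Ds D d), ¬ Commute a b → (Pair (QD (Ds D d)) a b).ncard = 126 := by
    obtain ⟨s, hs, -, -, F, iF, iFt, iFd, hF, ⟨A⟩⟩ := M22.exists_full (cls_group hE.cls) hE.prim h22
    exact (M22.params hE.cls hE.prim A).2
  have main : ∀ c ∈ D, ¬ Commute d c → ∃ c₃ : ZMod 3, c₃ ≠ 0 ∧
      IsReflClass (QG (Pair D d c)) (QD (Pair D d c)) 7 (-c₃) c₃ := by
    intro c hcD hdc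
    have hcard : (Sc D d c).ncard = 351 := hμ d hd c hcD hdc
    obtain ⟨H, hloc⟩ := sc_hyp hP hd hc (n := 6) (m := 126) (by norm_num) (fun _ => 1)
      (fun a ha b hb hab => ⟨hm a ha b hb hab, hpairs a ha b hb hab⟩) hcD hdc (by omega)
    have hG := H.good
    obtain ⟨x, hx⟩ := Set.nonempty_of_ncard_ne_zero (s := Sc D d c) (by omega)
    set x' : ↥(Subgroup.closure (Sc D d c)) := ⟨x, Subgroup.subset_closure hx⟩
    have hxP : mkS (Sc D d c) x' ∈ QD (Sc D d c) := ⟨x', hx, rfl⟩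
    -- one fibre
    have hv : (Triality.Fib (QD (Sc D d c)) (mkS _ x')).ncard = 351 := by
      have h1 := Triality.fib_dvd hG.cls hxP
      rw [H.ncard_qd, hcard] at h1
      have h2 := Triality.fib_lb hG hxP
      rw [(H.ncard_image (x := x') hx).1] at h2
      have h3 := Nat.le_of_dvd (by norm_num) h1
      exact (by decide +kernel : ∀ v < 352, v ∣ 351 → 127 ≤ v → v = 351) _ (by omega) h1 (by omega)
    have hprim : Prim (QD (Sc D d c)) := Triality.prim_of_fib hG hxP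
      (Set.eq_of_subset_of_ncard_le (fun y hy => hy.1) (by rw [H.ncard_qd, hcard, hv]) (Set.toFinite _)).ge
    obtain ⟨c₃, hc₃, hr⟩ := hloc x hx
    obtain ⟨-, hcores, himg⟩ := H.local_image (x := x') hx
    obtain ⟨k', hk, hk'⟩ := step_refl 6 1 c₃ _ (QD (Sc D d c)) hprim _ hxP hcores ⟨by norm_num, himg _ _ hr⟩
    rw [show k' = .refl (6 + 1) (-1 * c₃) c₃ from hk] at hk'
    obtain ⟨-, h⟩ := hk'
    rw [neg_one_mul] at h
    exact ⟨c₃, hc₃, h⟩
  obtain ⟨c, hcD, hdc⟩ := exists_noncommute hD hP.prim.2.1 hd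
  obtain ⟨c₃, hc₃, Q, hQ, hQd, -, e, -⟩ := main c hcD hdc
  exact ⟨.m23, rfl, ⟨hP.center, d, hd, c, hcD, hdc, h22, c₃, hc₃, Q, hQ, hQd, ⟨e⟩⟩,
    refl_all_pairs hD hd (fun c₃ => -c₃) main⟩

end CfsgFischer
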