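/-
Alternating forms over two elements: extension of a form-preserving map from a spanning set, generation of the
isometries by transvections, and quadratic functions polarising to the form.
-/
import Mathlib
import Cfsg.Prelude.Def_Classical
import Cfsg.Agent.Lib.FiniteForms.Standard

set_option autoImplicit false

namespace CfsgFischer.FormTwo

universe u

theorem two_cases : ∀ a : ZMod 2, a = 0 ∨ a = 1 := by decide

theorem add_self' : ∀ a : ZMod 2, a + a = 0 := by decide

theorem eq_one {a : ZMod 2} (h : a ≠ 0) : a = 1 := (two_cases a).resolve_left h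

theorem ne_one_iff {a : ZMod 2} : a ≠ 1 ↔ a = 0 := by revert a; decide

variable {W : Type u} [AddCommGroup W] [Module (ZMod 2) W]

/-- A nondegenerate alternating form. -/
structure IsSymp (B : LinearMap.BilinForm (ZMod 2) W) : Prop where
  self : ∀ x, B x x = 0
  nd : ∀ x, (∀ y, B x y = 0) → x = 0

theorem vadd_self (x : W) : x + x = 0 := ZModModule.add_self x

theorem add_cancel (x y : W) : x + (x + y) = y := by rw [← add_assoc, vadd_self, zero_add]

theorem add_cancel' (x y : W) : x + y + y = x := by rw [add_assoc, vadd_self, add_zero]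

theorem eq_of_add_eq_zero {x y : W} (h : x + y = 0) : x = y := by
  rw [← add_cancel' x y, h, zero_add]

variable {B : LinearMap.BilinForm (ZMod 2) W}

theorem IsSymp.symm (hB : IsSymp B) (x y : W) : B x y = B y x := by
  have h := hB.self (x + y)
  simp only [map_add, LinearMap.add_apply, hB.self, zero_add, add_zero] at h
  exact (by decide : ∀ a b : ZMod 2, b + a = 0 → a = b) _ _ h

theorem IsSymp.exists_one (hB : IsSymp B) {x : W} (hx : x ≠ 0) : ∃ y, B x y = 1 := by
  by_contra h
  push Not at h
  exact hx (hB.nd x fun y => ne_one_iff.mp (h y))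

/-- The form determines the vector. -/
theorem IsSymp.ext (hB : IsSymp B) {x y : W} (h : ∀ z, B x z = B y z) : x = y := by
  refine eq_of_add_eq_zero (hB.nd _ fun z => ?_)
  rw [map_add, LinearMap.add_apply, h, add_self']

/-- Every functional is given by the form. -/
theorem IsSymp.exists_rep [Finite W] (hB : IsSymp B) (f : W →ₗ[ZMod 2] ZMod 2) : ∃ w, ∀ x, f x = B x w := by
  haveI : Module.Finite (ZMod 2) W := Module.Finite.of_finite
  have hinj : Function.Injective B := fun x y e => hB.ext fun z => by rw [e]
  have hsur : Function.Surjective B := by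
    refine (LinearMap.injective_iff_surjective_of_finrank_eq_finrank ?_).mp hinj
    exact (Subspace.dual_finrank_eq).symm
  obtain ⟨w, rfl⟩ := hsur f
  exact ⟨w, fun x => hB.symm w x⟩

/-- A map preserving the form on a spanning set extends to an isometry. -/
theorem extend [Finite W] (hB : IsSymp B) (s : Set W) (hs : Submodule.span (ZMod 2) s = ⊤) (h : W → W)
    (hh : ∀ a ∈ s, ∀ b ∈ s, B (h a) (h b) = B a b) :
    ∃ η : W ≃ₗ[ZMod 2] W, (∀ x y, B (η x) (η y) = B x y) ∧ ∀ a ∈ s, η a = h a := by
  classical
  obtain ⟨b, hbs, hspan, hli⟩ := exists_linearIndependent (ZMod 2) s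
  let bas : Module.Basis b (ZMod 2) W := Module.Basis.mk hli (by rw [Subtype.range_coe, hspan, hs])
  let η : W →ₗ[ZMod 2] W := bas.constr (ZMod 2) fun i => h i
  have hbv : ∀ i, bas i = (i : W) := fun i => by simp [bas]
  have hbas : ∀ i : b, η (i : W) = h i := fun i =>
    (congrArg η (hbv i)).symm.trans (bas.constr_basis (ZMod 2) _ i)
  have hpres : ∀ x y, B (η x) (η y) = B x y := by
    intro x y
    have e : LinearMap.BilinForm.comp B η η = B := LinearMap.BilinForm.ext_basis bas fun i j => by
      rw [LinearMap.BilinForm.comp_apply, hbv, hbv, hbas, hbas, hh _ (hbs i.2) _ (hbs j.2)]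
    exact LinearMap.congr_fun₂ e x y
  have hinj : Function.Injective η := fun x y e => hB.ext fun z => by rw [← hpres, e, hpres]
  have hsur : Function.Surjective η := Finite.injective_iff_surjective.mp hinj
  refine ⟨LinearEquiv.ofBijective η ⟨hinj, hsur⟩, hpres, fun a ha => hB.ext fun z => ?_⟩
  show B (η a) z = B (h a) z
  obtain ⟨y, rfl⟩ := hsur z
  rw [hpres]
  have e : B a = (B (h a)).comp η := bas.ext fun i => by
    rw [LinearMap.comp_apply, hbv, hbas, hh a ha _ (hbs i.2)]
  exact LinearMap.congr_fun e y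

/-- The transvection at a vector. -/
def transMap (B : LinearMap.BilinForm (ZMod 2) W) (u : W) : W →ₗ[ZMod 2] W where
  toFun x := x + B x u • u
  map_add' x y := by rw [map_add, LinearMap.add_apply, add_smul]; abel
  map_smul' a x := by rw [map_smul, LinearMap.smul_apply, smul_eq_mul, RingHom.id_apply, smul_add, mul_smul]

theorem transMap_apply (u x : W) : transMap B u x = x + B x u • u := rfl

theorem transMap_sq (hB : IsSymp B) (u x : W) : transMap B u (transMap B u x) = x := by
  rw [transMap_apply, transMap_apply, map_add, LinearMap.add_apply, map_smul, LinearMap.smul_apply, hB.self,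
    smul_zero, add_zero, add_cancel']

/-- The transvection as an equivalence. -/
def trans (hB : IsSymp B) (u : W) : W ≃ₗ[ZMod 2] W :=
  LinearEquiv.ofLinear (transMap B u) (transMap B u) (LinearMap.ext fun x => transMap_sq hB u x)
    (LinearMap.ext fun x => transMap_sq hB u x)

theorem trans_apply (hB : IsSymp B) (u x : W) : trans hB u x = x + B x u • u := rfl

theorem trans_pres (hB : IsSymp B) (u x y : W) : B (trans hB u x) (trans hB u y) = B x y := by
  simp only [trans_apply, map_add, LinearMap.add_apply, map_smul, LinearMap.smul_apply, hB.self, smul_eq_mul,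
    mul_zero, add_zero, hB.symm u y]
  linear_combination add_self' (B x u * B y u)

/-- Every isometry is a product of transvections. -/
theorem trans_induction [Finite W] (hB : IsSymp B) (P : (W ≃ₗ[ZMod 2] W) → Prop)
    (h1 : P (LinearEquiv.refl (ZMod 2) W)) (hmul : ∀ (u : W) (γ : W ≃ₗ[ZMod 2] W), u ≠ 0 → P γ → P (γ.trans (trans hB u)))
    (γ : W ≃ₗ[ZMod 2] W) (hγ : ∀ x y, B (γ x) (γ y) = B x y) : P γ := by
  have hfix : ∀ (γ : W ≃ₗ[ZMod 2] W), (∀ x y, B (γ x) (γ y) = B x y) → ∀ x y, γ y = y →
      γ.trans (trans hB (x + γ x)) y = y := by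
    intro γ hγ x y hy
    rw [LinearEquiv.trans_apply, hy, trans_apply, map_add]
    have e : B y (γ x) = B y x := by conv_lhs => rw [← hy]; rw [hγ]
    rw [e, add_self', zero_smul, add_zero]
  have hpres : ∀ (γ : W ≃ₗ[ZMod 2] W) (u : W), (∀ x y, B (γ x) (γ y) = B x y) →
      ∀ x y, B (γ.trans (trans hB u) x) (γ.trans (trans hB u) y) = B x y := fun γ u hγ x y => by
    rw [LinearEquiv.trans_apply, LinearEquiv.trans_apply, trans_pres, hγ]
  have hback : ∀ (γ : W ≃ₗ[ZMod 2] W) (u : W), (γ.trans (trans hB u)).trans (trans hB u) = γ := fun γ u => by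
    refine LinearEquiv.ext fun x => ?_
    rw [LinearEquiv.trans_apply, LinearEquiv.trans_apply]
    exact transMap_sq hB u (γ x)
  have hmono : ∀ (γ : W ≃ₗ[ZMod 2] W), (∀ x y, B (γ x) (γ y) = B x y) → ∀ x,
      {y | γ.trans (trans hB (x + γ x)) y ≠ y} ⊆ {y | γ y ≠ y} :=
    fun γ hγ x y hy e => hy (hfix γ hγ x y e)
  have hsingle : ∀ (γ : W ≃ₗ[ZMod 2] W), (∀ x y, B (γ x) (γ y) = B x y) → ∀ x, B x (γ x) = 1 →
      {y | γ.trans (trans hB (x + γ x)) y ≠ y}.ncard < {y | γ y ≠ y}.ncard := by
    intro γ hγ x hx
    have hmove : γ x ≠ x := fun e => by rw [e, hB.self] at hx; exact zero_ne_one hx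
    refine Set.ncard_lt_ncard ⟨hmono γ hγ x, fun h => h (a := x) hmove ?_⟩
    rw [LinearEquiv.trans_apply, trans_apply, map_add, hB.symm, hx, hB.self, add_zero, one_smul, add_comm x,
      ← add_assoc, vadd_self, zero_add]
  suffices ∀ N, ∀ (γ : W ≃ₗ[ZMod 2] W), (∀ x y, B (γ x) (γ y) = B x y) → {y | γ y ≠ y}.ncard ≤ N → P γ from
    this _ γ hγ le_rfl
  intro N
  induction N using Nat.strong_induction_on with
  | _ N ih =>
    intro γ hγ hN
    by_cases hid : ∀ x, γ x = x
    · rwa [show γ = LinearEquiv.refl _ W from LinearEquiv.ext hid]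
    push Not at hid
    obtain ⟨x, hx⟩ := hid
    by_cases hA : ∃ x, B x (γ x) = 1
    · obtain ⟨x, hx⟩ := hA
      have hlt := hsingle γ hγ x hx
      have := ih _ (lt_of_lt_of_le hlt hN) _ (hpres γ _ hγ) le_rfl
      rw [← hback γ (x + γ x)]
      refine hmul _ _ (fun e => ?_) this
      rw [← eq_of_add_eq_zero e, hB.self] at hx
      exact zero_ne_one hx
    push Not at hA
    have hzero : ∀ z, B z (γ z) = 0 := fun z => ne_one_iff.mp (hA z)
    have hsum : ∀ z w, B z (γ w) = B w (γ z) := fun z w => by
      have h := hzero (z + w)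
      simp only [map_add, LinearMap.add_apply, hzero, zero_add, add_zero] at h
      exact (by decide : ∀ a b : ZMod 2, b + a = 0 → a = b) _ _ h
    have hu : x + γ x ≠ 0 := fun e => hx (eq_of_add_eq_zero e).symm
    set γ' := γ.trans (trans hB (x + γ x))
    obtain ⟨z, hz⟩ := hB.exists_one hu
    have hz' : B z (γ' z) = 1 := by
      rw [show γ' z = γ z + B (γ z) (x + γ x) • (x + γ x) from rfl, map_add, hzero, zero_add, map_smul, smul_eq_mul,
        hB.symm z, hz, mul_one, map_add, hγ, hB.symm (γ z) x, hsum x z, add_comm, ← map_add, hB.symm, hz]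
    have hle : {y | γ' y ≠ y}.ncard ≤ {y | γ y ≠ y}.ncard := Set.ncard_le_ncard (hmono γ hγ x)
    have hlt := hsingle γ' (hpres γ _ hγ) z hz'
    have h2 := ih _ (lt_of_lt_of_le hlt (hle.trans hN)) _ (hpres γ' _ (hpres γ _ hγ)) le_rfl
    have h3 : P γ' := by
      rw [← hback γ' (z + γ' z)]
      refine hmul _ _ (fun e => ?_) h2
      rw [← eq_of_add_eq_zero e, hB.self] at hz'
      exact zero_ne_one hz'
    rw [← hback γ (x + γ x)]
    exact hmul _ _ hu h3

/-- A quadratic function polarising to the form. -/
def IsQuad (B : LinearMap.BilinForm (ZMod 2) W) (q : W → ZMod 2) : Prop :=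
  ∀ x y, q (x + y) = q x + q y + B x y

namespace IsQuad

variable {q : W → ZMod 2} (hq : IsQuad B q)
include hq

theorem zero : q 0 = 0 := by
  have h := hq 0 0
  simp only [add_zero, map_zero, LinearMap.zero_apply] at h
  exact (by decide : ∀ a : ZMod 2, a = a + a → a = 0) _ h

theorem ne_zero {x : W} (hx : q x = 1) : x ≠ 0 := fun e => by
  rw [e, hq.zero] at hx
  exact zero_ne_one hx

theorem smul (a : ZMod 2) (x : W) : q (a • x) = a * q x := by
  rcases two_cases a with rfl | rfl
  · rw [zero_smul, hq.zero, zero_mul]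
  · rw [one_smul, one_mul]

theorem trans_form (hB : IsSymp B) {u : W} (hu : q u = 1) (x : W) : q (trans hB u x) = q x := by
  rw [trans_apply, hq, hq.smul, hu, map_smul, smul_eq_mul, mul_one]
  linear_combination (by revert x; intro x; rcases two_cases (B x u) with h | h <;> rw [h] <;> decide :
    B x u + B x u * B x u = 0)

/-- The quadratic form. -/
def form : QuadraticForm (ZMod 2) W :=
  QuadraticMap.ofPolar q (fun a x => by
      rw [hq.smul, smul_eq_mul]
      rcases two_cases a with rfl | rfl <;> simp)
    (fun x x' y => by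
      simp only [QuadraticMap.polar, hq _ y, hq x x', map_add, LinearMap.add_apply]
      ring)
    (fun a x y => by
      simp only [QuadraticMap.polar, hq _ y, hq.smul, map_smul, LinearMap.smul_apply, smul_eq_mul]
      ring)

theorem form_apply (x : W) : hq.form x = q x := rfl

theorem polar_form (x y : W) : QuadraticMap.polar hq.form x y = B x y := by
  show q (x + y) - q x - q y = B x y
  rw [hq]
  ring

end IsQuad

end CfsgFischer.FormTwo
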