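/-
Coordinates of the partners by vectors over two elements, and the isometry attached to a common partner of two
noncommuting members.
-/
import Cfsg.Agent.Lib.Fischer.LocalCoord
import Cfsg.Agent.Lib.Fischer.FormTwo

set_option autoImplicit false
set_option linter.unusedSectionVars false

namespace CfsgFischer

open Cfsg CfsgThreeTrans FormTwo

universe u v w

variable {G : Type u} [Group G] [Finite G] {D : Set G}
variable {W : Type w} [AddCommGroup W] [Module (ZMod 2) W]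
variable {B : LinearMap.BilinForm (ZMod 2) W} {P : Set W}

/-- A bijection from the partners of `d` onto a set of vectors: commuting is perpendicularity and the third member
of a noncommuting pair is the sum. -/
structure VCoord (D : Set G) (d : G) (B : LinearMap.BilinForm (ZMod 2) W) (P : Set W) where
  v : G → W
  mem : ∀ x ∈ Ds D d, v x ∈ P
  inj : ∀ x ∈ Ds D d, ∀ y ∈ Ds D d, v x = v y → x = y
  surj : ∀ t ∈ P, ∃ x ∈ Ds D d, v x = t
  comm : ∀ x ∈ Ds D d, ∀ y ∈ Ds D d, (Commute x y ↔ B (v x) (v y) = 0)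
  conj : ∀ x ∈ Ds D d, ∀ y ∈ Ds D d, ¬ Commute x y → v (y * x * y⁻¹) = v x + v y

namespace VCoord

/-- Vector coordinates from coordinates in a group with a parametrised class. -/
theorem of_coord {K : Type v} [Group K] {d : G} {T : Set K} (C : Coord D d T) (τ : W → K)
    (hmem : ∀ a ∈ P, τ a ∈ T) (hinj : ∀ a ∈ P, ∀ b ∈ P, τ a = τ b → a = b) (hsurj : ∀ t ∈ T, ∃ a ∈ P, τ a = t)
    (hcomm : ∀ a ∈ P, ∀ b ∈ P, (Commute (τ a) (τ b) ↔ B a b = 0))
    (hclosed : ∀ a ∈ P, ∀ b ∈ P, B a b = 1 → a + b ∈ P)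
    (hconj : ∀ a ∈ P, ∀ b ∈ P, B a b = 1 → τ b * τ a * (τ b)⁻¹ = τ (a + b)) :
    Nonempty (VCoord D d B P) := by
  classical
  choose! σ hσ hτσ using hsurj
  have hτ : ∀ x ∈ Ds D d, τ (σ (C.f x)) = C.f x := fun x hx => hτσ _ (C.mem x hx)
  have hP : ∀ x ∈ Ds D d, σ (C.f x) ∈ P := fun x hx => hσ _ (C.mem x hx)
  have hc : ∀ x ∈ Ds D d, ∀ y ∈ Ds D d, (Commute x y ↔ B (σ (C.f x)) (σ (C.f y)) = 0) := fun x hx y hy => by
    rw [C.comm x hx y hy, ← hcomm _ (hP x hx) _ (hP y hy), hτ x hx, hτ y hy]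
  refine ⟨{
    v := fun x => σ (C.f x)
    mem := hP
    inj := fun x hx y hy e => C.inj x hx y hy (by rw [← hτ x hx, ← hτ y hy]; exact congrArg τ e)
    surj := fun t ht => ?_
    comm := hc
    conj := fun x hx y hy hnc => ?_ }⟩
  · obtain ⟨x, hx, e⟩ := C.surj (τ t) (hmem t ht)
    exact ⟨x, hx, hinj _ (hP x hx) t ht ((hτ x hx).trans e)⟩
  · have hb : B (σ (C.f x)) (σ (C.f y)) = 1 := eq_one fun e => hnc ((hc x hx y hy).mpr e)
    have hsum := hclosed _ (hP x hx) _ (hP y hy) hb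
    have h1 := hconj _ (hP x hx) _ (hP y hy) hb
    rw [hτ x hx, hτ y hy] at h1
    show σ (C.f (y * x * y⁻¹)) = σ (C.f x) + σ (C.f y)
    rw [C.conj x hx y hy, h1]
    exact hinj _ (hσ _ (hmem _ hsum)) _ hsum (hτσ _ (hmem _ hsum))

variable {d : G} (C : VCoord D d B P)

include C in
/-- Coordinates move with the point. -/
theorem cj (hD : IsThreeTranspositionClass D) (g : G) : Nonempty (VCoord D (g * d * g⁻¹) B P) := by
  have back : ∀ x ∈ Ds D (g * d * g⁻¹), g⁻¹ * x * g⁻¹⁻¹ ∈ Ds D d := by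
    intro x hx
    rw [← cj_Ds hD] at hx
    obtain ⟨y, hy, rfl⟩ := hx
    rwa [cj_cj, inv_mul_cancel, one_mul, inv_one, mul_one]
  refine ⟨{
    v := fun x => C.v (g⁻¹ * x * g⁻¹⁻¹)
    mem := fun x hx => C.mem _ (back x hx)
    inj := fun x hx y hy h => cj_injective g⁻¹ (C.inj _ (back x hx) _ (back y hy) h)
    surj := fun t ht => ?_
    comm := fun x hx y hy => (commute_cj_iff g⁻¹).symm.trans (C.comm _ (back x hx) _ (back y hy))
    conj := fun x hx y hy hnc => ?_ }⟩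
  · obtain ⟨x, hx, rfl⟩ := C.surj t ht
    refine ⟨g * x * g⁻¹, ?_, ?_⟩
    · rw [← cj_Ds hD]; exact ⟨x, hx, rfl⟩
    · show C.v _ = _
      rw [cj_cj, inv_mul_cancel, one_mul, inv_one, mul_one]
  · show C.v (g⁻¹ * (y * x * y⁻¹) * g⁻¹⁻¹) = _
    rw [← C.conj _ (back x hx) _ (back y hy) fun h => hnc ((commute_cj_iff g⁻¹).mp h)]
    congr 1
    group

include C in
theorem exists_at (hD : IsThreeTranspositionClass D) (hd : d ∈ D) {a : G} (ha : a ∈ D) :
    Nonempty (VCoord D a B P) := by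
  obtain ⟨g, rfl⟩ := cls_exists_conj hD hd ha
  exact C.cj hD g

/-- The members of the common set inside the partners of one of them, as vectors perpendicular to two. -/
theorem link (hD : IsThreeTranspositionClass D) (hd : d ∈ D) {c x : G} (hc : c ∈ D) (hdc : ¬ Commute d c)
    (hx : x ∈ Sc D d c) :
    ∃ (p r : W) (h : W → W), p ∈ P ∧ r ∈ P ∧ B p r = 1 ∧
      (∀ u ∈ P, B u p = 0 → B u r = 0 → B (C.v x) (h u) = 0 ∧ h u ≠ C.v x ∧ ∃ y ∈ Sc D d c, C.v y = h u) ∧
      (∀ y ∈ Sc D d c, Commute x y → y ≠ x → ∃ u ∈ P, B u p = 0 ∧ B u r = 0 ∧ h u = C.v y) ∧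
      (∀ u ∈ P, B u p = 0 → B u r = 0 → ∀ u' ∈ P, B u' p = 0 → B u' r = 0 → B (h u) (h u') = B u u') ∧
      ∀ u ∈ P, B u p = 0 → B u r = 0 → ∀ u' ∈ P, B u' p = 0 → B u' r = 0 → h u = h u' → u = u' := by
  classical
  obtain ⟨E⟩ := C.exists_at hD hd hx.1.1
  have hdx : d ∈ Ds D x := mem_both hd hx.1
  have hcx : c ∈ Ds D x := mem_both hc hx.2
  have hpr : B (E.v d) (E.v c) = 1 := eq_one fun e => hdc ((E.comm d hdx c hcx).mpr e)
  have hpp : B (E.v d) (E.v d) = 0 := (E.comm d hdx d hdx).mp (Commute.refl d)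
  have hrr : B (E.v c) (E.v c) = 0 := (E.comm c hcx c hcx).mp (Commute.refl c)
  choose! g hg hgv using E.surj
  have hS : ∀ u ∈ P, B u (E.v d) = 0 → B u (E.v c) = 0 → g u ∈ Sc D d c := by
    intro u hu h1 h2
    have hgx := hg u hu
    rw [← hgv u hu] at h1 h2
    refine ⟨⟨hgx.1, fun e => ?_, ((E.comm _ hgx d hdx).mpr h1).symm⟩,
      ⟨hgx.1, fun e => ?_, ((E.comm _ hgx c hcx).mpr h2).symm⟩⟩
    · rw [e, hpr] at h2; exact one_ne_zero h2
    · rw [e] at h1
      have := (E.comm c hcx d hdx).mpr h1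
      exact hdc this.symm
  refine ⟨E.v d, E.v c, fun u => C.v (g u), E.mem d hdx, E.mem c hcx, hpr, fun u hu h1 h2 => ?_,
    fun y hy hxy hne => ?_, fun u hu h1 h2 u' hu' h1' h2' => ?_, fun u hu h1 h2 u' hu' h1' h2' e => ?_⟩
  · have hgS := hS u hu h1 h2
    refine ⟨(C.comm x hx.1 _ hgS.1).mp (hg u hu).2.2, fun e => (hg u hu).2.1 (C.inj _ hgS.1 x hx.1 e),
      g u, hgS, rfl⟩
  · have hyx : y ∈ Ds D x := ⟨hy.1.1, hne, hxy⟩
    refine ⟨E.v y, E.mem y hyx, (E.comm y hyx d hdx).mp hy.1.2.2.symm, (E.comm y hyx c hcx).mp hy.2.2.2.symm, ?_⟩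
    show C.v (g (E.v y)) = C.v y
    rw [E.inj _ (hg _ (E.mem y hyx)) y hyx (hgv _ (E.mem y hyx))]
  · have hgS := hS u hu h1 h2
    have hgS' := hS u' hu' h1' h2'
    show B (C.v (g u)) (C.v (g u')) = B u u'
    conv_rhs => rw [← hgv u hu, ← hgv u' hu']
    by_cases hcm : Commute (g u) (g u')
    · rw [(C.comm _ hgS.1 _ hgS'.1).mp hcm, (E.comm _ (hg u hu) _ (hg u' hu')).mp hcm]
    · rw [eq_one fun e => hcm ((C.comm _ hgS.1 _ hgS'.1).mpr e),
        eq_one fun e => hcm ((E.comm _ (hg u hu) _ (hg u' hu')).mpr e)]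
  · rw [← hgv u hu, ← hgv u' hu', C.inj _ (hS u hu h1 h2).1 _ (hS u' hu' h1' h2').1 e]

end VCoord

namespace FormTwo

/-- A map from a spanning set of a plane's perp into the perp of a vector, preserving the form, lifts to an
isometry of the whole space. -/
theorem lift [Finite W] (hB : IsSymp B) {p r ξ : W} (hpr : B p r = 1) (hξ : ξ ≠ 0) (S : Set W)
    (hS : ∀ u ∈ S, B u p = 0 ∧ B u r = 0)
    (hspan : ∀ z, B z p = 0 → B z r = 0 → z ∈ Submodule.span (ZMod 2) S) (h : W → W)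
    (hξh : ∀ u ∈ S, B ξ (h u) = 0) (hh : ∀ u ∈ S, ∀ u' ∈ S, B (h u) (h u') = B u u') :
    ∃ (w₀ : W) (η : W ≃ₗ[ZMod 2] W), B ξ w₀ = 1 ∧ (∀ x y, B (η x) (η y) = B x y) ∧ η p = ξ ∧ η r = w₀ ∧
      ∀ u ∈ S, η u = h u + B (h u) w₀ • ξ := by
  classical
  obtain ⟨w₀, hw₀⟩ := hB.exists_one hξ
  have hSp : ∀ u ∈ S, u ≠ p := fun u hu e => by
    have := (hS u hu).2
    rw [e, hpr] at this
    exact one_ne_zero this
  have hSr : ∀ u ∈ S, u ≠ r := fun u hu e => by
    have := (hS u hu).1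
    rw [e, hB.symm, hpr] at this
    exact one_ne_zero this
  have hrp : r ≠ p := fun e => by
    rw [e, hB.self] at hpr
    exact zero_ne_one hpr
  let f : W → W := fun u => if u = p then ξ else if u = r then w₀ else h u + B (h u) w₀ • ξ
  have hfp : f p = ξ := if_pos rfl
  have hfr : f r = w₀ := (if_neg hrp).trans (if_pos rfl)
  have hfu : ∀ u ∈ S, f u = h u + B (h u) w₀ • ξ := fun u hu => (if_neg (hSp u hu)).trans (if_neg (hSr u hu))
  have e1 : ∀ u ∈ S, B (f u) ξ = 0 := fun u hu => by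
    rw [hfu u hu, map_add, LinearMap.add_apply, map_smul, LinearMap.smul_apply, hB.self, smul_zero, add_zero,
      hB.symm, hξh u hu]
  have e2 : ∀ u ∈ S, B (f u) w₀ = 0 := fun u hu => by
    rw [hfu u hu, map_add, LinearMap.add_apply, map_smul, LinearMap.smul_apply, hw₀, smul_eq_mul, mul_one,
      add_self']
  have hall : Submodule.span (ZMod 2) (insert p (insert r S)) = ⊤ := by
    refine eq_top_iff.mpr fun z _ => ?_
    have hp' : p ∈ Submodule.span (ZMod 2) (insert p (insert r S)) := Submodule.subset_span (Set.mem_insert _ _)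
    have hr' : r ∈ Submodule.span (ZMod 2) (insert p (insert r S)) :=
      Submodule.subset_span (Set.mem_insert_of_mem _ (Set.mem_insert _ _))
    have hz' : z + (B z r • p + B z p • r) ∈ Submodule.span (ZMod 2) (insert p (insert r S)) := by
      refine Submodule.span_mono ((Set.subset_insert r S).trans (Set.subset_insert p _)) (hspan _ ?_ ?_)
      · simp only [map_add, LinearMap.add_apply, map_smul, LinearMap.smul_apply, hB.self, hB.symm r p, hpr,
          smul_eq_mul, mul_one, mul_zero, zero_add, add_self']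
      · simp only [map_add, LinearMap.add_apply, map_smul, LinearMap.smul_apply, hB.self, hpr, smul_eq_mul,
          mul_one, mul_zero, add_zero, add_self']
    have h2 := Submodule.add_mem _ hz' (Submodule.add_mem _ (Submodule.smul_mem _ (B z r) hp')
      (Submodule.smul_mem _ (B z p) hr'))
    rwa [add_cancel'] at h2
  obtain ⟨η, hη, hηs⟩ := extend hB (insert p (insert r S)) hall f (by
    rintro a (rfl | rfl | ha) b (rfl | rfl | hb)
    · rw [hfp, hB.self, hB.self]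
    · rw [hfp, hfr, hw₀, hpr]
    · rw [hfp, hB.symm ξ, e1 b hb, hB.symm a, (hS b hb).1]
    · rw [hfp, hfr, hB.symm w₀, hw₀, hB.symm, hpr]
    · rw [hfr, hB.self, hB.self]
    · rw [hfr, hB.symm w₀, e2 b hb, hB.symm a, (hS b hb).2]
    · rw [hfp, e1 a ha, (hS a ha).1]
    · rw [hfr, e2 a ha, (hS a ha).2]
    · rw [hfu a ha, hfu b hb]
      simp only [map_add, LinearMap.add_apply, map_smul, LinearMap.smul_apply, hB.symm (h a) ξ, hξh a ha, hξh b hb,
        hB.self ξ, smul_eq_mul, mul_zero, add_zero]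
      exact hh a ha b hb)
  exact ⟨w₀, η, hw₀, hη, (hηs p (Set.mem_insert _ _)).trans hfp,
    (hηs r (Set.mem_insert_of_mem _ (Set.mem_insert _ _))).trans hfr,
    fun u hu => (hηs u (Set.mem_insert_of_mem _ (Set.mem_insert_of_mem _ hu))).trans (hfu u hu)⟩

end FormTwo

end CfsgFischer
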