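/-
The transvection classes over two elements as vector coordinates.
-/
import Cfsg.Agent.Lib.Fischer.VecCoord
import Cfsg.Agent.Lib.SympTransvection
import Cfsg.Agent.Lib.ReflClass.Basic

set_option autoImplicit false
set_option linter.unusedSectionVars false

namespace CfsgFischer

open Cfsg CfsgThreeTrans FormTwo Matrix

universe u v w

variable {G : Type u} [Group G] [Finite G] {D : Set G}

namespace VCoord

variable {W : Type w} [AddCommGroup W] [Module (ZMod 2) W] {B : LinearMap.BilinForm (ZMod 2) W} {P : Set W}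

/-- Vector coordinates from coordinates in a faithfully acting group with a class of transvections. -/
theorem of_action {K : Type v} [Group K] {d : G} {T : Set K} (C : Coord D d T) (hB : IsSymp B) (act : K → W → W)
    (hext : ∀ g g' : K, (∀ x, act g x = act g' x) → g = g') (hmul : ∀ g g' x, act (g * g') x = act g (act g' x))
    (h1 : ∀ x, act 1 x = x)
    (τ : W → K) (hτ : ∀ a ∈ P, ∀ x, act (τ a) x = x + B x a • a) (hmem : ∀ a ∈ P, τ a ∈ T)
    (hsurj : ∀ t ∈ T, ∃ a ∈ P, τ a = t) (hP : ∀ a ∈ P, a ≠ 0)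
    (hclosed : ∀ a ∈ P, ∀ b ∈ P, B a b = 1 → a + b ∈ P) : Nonempty (VCoord D d B P) := by
  have hinj : ∀ a ∈ P, ∀ b ∈ P, τ a = τ b → a = b := by
    intro a ha b hb e
    obtain ⟨x, hx⟩ := hB.exists_one (hP a ha)
    have h := congrArg (fun g => act g x) e
    simp only [hτ a ha, hτ b hb, hB.symm x a, hx, one_smul, add_left_cancel_iff] at h
    rcases two_cases (B x b) with e' | e' <;> rw [e'] at h
    · rw [zero_smul] at h
      exact absurd h (hP a ha)
    · rw [one_smul] at h
      exact h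
  have hsq : ∀ a ∈ P, τ a * τ a = 1 := fun a ha => hext _ _ fun x => by
    rw [hmul, hτ a ha, hτ a ha, h1, map_add, LinearMap.add_apply, map_smul, LinearMap.smul_apply, hB.self, smul_zero,
      add_zero, add_cancel']
  have hconj : ∀ a ∈ P, ∀ b ∈ P, B a b = 1 → τ b * τ a * (τ b)⁻¹ = τ (a + b) := by
    intro a ha b hb hab
    rw [inv_eq_of_mul_eq_one_right (hsq b hb)]
    refine hext _ _ fun x => ?_
    rw [hmul, hmul, hτ b hb, hτ a ha, hτ b hb, hτ _ (hclosed a ha b hb hab)]
    simp only [map_add, LinearMap.add_apply, map_smul, LinearMap.smul_apply, hB.self, hB.symm b a, hab, smul_eq_mul]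
    rcases two_cases (B x a) with e | e <;> rcases two_cases (B x b) with e' | e' <;>
      simp [e, e', add_comm, add_left_comm, add_assoc, add_cancel, vadd_self, add_self']
  have hcomm : ∀ a ∈ P, ∀ b ∈ P, (Commute (τ a) (τ b) ↔ B a b = 0) := by
    intro a ha b hb
    constructor
    · intro h
      by_contra hne
      have e := hconj a ha b hb (eq_one hne)
      rw [← h.eq, mul_inv_cancel_right] at e
      have := hinj a ha _ (hclosed a ha b hb (eq_one hne)) e
      exact hP b hb (left_eq_add.mp this)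
    · intro hab
      refine hext _ _ fun x => ?_
      rw [hmul, hmul, hτ a ha, hτ b hb, hτ b hb, hτ a ha]
      simp only [map_add, LinearMap.add_apply, map_smul, LinearMap.smul_apply, hB.symm b a, hab, smul_zero, add_zero]
      abel
  exact of_coord C τ hmem hinj hsurj hcomm hclosed hconj

end VCoord

/-! ### Symplectic transvections -/

namespace SympTwo

variable {m : ℕ}

/-- The standard alternating form. -/
noncomputable def Bs (m : ℕ) : LinearMap.BilinForm (ZMod 2) (Fin m ⊕ Fin m → ZMod 2) :=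
  Matrix.toBilin' (Matrix.J (Fin m) (ZMod 2))

theorem Bs_apply (x y : Fin m ⊕ Fin m → ZMod 2) : Bs m x y = x ⬝ᵥ (Matrix.J (Fin m) (ZMod 2) *ᵥ y) :=
  Matrix.toBilin'_apply' _ _ _

theorem Bs_symp : IsSymp (Bs m) := by
  refine ⟨fun x => by rw [Bs_apply]; exact CfsgLib.SympTransvection.dot_J_self x, fun x h => ?_⟩
  by_contra hx
  obtain ⟨z, hz⟩ := CfsgLib.SympTransvection.exists_dot_ne hx
  have h0 := h z
  rw [Bs_apply] at h0
  rw [CfsgLib.SympTransvection.swap, h0, neg_zero] at hz
  exact hz rfl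

/-- The transvection at a vector. -/
def tt (u : Fin m ⊕ Fin m → ZMod 2) : Matrix.symplecticGroup (Fin m) (ZMod 2) := CfsgLib.SympTransvection.tv u 1

theorem tt_apply (u x : Fin m ⊕ Fin m → ZMod 2) : (tt u).1 *ᵥ x = x + Bs m x u • u := by
  show Cfsg.sympTransvection m u 1 *ᵥ x = _
  rw [CfsgLib.SympTransvection.mulVec_eq, one_mul, Bs_apply]

theorem pres (A : Matrix.symplecticGroup (Fin m) (ZMod 2)) (x y : Fin m ⊕ Fin m → ZMod 2) :
    Bs m (A.1 *ᵥ x) (A.1 *ᵥ y) = Bs m x y := by
  have h : A.1ᵀ * Matrix.J (Fin m) (ZMod 2) * A.1 = Matrix.J (Fin m) (ZMod 2) := by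
    have := SymplecticGroup.mem_iff.mp (SymplecticGroup.transpose_mem A.2)
    rwa [Matrix.transpose_transpose] at this
  rw [Bs_apply, Bs_apply, Matrix.mulVec_mulVec, ← Matrix.vecMul_transpose, ← Matrix.dotProduct_mulVec,
    Matrix.mulVec_mulVec, ← Matrix.mul_assoc, h]

theorem rank_iff (A : Matrix.symplecticGroup (Fin m) (ZMod 2)) :
    ((A : Matrix (Fin m ⊕ Fin m) (Fin m ⊕ Fin m) (ZMod 2)) - 1).rank = 1 ↔ ∃ u, u ≠ 0 ∧ tt u = A := by
  constructor
  · intro hr
    obtain ⟨⟨a, ha⟩, ha0, hspan⟩ := finrank_eq_one_iff'.mp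
      (show Module.finrank (ZMod 2) (LinearMap.range (A.1 - 1).mulVecLin) = 1 from hr)
    have ha0' : a ≠ 0 := fun h => ha0 (Subtype.ext h)
    choose r hr' using fun x : Fin m ⊕ Fin m → ZMod 2 =>
      hspan ⟨(A.1 - 1).mulVecLin x, LinearMap.mem_range_self _ _⟩
    have hg : ∀ x, A.1 *ᵥ x = x + r x • a := by
      intro x
      have h : r x • a = (A.1 - 1).mulVecLin x := congrArg Subtype.val (hr' x)
      rw [h, Matrix.mulVecLin_apply, Matrix.sub_mulVec, Matrix.one_mulVec, add_sub_cancel]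
    have key : ∀ x y, r y * Bs m x a + r x * Bs m a y = 0 := fun x y => by
      have h := pres A x y
      simp only [hg, map_add, LinearMap.add_apply, map_smul, LinearMap.smul_apply, Bs_symp.self, smul_eq_mul] at h
      linear_combination h
    obtain ⟨z, hz⟩ := Bs_symp.exists_one ha0'
    have hlin : ∀ x, r x = r z * Bs m x a := fun x => by
      have h := key x z
      rw [hz, mul_one] at h
      exact (by decide : ∀ s t : ZMod 2, s + t = 0 → t = s) _ _ h
    have hrz : r z = 1 := by
      by_contra hne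
      refine Nat.one_ne_zero (hr.symm.trans ?_)
      rw [show A.1 - 1 = 0 from Matrix.ext_of_mulVec_single fun i => by
        rw [Matrix.sub_mulVec, hg, hlin, ne_one_iff.mp hne, zero_mul, zero_smul, add_zero, Matrix.one_mulVec, sub_self,
          Matrix.zero_mulVec], Matrix.rank_zero]
    refine ⟨a, ha0', Subtype.ext (Matrix.ext_of_mulVec_single fun i => ?_)⟩
    rw [tt_apply, hg, hlin, hrz, one_mul]
  · rintro ⟨u, hu, rfl⟩
    refine le_antisymm ?_ (Nat.one_le_iff_ne_zero.mpr fun h => ?_)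
    · have hle : LinearMap.range ((tt u).1 - 1).mulVecLin ≤ Submodule.span (ZMod 2) {u} := by
        rintro _ ⟨x, rfl⟩
        rw [Matrix.mulVecLin_apply, Matrix.sub_mulVec, Matrix.one_mulVec, tt_apply, add_sub_cancel_left]
        exact Submodule.mem_span_singleton.mpr ⟨_, rfl⟩
      exact (Submodule.finrank_mono hle).trans (finrank_span_singleton hu).le
    · obtain ⟨z, hz⟩ := Bs_symp.exists_one hu
      have h0 := LinearMap.congr_fun (LinearMap.range_eq_bot.mp (Submodule.finrank_eq_zero.mp h)) z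
      rw [Matrix.mulVecLin_apply, Matrix.sub_mulVec, Matrix.one_mulVec, LinearMap.zero_apply, tt_apply,
        Bs_symp.symm, hz, one_smul, add_sub_cancel_left] at h0
      exact hu h0

/-- Vector coordinates from symplectic coordinates. -/
theorem vcoord {d : G} (C : Coord D d {g : Matrix.symplecticGroup (Fin m) (ZMod 2) |
      ((g : Matrix (Fin m ⊕ Fin m) (Fin m ⊕ Fin m) (ZMod 2)) - 1).rank = 1}) :
    Nonempty (VCoord D d (Bs m) {a | a ≠ 0}) :=
  VCoord.of_action C Bs_symp (fun g x => g.1 *ᵥ x)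
    (fun _ _ h => Subtype.ext (Matrix.ext_of_mulVec_single fun _ => h _))
    (fun g g' x => (Matrix.mulVec_mulVec x g.1 g'.1).symm) (fun x => Matrix.one_mulVec x) tt
    (fun a _ x => tt_apply a x) (fun a ha => (rank_iff (tt a)).mpr ⟨a, ha, rfl⟩)
    (fun t ht => let ⟨u, hu, e⟩ := (rank_iff t).mp ht; ⟨u, hu, e⟩) (fun _ ha => ha)
    (fun a ha b _ hab e => by
      rw [eq_of_add_eq_zero e, Bs_symp.self] at hab
      exact zero_ne_one hab)

end SympTwo

/-! ### Orthogonal transvections -/

namespace OrthTwo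

variable {ι : Type} [Fintype ι] [DecidableEq ι] {Q : QuadraticForm (ZMod 2) (ι → ZMod 2)}

theorem symp_polar (hQ : (QuadraticMap.polarBilin Q).Nondegenerate) : IsSymp (QuadraticMap.polarBilin Q) := by
  refine ⟨fun x => ?_, fun x h => hQ.1 x h⟩
  show QuadraticMap.polar Q x x = 0
  rw [QuadraticMap.polar_self, nsmul_eq_mul]
  generalize Q x = a
  revert a
  decide

theorem quad (Q : QuadraticForm (ZMod 2) (ι → ZMod 2)) : IsQuad (QuadraticMap.polarBilin Q) Q := fun x y => by
  show Q (x + y) = Q x + Q y + QuadraticMap.polar Q x y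
  rw [QuadraticMap.map_add Q]

open Classical in
/-- The transvection at a vector. -/
noncomputable def tt (Q : QuadraticForm (ZMod 2) (ι → ZMod 2)) (a : ι → ZMod 2) :
    ↥(Cfsg.isometryGroup (ZMod 2) ⇑Q) :=
  if h : Q a ≠ 0 then (CfsgReflClass.IsRefl.exists h).choose else 1

theorem tt_spec {a : ι → ZMod 2} (ha : Q a = 1) : CfsgReflClass.IsRefl Q (tt Q a) a := by
  have h : Q a ≠ 0 := by rw [ha]; exact one_ne_zero
  rw [tt, dif_pos h]
  exact (CfsgReflClass.IsRefl.exists h).choose_spec

theorem rank_iff (hQ : (QuadraticMap.polarBilin Q).Nondegenerate) (g : ↥(Cfsg.isometryGroup (ZMod 2) ⇑Q)) :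
    (g.1.1 - 1).rank = 1 ↔ ∃ a, Q a = 1 ∧ tt Q a = g := by
  rw [CfsgReflClass.rank_one_iff hQ]
  constructor
  · rintro ⟨v, hv⟩
    exact ⟨v, eq_one hv.1, CfsgReflClass.IsRefl.unique (tt_spec (eq_one hv.1)) hv⟩
  · rintro ⟨a, ha, rfl⟩
    exact ⟨a, tt_spec ha⟩

/-- Vector coordinates from orthogonal coordinates. -/
theorem vcoord (hQ : (QuadraticMap.polarBilin Q).Nondegenerate) {d : G}
    (C : Coord D d {g : ↥(Cfsg.isometryGroup (ZMod 2) ⇑Q) | (g.1.1 - 1).rank = 1}) :
    Nonempty (VCoord D d (QuadraticMap.polarBilin Q) {a | Q a = 1}) :=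
  VCoord.of_action C (symp_polar hQ) (fun g x => g.1.1 *ᵥ x)
    (fun _ _ h => CfsgReflClass.iso_ext Q h) (CfsgReflClass.iso_mul Q) (CfsgReflClass.iso_one Q) (tt Q)
    (fun a ha x => by
      rw [CfsgReflClass.refl2_apply (tt_spec ha), QuadraticMap.polar_comm]
      rfl)
    (fun a ha => (rank_iff hQ _).mpr ⟨a, ha, rfl⟩) (fun t ht => (rank_iff hQ t).mp ht)
    (fun _ ha => (quad Q).ne_zero ha)
    (fun a ha b hb hab => by
      show Q (a + b) = 1
      rw [quad Q a b, (show Q a = 1 from ha), (show Q b = 1 from hb), hab]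
      decide)

end OrthTwo

end CfsgFischer
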