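/-
No primitive class has an orthogonal group over two elements as the type of its partner group.
-/
import Cfsg.Agent.Lib.Fischer.TransClass
import Cfsg.Agent.Lib.Fischer.Interface

set_option autoImplicit false
set_option linter.unusedSectionVars false

namespace CfsgFischer

open Cfsg CfsgThreeTrans FormTwo

universe u w

variable {G : Type u} [Group G] [Finite G] {D : Set G}
variable {W : Type w} [AddCommGroup W] [Module (ZMod 2) W] [Finite W] {B : LinearMap.BilinForm (ZMod 2) W}

namespace FormTwo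

/-- A vector outside a subspace pairs to one with some vector perpendicular to it. -/
theorem exists_perp_one (hB : IsSymp B) {S : Submodule (ZMod 2) W} {z : W} (hz : z ∉ S) :
    ∃ t, (∀ s ∈ S, B t s = 0) ∧ B t z = 1 := by
  obtain ⟨f, hfz, hfS⟩ := Submodule.exists_dual_map_eq_bot_of_notMem hz inferInstance
  obtain ⟨t, ht⟩ := hB.exists_rep f
  refine ⟨t, fun s hs => ?_, ?_⟩
  · rw [hB.symm, ← ht]
    exact (Submodule.mem_bot _).mp (hfS ▸ Submodule.mem_map_of_mem hs)
  · rw [hB.symm, ← ht]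
    exact eq_one hfz

/-- In dimension at least seven, four conditions leave room outside three given vectors. -/
theorem exists_perp (hdim : 8 ≤ Module.finrank (ZMod 2) W) (a b c e f g k : W) :
    ∃ z, B z a = 0 ∧ B z b = 0 ∧ B z c = 0 ∧ B z e = 0 ∧ z ∉ Submodule.span (ZMod 2) {f, g, k} := by
  classical
  haveI : Module.Finite (ZMod 2) W := Module.Finite.of_finite
  let L : W →ₗ[ZMod 2] (Fin 4 → ZMod 2) := LinearMap.pi fun i => B.flip (![a, b, c, e] i)
  by_contra hno
  push Not at hno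
  have hle : LinearMap.ker L ≤ Submodule.span (ZMod 2) {f, g, k} := fun z hz => by
    have h : ∀ i, B z (![a, b, c, e] i) = 0 := fun i => congrFun (LinearMap.mem_ker.mp hz) i
    exact hno z (h 0) (h 1) (h 2) (h 3)
  have h1 := L.finrank_range_add_finrank_ker
  have h2 : Module.finrank (ZMod 2) (LinearMap.range L) ≤ 4 := by
    have := Submodule.finrank_le (LinearMap.range L)
    rwa [Module.finrank_fin_fun] at this
  have h3 := Submodule.finrank_mono hle
  have h4 : Module.finrank (ZMod 2) (Submodule.span (ZMod 2) ({f, g, k} : Set W)) ≤ 3 := by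
    rw [show ({f, g, k} : Set W) = ↑({f, g, k} : Finset W) by simp]
    exact (finrank_span_finset_le_card _).trans Finset.card_le_three
  omega

variable {q : W → ZMod 2}

/-- In large dimension a plane's perp contains a nonsingular vector perpendicular to a given one. -/
theorem exists_nonsingular (hB : IsSymp B) (hq : IsQuad B q) (hdim : 8 ≤ Module.finrank (ZMod 2) W) (p r z : W) :
    ∃ a, q a = 1 ∧ B a p = 0 ∧ B a r = 0 ∧ B a z = 0 := by
  obtain ⟨z1, h1, h2, h3, -, hout⟩ := exists_perp (B := B) hdim p r z z p r z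
  obtain ⟨z2, hz2, hz21⟩ := exists_perp_one hB hout
  have k1 : B z2 p = 0 := hz2 p (Submodule.subset_span (Set.mem_insert _ _))
  have k2 : B z2 r = 0 := hz2 r (Submodule.subset_span (Set.mem_insert_of_mem _ (Set.mem_insert _ _)))
  have k3 : B z2 z = 0 :=
    hz2 z (Submodule.subset_span (Set.mem_insert_of_mem _ (Set.mem_insert_of_mem _ rfl)))
  rcases two_cases (q z1) with e1 | e1
  swap
  · exact ⟨z1, e1, h1, h2, h3⟩
  rcases two_cases (q z2) with e2 | e2
  swap
  · exact ⟨z2, e2, k1, k2, k3⟩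
  exact ⟨z2 + z1, by rw [hq, e1, e2, hz21]; decide, by rw [map_add, LinearMap.add_apply, k1, h1, add_zero],
    by rw [map_add, LinearMap.add_apply, k2, h2, add_zero], by rw [map_add, LinearMap.add_apply, k3, h3, add_zero]⟩

/-- A plane's perp is spanned by its nonsingular vectors. -/
theorem span_nonsingular (hB : IsSymp B) (hq : IsQuad B q) (hdim : 8 ≤ Module.finrank (ZMod 2) W) (p r z : W)
    (hzp : B z p = 0) (hzr : B z r = 0) :
    z ∈ Submodule.span (ZMod 2) {u | q u = 1 ∧ B u p = 0 ∧ B u r = 0} := by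
  rcases two_cases (q z) with e | e
  swap
  · exact Submodule.subset_span ⟨e, hzp, hzr⟩
  obtain ⟨a, ha, ha1, ha2, ha3⟩ := exists_nonsingular hB hq hdim p r z
  rw [← add_cancel' z a]
  refine Submodule.add_mem _ (Submodule.subset_span ⟨?_, ?_, ?_⟩) (Submodule.subset_span ⟨ha, ha1, ha2⟩)
  · rw [hq, e, ha, hB.symm, ha3, zero_add, add_zero]
  · rw [map_add, LinearMap.add_apply, hzp, ha1, add_zero]
  · rw [map_add, LinearMap.add_apply, hzr, ha2, add_zero]

end FormTwo

namespace VCoord

variable {q : W → ZMod 2} {d : G}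

/-- Each member of the common set has an axis: a vector pairing to one with it and to zero with its neighbours there. -/
theorem axis (hB : IsSymp B) (hq : IsQuad B q) (hdim : 8 ≤ Module.finrank (ZMod 2) W)
    (C : VCoord D d B {a | q a = 1}) (hD : IsThreeTranspositionClass D) (hd : d ∈ D) {c x : G} (hc : c ∈ D)
    (hdc : ¬ Commute d c) (hx : x ∈ Sc D d c) :
    ∃ w, B (C.v x) w = 1 ∧ (∀ y ∈ Sc D d c, Commute x y → y ≠ x → B (C.v y) w = 0) ∧
      ∀ z, q z = 1 → B z (C.v x) = 0 → B z w = 0 → ∃ y ∈ Sc D d c, C.v y = z := by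
  classical
  obtain ⟨p, r, h, hp, hr, hpr, hmem, hback, hpres, -⟩ := C.link hD hd hc hdc hx
  have hξ : q (C.v x) = 1 := C.mem x hx.1
  obtain ⟨w₀, η, hw₀, hη, hηp, hηr, hηu⟩ := FormTwo.lift hB hpr (hq.ne_zero hξ)
    {u | q u = 1 ∧ B u p = 0 ∧ B u r = 0} (fun u hu => hu.2) (span_nonsingular hB hq hdim p r) h
    (fun u hu => (hmem u hu.1 hu.2.1 hu.2.2).1) (fun u hu u' hu' => hpres u hu.1 hu.2.1 hu.2.2 u' hu'.1 hu'.2.1 hu'.2.2)
  let ν : W →+ ZMod 2 := AddMonoidHom.mk' (fun z => q z + q (η.symm z)) fun z z' => by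
    have e : B (η.symm z) (η.symm z') = B z z' := by
      conv_rhs => rw [← η.apply_symm_apply z, ← η.apply_symm_apply z', hη]
    rw [hq, map_add, hq, e]
    linear_combination add_self' (B z z')
  obtain ⟨a, ha⟩ := hB.exists_rep (ν.toZModLinearMap 2)
  have hν : ∀ z, q z + q (η.symm z) = B z a := fun z => ha z
  have hxa : B (C.v x) a = 0 := by
    rw [← hν, hξ, ← hηp, η.symm_apply_apply, (show q p = 1 from hp)]
    decide
  refine ⟨a + w₀, by rw [map_add, hxa, hw₀, zero_add], fun y hy hxy hne => ?_, fun z hz hzx hzw => ?_⟩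
  · obtain ⟨u, hu, hu1, hu2, e⟩ := hback y hy hxy hne
    have hhu : q (h u) = 1 := e ▸ C.mem y hy.1
    have h1 := hν (η u)
    rw [η.symm_apply_apply, (show q u = 1 from hu), hηu u ⟨hu, hu1, hu2⟩, hq, hq.smul, hhu, hξ, map_smul,
      hB.symm (h u) (C.v x), (hmem u hu hu1 hu2).1, map_add, LinearMap.add_apply, map_smul, LinearMap.smul_apply, hxa,
      smul_zero, add_zero, add_zero, mul_one] at h1
    rw [← e, map_add, ← h1]
    linear_combination add_self' (B (h u) w₀) + add_self' (1 : ZMod 2)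
  · rw [map_add] at hzw
    set b := B z w₀
    set z' := z + b • C.v x with hz'
    set u := η.symm z' with hu'
    have hu1 : B u p = 0 := by
      rw [← hη, hu', η.apply_symm_apply, hηp, hz', map_add, LinearMap.add_apply, hzx, map_smul, LinearMap.smul_apply,
        hB.self, smul_zero, add_zero]
    have hu2 : B u r = 0 := by
      rw [← hη, hu', η.apply_symm_apply, hηr, hz', map_add, LinearMap.add_apply, map_smul, LinearMap.smul_apply, hw₀,
        smul_eq_mul, mul_one]
      exact add_self' b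
    have hqz' : q z' = 1 + b := by
      rw [hz', hq, hq.smul, hz, hξ, map_smul, hzx, smul_zero, add_zero, mul_one]
    have hu : q u = 1 := by
      have h1 := hν z'
      rw [hqz', ← hu', hz', map_add, LinearMap.add_apply, map_smul, LinearMap.smul_apply, hxa, smul_zero,
        add_zero] at h1
      linear_combination h1 + hzw - add_self' b - add_self' (1 : ZMod 2)
    obtain ⟨-, -, y, hy, ey⟩ := hmem u hu hu1 hu2
    refine ⟨y, hy, ey.trans ?_⟩
    have hηu' := hηu u ⟨hu, hu1, hu2⟩
    rw [hu', η.apply_symm_apply, ← hu', hz'] at hηu'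
    have e : h u = z + (b + B (h u) w₀) • C.v x := by
      rw [add_smul, ← add_assoc, hηu', add_cancel']
    have hhu : q (h u) = 1 := ey ▸ C.mem y hy.1
    rw [e, hq, hz, hq.smul, hξ, map_smul, hzx, smul_zero, add_zero, mul_one, add_eq_left] at hhu
    rw [e, hhu, zero_smul, add_zero]

/-- The orthogonal type is impossible. -/
theorem orth_false (hB : IsSymp B) (hq : IsQuad B q) (hdim : 8 ≤ Module.finrank (ZMod 2) W)
    (C : VCoord D d B {a | q a = 1}) (hD : IsThreeTranspositionClass D) (hp : IsPrimitiveUnderConj D)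
    (hw : ∃ a ∈ D, ∃ b ∈ D, a ≠ b ∧ Commute a b) (hd : d ∈ D) : False := by
  obtain ⟨c, hc, hdc⟩ := exists_noncommute hD hp.2.1 hd
  obtain ⟨x, hx⟩ : ∃ x, x ∈ Sc D d c := exists_common hD hp hw hd hc hdc
  obtain ⟨w, hw1, hw2, hw3⟩ := C.axis hB hq hdim hD hd hc hdc hx
  obtain ⟨Y, hY, hYx, hYw, -⟩ := exists_nonsingular hB hq hdim (C.v x) w w
  obtain ⟨y, hy, rfl⟩ := hw3 Y hY hYx hYw
  have hxy : Commute x y := (C.comm x hx.1 y hy.1).mpr (by rw [hB.symm]; exact hYx)
  have hne : y ≠ x := fun e => by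
    subst e
    rw [hw1] at hYw
    exact one_ne_zero hYw
  obtain ⟨w', hw1', hw2', -⟩ := C.axis hB hq hdim hD hd hc hdc hy
  have hxw' := hw2' x hx hxy.symm hne.symm
  set X := C.v x
  set Y := C.v y
  have key : ∀ z, B z X = 0 → B z w = 0 → B z Y = 0 → z ≠ 0 → z ≠ Y → B z w' = 1 + q z := by
    intro z h1 h2 h3 h0 hzY
    have main : ∀ z, q z = 1 → B z X = 0 → B z w = 0 → B z Y = 0 → z ≠ Y → B z w' = 0 := by
      intro z hz h1 h2 h3 hzY
      obtain ⟨t, ht, rfl⟩ := hw3 z hz h1 h2
      exact hw2' t ht ((C.comm y hy.1 t ht.1).mpr (by rw [hB.symm]; exact h3)) fun e => hzY (by rw [e])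
    rcases two_cases (q z) with e | e
    · have h := main (z + Y) (by rw [hq, e, hY, h3]; decide)
        (by rw [map_add, LinearMap.add_apply, h1, hYx, add_zero])
        (by rw [map_add, LinearMap.add_apply, h2, hYw, add_zero])
        (by rw [map_add, LinearMap.add_apply, h3, hB.self, add_zero]) (fun e' => h0 (add_eq_right.mp e'))
      rw [map_add, LinearMap.add_apply, hw1'] at h
      rw [e, add_zero]
      linear_combination h - add_self' (1 : ZMod 2)
    · rw [main z e h1 h2 h3 hzY, e]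
      decide
  obtain ⟨z1, a1, a2, a3, -, aout⟩ := exists_perp (B := B) hdim X w Y Y Y Y Y
  obtain ⟨z2, b1, b2, b3, b4, bout⟩ := exists_perp (B := B) hdim X w Y z1 Y z1 Y
  have memY : Y ∈ Submodule.span (ZMod 2) ({Y, Y, Y} : Set W) := Submodule.subset_span (Set.mem_insert _ _)
  have memY' : Y ∈ Submodule.span (ZMod 2) ({Y, z1, Y} : Set W) := Submodule.subset_span (Set.mem_insert _ _)
  have memz : z1 ∈ Submodule.span (ZMod 2) ({Y, z1, Y} : Set W) :=
    Submodule.subset_span (Set.mem_insert_of_mem _ (Set.mem_insert _ _))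
  have k1 := key z1 a1 a2 a3 (fun e => aout (e ▸ Submodule.zero_mem _)) (fun e => aout (e ▸ memY))
  have k2 := key z2 b1 b2 b3 (fun e => bout (e ▸ Submodule.zero_mem _)) (fun e => bout (e ▸ memY'))
  have k3 := key (z1 + z2) (by rw [map_add, LinearMap.add_apply, a1, b1, add_zero])
    (by rw [map_add, LinearMap.add_apply, a2, b2, add_zero]) (by rw [map_add, LinearMap.add_apply, a3, b3, add_zero])
    (fun e => bout (eq_of_add_eq_zero e ▸ memz))
    (fun e => bout (by rw [← add_cancel z1 z2, e]; exact Submodule.add_mem _ memz memY'))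
  rw [map_add, LinearMap.add_apply, k1, k2, hq, hB.symm z1 z2, b4] at k3
  revert k3
  generalize q z1 = s
  generalize q z2 = t
  revert s t
  decide

end VCoord

/-- The hyperbolic form. -/
noncomputable def formP (m : ℕ) : QuadraticForm (ZMod 2) (Fin m ⊕ Fin m → ZMod 2) :=
  (IsQuad.form (B := Matrix.toBilin' (CfsgLib.FiniteForms.hypMat (ZMod 2) m))
    (q := Cfsg.quadFormPlus m (ZMod 2)) fun x y => by
      rw [Matrix.toBilin'_apply', ← CfsgLib.FiniteForms.polar_plus, QuadraticMap.polar]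
      ring)

/-- The elliptic form. -/
noncomputable def formM (m : ℕ) : QuadraticForm (ZMod 2) ((Fin m ⊕ Fin m) ⊕ Fin 2 → ZMod 2) :=
  (IsQuad.form (B := Matrix.toBilin' (CfsgLib.FiniteForms.ellMat m (1 : ZMod 2) 1))
    (q := Cfsg.quadFormMinus m (ZMod 2) 1 1) fun x y => by
      rw [Matrix.toBilin'_apply', ← CfsgLib.FiniteForms.polar_minus, QuadraticMap.polar]
      ring)

theorem formP_coe (m : ℕ) : (⇑(formP m)) = Cfsg.quadFormPlus m (ZMod 2) := rfl

theorem formM_coe (m : ℕ) : (⇑(formM m)) = Cfsg.quadFormMinus m (ZMod 2) 1 1 := rfl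

theorem nondeg_of_det {ι : Type} [Fintype ι] [DecidableEq ι] {Q : QuadraticForm (ZMod 2) (ι → ZMod 2)}
    (M : Matrix ι ι (ZMod 2)) (hM : M.det ≠ 0) (h : ∀ u v, QuadraticMap.polar (⇑Q) u v = Matrix.toBilin' M u v) :
    (QuadraticMap.polarBilin Q).Nondegenerate := by
  have e : QuadraticMap.polarBilin Q = Matrix.toBilin' M := LinearMap.ext fun u => LinearMap.ext fun v => h u v
  rw [e]
  exact Matrix.Nondegenerate.toBilin' (Matrix.nondegenerate_of_det_ne_zero hM)

theorem formP_nondeg (m : ℕ) : (QuadraticMap.polarBilin (formP m)).Nondegenerate := by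
  refine nondeg_of_det _ ?_ fun u v => IsQuad.polar_form _ u v
  rw [CfsgLib.FiniteForms.det_hypMat]
  exact pow_ne_zero _ (by decide)

theorem formM_nondeg (m : ℕ) : (QuadraticMap.polarBilin (formM m)).Nondegenerate := by
  refine nondeg_of_det _ ?_ fun u v => IsQuad.polar_form _ u v
  rw [CfsgLib.FiniteForms.det_ellMat]
  exact mul_ne_zero (pow_ne_zero _ (by decide)) (by decide)

theorem orth_class_false {ι : Type} [Fintype ι] [DecidableEq ι] (Q : QuadraticForm (ZMod 2) (ι → ZMod 2))
    (hQ : (QuadraticMap.polarBilin Q).Nondegenerate) (hι : 8 ≤ Fintype.card ι) (hP : Prim D) {d : G} (hd : d ∈ D)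
    (h2 : pCore 2 ↥(Subgroup.closure (Ds D d)) ≤ Subgroup.center ↥(Subgroup.closure (Ds D d)))
    (e : QG (Ds D d) ≃* ↥(Cfsg.isometryGroup (ZMod 2) ⇑Q))
    (he : e '' QD (Ds D d) = {g : ↥(Cfsg.isometryGroup (ZMod 2) ⇑Q) | (g.1.1 - 1).rank = 1}) : False := by
  have hne : ∃ t ∈ {g : ↥(Cfsg.isometryGroup (ZMod 2) ⇑Q) | (g.1.1 - 1).rank = 1}, t ≠ 1 := by
    obtain ⟨e0, he0⟩ := exists_partner hP.cls hP.pair hd
    refine ⟨_, he ▸ Set.mem_image_of_mem e (Set.mem_image_of_mem _ (show (⟨e0, Subgroup.subset_closure he0⟩ :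
      ↥(Subgroup.closure (Ds D d))) ∈ {x : ↥(Subgroup.closure (Ds D d)) | (x : G) ∈ Ds D d} from he0)), fun h1 => ?_⟩
    have h0 : e (QuotientGroup.mk ⟨e0, Subgroup.subset_closure he0⟩) ∈
        {g : ↥(Cfsg.isometryGroup (ZMod 2) ⇑Q) | (g.1.1 - 1).rank = 1} :=
      he ▸ Set.mem_image_of_mem e (Set.mem_image_of_mem _ he0)
    rw [h1, Set.mem_setOf_eq] at h0
    simp at h0
  obtain ⟨C⟩ := coord_of_iso hP.cls hP.prim hP.pair hd h2 hne e he
  obtain ⟨V⟩ := OrthTwo.vcoord hQ C
  exact V.orth_false (OrthTwo.symp_polar hQ) (OrthTwo.quad Q) (by rwa [Module.finrank_fintype_fun_eq_card]) hP.cls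
    hP.prim hP.pair hd

/-- The step from an orthogonal group over two elements. -/
theorem step_orth (b : Bool) (m : ℕ) : Step.{u} (.orth b m) := by
  intro G _ _ D hP d hd hcores hhas
  exfalso
  cases b with
  | true =>
    obtain ⟨hm, e, he⟩ := hhas
    exact orth_class_false (formP m) (formP_nondeg m) (by simp; omega) hP hd hcores.2 e he
  | false =>
    obtain ⟨hm, e, he⟩ := hhas
    exact orth_class_false (formM (m - 1)) (formM_nondeg (m - 1)) (by simp; omega) hP hd hcores.2 e he

end CfsgFischer
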