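/-
The step from type M(23): the group has type M(24); the common partners of a far pair fall into three fibres.
-/
import Cfsg.Agent.Lib.Fischer.LocalPairs
import Cfsg.Agent.Lib.Fischer.StepRefl
import Cfsg.Agent.Lib.Fischer.Triality.Main
import Cfsg.Agent.Lib.ThreeTrans.M24.Params

set_option autoImplicit false
set_option linter.unusedSectionVars false

namespace CfsgFischer

open Cfsg CfsgThreeTrans Descend
open CfsgThreeTrans.M22 (Adj far_const)
open CfsgThreeTrans.M23 (card_filter)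

universe u

variable {G : Type u} [Group G] [Finite G] {D : Set G}

/-- Two commuting common partners of a far pair have 126 common neighbours among the common partners. -/
theorem m23_near (hP : Prim D) {d : G} (hd : d ∈ D) (hc : CoresCentral D d) (hE : Prim (QD (Ds D d)))
    (h23 : IsOfTypeM23 (QG (Ds D d)) (QD (Ds D d))) {c : G} (hcD : c ∈ D) (hdc : ¬ Commute d c) {x z : G}
    (hx : x ∈ Sc D d c) (hz : z ∈ Sc D d c ∩ Ds D x) : (Sc D d c ∩ Ds D x ∩ Ds D z).ncard = 126 := by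
  have hD := hP.cls
  obtain ⟨B⟩ := M23.exists_base hE.cls hE.prim h23
  obtain ⟨hinj, hrefl⟩ := local_props hP hd hc
  obtain ⟨g, hg⟩ := cls_exists_conj hD hx.1.1 hd
  have hin : ∀ {y : G}, y ∈ D → x ∈ Ds D y → g * y * g⁻¹ ∈ Ds D d := by
    intro y hy hxy
    rw [← hg]
    exact cj_Ds hD g x ▸ ⟨y, mem_both hy hxy, rfl⟩
  have hadj : ∀ {p q : G}, q ∈ Ds D p → g * q * g⁻¹ ∈ Ds D (g * p * g⁻¹) := fun {p q} h =>
    cj_Ds hD g p ▸ ⟨q, h, rfl⟩
  set H := Subgroup.closure (Ds D d)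
  have ha := hin hd hx.1
  have hb := hin hcD hx.2
  have hw : g * z * g⁻¹ ∈ Ds D d := by rw [← hg]; exact hadj hz.2
  let a : ↥H := ⟨g * d * g⁻¹, Subgroup.subset_closure ha⟩
  let b : ↥H := ⟨g * c * g⁻¹, Subgroup.subset_closure hb⟩
  let w : ↥H := ⟨g * z * g⁻¹, Subgroup.subset_closure hw⟩
  have hwa : mkS (Ds D d) a ∈ Ds (QD (Ds D d)) (mkS (Ds D d) w) :=
    ⟨⟨a, ha, rfl⟩, fun q => (hadj hz.1.1).2.1 (congrArg Subtype.val (hinj ha hw q)).symm,
      (show Commute w a from Subtype.ext (hadj hz.1.1).2.2.eq.symm).map (mkS (Ds D d))⟩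
  have hwb : mkS (Ds D d) b ∈ Ds (QD (Ds D d)) (mkS (Ds D d) w) :=
    ⟨⟨b, hb, rfl⟩, fun q => (hadj hz.1.2).2.1 (congrArg Subtype.val (hinj hb hw q)).symm,
      (show Commute w b from Subtype.ext (hadj hz.1.2).2.2.eq.symm).map (mkS (Ds D d))⟩
  have hab : ¬ Commute (mkS (Ds D d) a) (mkS (Ds D d) b) := fun q =>
    hdc ((commute_cj_iff g).mp (congrArg Subtype.val (hrefl a ha b hb q).eq))
  have h126 := (M23.ncard_three hE.cls B (a := mkS (Ds D d) w) ⟨w, hw, rfl⟩ hwa hwb).1 hab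
  have himg : mkS (Ds D d) '' Sub (Ds D d ∩ Ds D (w : G) ∩ (Ds D (a : G) ∩ Ds D (b : G))) H =
      Ds (QD (Ds D d)) (mkS (Ds D d) w) ∩ Ds (QD (Ds D d)) (mkS (Ds D d) a) ∩
        Ds (QD (Ds D d)) (mkS (Ds D d) b) := by
    rw [Set.inter_assoc (Ds (QD (Ds D d)) _),
      show Ds (QD (Ds D d)) (mkS (Ds D d) a) ∩ Ds (QD (Ds D d)) (mkS (Ds D d) b) = _ from
        (pair_image hP hd hc (a := a) (b := b) ha hb).symm]
    show _ = Ds (mkS (Ds D d) '' Sub (Ds D d) H) _ ∩ _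
    rw [← image_Ds hinj hrefl (fun y (hy : y ∈ Ds D d) => hy.1) hw,
      ← hinj.image_inter (fun y hy => hy.1) (fun y hy => hy.1.1)]
    congr 1
    ext y
    exact ⟨fun q => ⟨q.1, ⟨q.1.1, q.2.1⟩, q.2.2⟩, fun q => ⟨q.1, q.2.1.2, q.2.2⟩⟩
  rw [← h126, ← himg, (hinj.mono fun y hy => hy.1.1).ncard_image,
    ncard_sub (A := Ds D d ∩ Ds D (w : G) ∩ (Ds D (a : G) ∩ Ds D (b : G)))
      ((Set.inter_subset_left.trans Set.inter_subset_left).trans Subgroup.subset_closure),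
    ← Set.ncard_image_of_injective _ (cj_injective g)]
  congr 1
  rw [Sc, Set.image_inter (cj_injective g), Set.image_inter (cj_injective g), cj_pair_set hD, cj_Ds hD, cj_Ds hD, hg]
  show _ = Ds D d ∩ Ds D (g * z * g⁻¹) ∩ (Ds D (g * d * g⁻¹) ∩ Ds D (g * c * g⁻¹))
  ext y
  simp only [Set.mem_inter_iff]
  tauto

/-- The common partners of a far pair, descended, have a disconnected commuting graph. -/
theorem m23_disconnected (hP : Prim D) {d : G} (hd : d ∈ D) (hc : CoresCentral D d) (hE : Prim (QD (Ds D d)))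
    (h23 : IsOfTypeM23 (QG (Ds D d)) (QD (Ds D d))) {c : G} (hcD : c ∈ D) (hdc : ¬ Commute d c)
    (hcard : (Sc D d c).ncard = 3240) {n : ℕ} (H : Hyp D (Sc D d c) n 351) :
    ¬ (commutingGraph (QD (Sc D d c))).Connected := by
  classical
  intro hconn
  have hG := H.good
  have hp : IsPrimitiveUnderConj (QD (Sc D d c)) :=
    (equivalences hG.cls hG.center hG.pair).2.mpr ⟨hG.two, hG.three, hconn⟩
  set P := QD (Sc D d c)
  obtain ⟨p, hp', q, hq', -, -⟩ := hG.pair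
  obtain ⟨r, hr, hpr⟩ := exists_noncommute hG.cls hp.2.1 hp'
  set m' := (Ds P p ∩ Ds P r).ncard
  have hk : ∀ a ∈ P, (Ds P a).ncard = 351 := by
    rintro _ ⟨a, ha, rfl⟩
    exact (H.ncard_image ha).1
  have hl : ∀ a ∈ P, ∀ b ∈ Ds P a, (Ds P a ∩ Ds P b).ncard = 126 := by
    rintro _ ⟨a, ha, rfl⟩ _ ⟨⟨b, hb, rfl⟩, hne, hcom⟩
    exact ((H.ncard_image ha).2 b hb).trans (m23_near hP hd hc hE h23 hcD hdc ha ⟨hb, hb.1.1,
      fun e => hne (congrArg _ (Subtype.ext e)), congrArg Subtype.val (H.mk_props.2 a ha b hb hcom).eq⟩)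
  have hfar : ∀ a ∈ P, ∀ b ∈ P, ¬ Commute a b → (Ds P a ∩ Ds P b).ncard = m' := fun a ha b hb hab =>
    far_const hG.cls hp hG.pair hp' hr hpr ha hb hab
  haveI : Fintype P := Fintype.ofFinite P
  haveI : Nonempty P := ⟨⟨p, hp'⟩⟩
  have hreg : Srg.IsReg (Adj P) 351 126 m' := by
    refine ⟨fun x y h => ⟨x.2, fun e => h.2.1 e.symm, h.2.2.symm⟩, fun x h => h.2.1 rfl, fun x => ?_,
      fun x y h => ?_, fun x y hne h => ?_⟩
    · rw [← hk x.1 x.2]
      exact card_filter (Ds P x.1) (fun y h => h.1) _ fun _ => Iff.rfl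
    · rw [← hl x.1 x.2 y.1 h]
      exact card_filter (Ds P x.1 ∩ Ds P y.1) (fun y h => h.1.1) _ fun _ => Iff.rfl
    · rw [← hfar x.1 x.2 y.1 y.2 fun hc => h ⟨y.2, fun e => hne (Subtype.ext e.symm), hc⟩]
      exact card_filter (Ds P x.1 ∩ Ds P y.1) (fun y h => h.1.1) _ fun _ => Iff.rfl
  have hcount := Srg.count hreg
  rw [← Nat.card_eq_fintype_card, Nat.card_coe_set_eq, show P.ncard = 3240 from H.ncard_qd.trans hcard] at hcount
  push_cast at hcount
  omega

/-- **The step from type M(23).** -/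
theorem step_m23 : Step.{u} .m23 := by
  intro G _ _ D hP d hd hc hHas
  obtain ⟨h23, hpairs⟩ := hHas
  have hD := hP.cls
  have hE := (local_good G D hP d hd hc).1
  obtain ⟨B⟩ := M23.exists_base hE.cls hE.prim h23
  have hμ := (M24.params hD hP.prim
    ⟨d, hd, hE.cls, hE.prim, h23, hc.2, local_two hP hd, local_class hP hd, B⟩).2
  have hm := (M23.params hE.cls hE.prim B).2
  obtain ⟨c, hcD, hdc⟩ := exists_noncommute hD hP.prim.2.1 hd
  have hcard : (Sc D d c).ncard = 3240 := hμ d hd c hcD hdc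
  obtain ⟨H, hloc⟩ := sc_hyp hP hd hc (n := 7) (m := 351) (by norm_num) (fun c₃ => -c₃)
    (fun a ha b hb hab => ⟨hm a ha b hb hab, hpairs a ha b hb hab⟩) hcD hdc (by omega)
  have hG := H.good
  obtain ⟨x, hx⟩ := Set.nonempty_of_ncard_ne_zero (s := Sc D d c) (by omega)
  set x' : ↥(Subgroup.closure (Sc D d c)) := ⟨x, Subgroup.subset_closure hx⟩
  set P := QD (Sc D d c)
  set p := mkS (Sc D d c) x'
  have hp : p ∈ P := ⟨x', hx, rfl⟩
  obtain ⟨c₃, hc₃, hr⟩ := hloc x hx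
  obtain ⟨-, -, himg⟩ := H.local_image (x := x') hx
  -- the local class of the fibre is that of the descended class
  set p' : ↥(Triality.Gr P p) := ⟨p, Subgroup.subset_closure (Triality.self_mem hp)⟩
  have hsub : Ds P p ⊆ Triality.Gr P p := fun y hy =>
    Subgroup.subset_closure (Triality.commute_fib hG hp hy.1 hy.2.2)
  have htr := qg_transfer (D := P) (A := Ds P p) hG.cls.1 (fun y hy => hy.1)
    (fun a ha b hb => Ds_closed_mem hG.cls ha hb) hsub (MonoidHom.id ↥(Triality.Gr P p)) Function.injective_id.injOn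
  have heq : (MonoidHom.id ↥(Triality.Gr P p)) '' Sub (Ds P p) (Triality.Gr P p) = Ds (Triality.Fs P p) p' := by
    ext y
    constructor
    · rintro ⟨y, hy, rfl⟩
      exact ⟨Triality.commute_fib hG hp hy.1 hy.2.2, fun q => hy.2.1 (congrArg Subtype.val q), Subtype.ext hy.2.2.eq⟩
    · intro hy
      exact ⟨y, ⟨hy.1.1, fun q => hy.2.1 (Subtype.ext q), congrArg Subtype.val hy.2.2.eq⟩, rfl⟩
  rw [heq] at htr
  obtain ⟨e, he⟩ := htr
  have hloc' := isReflClass_congr e he (himg _ _ hr)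
  obtain ⟨-, -, k2, k3, -⟩ := refl_facts (by norm_num) hloc'
  have hF := Triality.gr_prim hG hp
  obtain ⟨k', hk, hk'⟩ := step_refl 7 (-c₃) c₃ _ (Triality.Fs P p) hF p' (Triality.self_mem hp)
    ⟨core_of_quot Nat.prime_three k3, core_of_quot Nat.prime_two k2⟩ ⟨by norm_num, hloc'⟩
  rw [show k' = .refl (7 + 1) (- -c₃ * c₃) c₃ from hk] at hk'
  obtain ⟨⟨eQ⟩, ⟨eN⟩⟩ := Triality.triality_refl hG (m23_disconnected hP hd hc hE h23 hcD hdc hcard H) hp hk'
  exact ⟨.m24, rfl, hP.center, d, hd, c, hcD, hdc, h23, layer _, inferInstance, ⟨eN⟩, ⟨eQ⟩⟩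

end CfsgFischer
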