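/-
No class has a local class of type M(24): the strongly regular parameters are impossible.
-/
import Cfsg.Agent.Lib.Fischer.LocalPairs
import Cfsg.Agent.Lib.ThreeTrans.M24.Params

set_option autoImplicit false
set_option linter.unusedSectionVars false

namespace CfsgFischer

open Cfsg CfsgThreeTrans Descend Matrix
open CfsgThreeTrans.M22 (Adj far_const)
open CfsgThreeTrans.M23 (card_filter)

universe u

set_option synthInstance.maxSize 2000 in
set_option synthInstance.maxHeartbeats 200000 in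
theorem m24_key : ∀ a < 80, ∀ b < 48, ∀ m : ℕ, m = 28313 + (48 * a + b) → m ≤ 32103 → 84488431104 % m = 0 →
      (2 * 306936 + (84488431104 / m + 306936) * 31671 = (84488431104 / m + 306936) * m ∨
        Nat.sqrt (m * m + 1004279985 - 63346 * m) * Nat.sqrt (m * m + 1004279985 - 63346 * m) =
          m * m + 1004279985 - 63346 * m) → False := by
  intro a ha b hb m hm
  subst hm
  revert b
  revert a
  decide +kernel

variable {G : Type u} [Group G] [Finite G] {D : Set G}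

/-- The parameters of the local class, in the group. -/
theorem m24_counts (hP : Prim D) {d : G} (hd : d ∈ D) (hc : CoresCentral D d) (hE : Prim (QD (Ds D d)))
    (h24 : IsOfTypeM24 (QG (Ds D d)) (QD (Ds D d))) :
    (Ds D d).ncard = 306936 ∧ (∀ a ∈ Ds D d, (Ds D d ∩ Ds D a).ncard = 31671) ∧
      (∀ a ∈ Ds D d, ∀ b ∈ Ds D d, ¬ Commute a b → (Ds D d ∩ Ds D a ∩ Ds D b).ncard = 3240) ∧
      (∀ a ∈ Ds D d, ∀ b ∈ Ds D d, a ≠ b → Commute a b → (Ds D d ∩ Ds D a ∩ Ds D b).ncard = 3510) ∧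
      ∀ a ∈ QD (Ds D d), ∀ b ∈ QD (Ds D d), ¬ Commute a b → (Pair (QD (Ds D d)) a b).ncard = 3240 := by
  obtain ⟨B⟩ := M24.exists_base hE.cls hE.prim h24
  obtain ⟨hv, hμ⟩ := M24.params hE.cls hE.prim B
  obtain ⟨hinj, hrefl⟩ := local_props hP hd hc
  have sub : ∀ {a : G}, a ∈ Ds D d → ∃ a' : ↥(Subgroup.closure (Ds D d)), (a' : G) = a :=
    fun {a} ha => ⟨⟨a, Subgroup.subset_closure ha⟩, rfl⟩
  refine ⟨(ncard_local hP hd hc).trans hv, fun a ha => ?_, fun a ha b hb hab => ?_,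
    fun a ha b hb hne hab => ?_, hμ⟩
  · obtain ⟨a, rfl⟩ := sub ha
    rw [ncard_one hP hd hc ha]
    exact M24.ncard_Ds hE.cls B ⟨a, ha, rfl⟩
  · obtain ⟨a, rfl⟩ := sub ha
    obtain ⟨b, rfl⟩ := sub hb
    rw [ncard_pair hP hd hc ha hb]
    exact hμ _ ⟨a, ha, rfl⟩ _ ⟨b, hb, rfl⟩ fun q => hab (congrArg Subtype.val (hrefl a ha b hb q).eq)
  · obtain ⟨a, rfl⟩ := sub ha
    obtain ⟨b, rfl⟩ := sub hb
    rw [ncard_pair hP hd hc ha hb]
    exact M24.ncard_near hE.cls B ⟨a, ha, rfl⟩ ⟨⟨b, hb, rfl⟩, fun q => hne (congrArg Subtype.val (hinj hb ha q).symm),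
      (show Commute a b from Subtype.ext hab.eq).map (mkS (Ds D d))⟩

/-- The common set of a far pair, as a regular set of partners. -/
theorem m24_bounds (hP : Prim D) {d : G} (hd : d ∈ D) (hc : CoresCentral D d) (hE : Prim (QD (Ds D d)))
    (h24 : IsOfTypeM24 (QG (Ds D d)) (QD (Ds D d))) {c : G} (hcD : c ∈ D) (hdc : ¬ Commute d c) :
    28313 ≤ (Sc D d c).ncard ∧ (Sc D d c).ncard ≤ 32103 := by
  classical
  obtain ⟨hW, h1, h2, h3, hμ⟩ := m24_counts hP hd hc hE h24
  set W := Ds D d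
  set S := Sc D d c
  haveI : Fintype W := Fintype.ofFinite W
  let R : W → W → Prop := fun x y => (y : G) ∈ Ds D (x : G)
  have hreg : Srg.IsReg R 31671 3510 3240 := by
    refine ⟨fun x y h => ⟨x.2.1, fun e => h.2.1 e.symm, h.2.2.symm⟩, fun x h => h.2.1 rfl, fun x => ?_,
      fun x y h => ?_, fun x y hne h => ?_⟩
    · rw [← h1 x.1 x.2]
      exact card_filter (W ∩ Ds D x.1) Set.inter_subset_left _ fun z => ⟨fun h => ⟨z.2, h⟩, fun h => h.2⟩
    · rw [← h3 x.1 x.2 y.1 y.2 (fun e => h.2.1 e.symm) h.2.2]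
      exact card_filter (W ∩ Ds D x.1 ∩ Ds D y.1) (fun y h => h.1.1) _
        fun z => ⟨fun h => ⟨⟨z.2, h.1⟩, h.2⟩, fun h => ⟨h.1.2, h.2⟩⟩
    · rw [← h2 x.1 x.2 y.1 y.2 fun hc => h ⟨y.2.1, fun e => hne (Subtype.ext e.symm), hc⟩]
      exact card_filter (W ∩ Ds D x.1 ∩ Ds D y.1) (fun y h => h.1.1) _
        fun z => ⟨fun h => ⟨⟨z.2, h.1⟩, h.2⟩, fun h => ⟨h.1.2, h.2⟩⟩
  have hv : Fintype.card W = 306936 := by rw [← Nat.card_eq_fintype_card, Nat.card_coe_set_eq, hW]
  let P : W → Prop := fun z => (z : G) ∈ S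
  have hSn : (Finset.univ.filter P).card = S.ncard := card_filter S (fun y h => h.1) _ fun _ => Iff.rfl
  have hSd : ∀ z : W, P z → (Finset.univ.filter fun w => R z w ∧ P w).card = 3240 := by
    intro z hz
    obtain ⟨a, ha, b, hb, hab, hn, -⟩ := sc_local hP hd hc hdc hcD hz
    rw [← (hn.trans (hμ a ha b hb hab))]
    exact card_filter (S ∩ Ds D z.1) (fun y h => h.1.1) _ fun w => ⟨fun h => ⟨h.2, h.1⟩, fun h => ⟨h.2, h.1⟩⟩
  have hne : S.Nonempty := by
    obtain ⟨y, hy⟩ := exists_common hP.cls hP.prim hP.pair hd hcD hdc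
    exact ⟨y, hy⟩
  have hval : ∀ a b g : ℤ, Srg.indic P ⬝ᵥ (Srg.comb3 R a b g *ᵥ Srg.indic P) =
      (S.ncard : ℤ) * (a * 3240 + b + g * S.ncard) := by
    intro a b g
    rw [Srg.indic_dot, Finset.sum_congr rfl fun z hz => ?_, Finset.sum_const, nsmul_eq_mul, hSn]
    have hz' : P z := (Finset.mem_filter.mp hz).2
    rw [Srg.comb3_indic, hSd z hz', hSn, Srg.indic, if_pos hz']
    push_cast
    ring
  have e1 := (Srg.comb3_nonneg hreg (a := -49) (b := 17199) (g := 5) (c := 21168) (by norm_num) (by norm_num)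
    (by rw [hv]; norm_num) (by norm_num) (Srg.indic P)).1
  have e2 := (Srg.comb3_nonneg hreg (a := 29) (b := 2349) (g := -3) (c := 12528) (by norm_num) (by norm_num)
    (by rw [hv]; norm_num) (by norm_num) (Srg.indic P)).1
  rw [hval] at e1 e2
  have hpos : (0 : ℤ) < (S.ncard : ℤ) := by exact_mod_cast (Set.ncard_pos).mpr hne
  have e1' := nonneg_of_mul_nonneg_right e1 hpos
  have e2' := nonneg_of_mul_nonneg_right e2 hpos
  omega

/-- **The step from type M(24) does not occur.** -/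
theorem step_m24 : Step.{u} .m24 := by
  intro G _ _ D hP d hd hc hHas
  exfalso
  classical
  have hD := hP.cls
  have hE := (local_good G D hP d hd hc).1
  obtain ⟨hW, h1, -, -, -⟩ := m24_counts hP hd hc hE hHas
  obtain ⟨c, hcD, hdc⟩ := exists_noncommute hD hP.prim.2.1 hd
  obtain ⟨hlo, hhi⟩ := m24_bounds hP hd hc hE hHas hcD hdc
  set m := (Sc D d c).ncard
  haveI : Fintype D := Fintype.ofFinite D
  haveI : Nonempty D := ⟨⟨d, hd⟩⟩
  have hk : ∀ a ∈ D, (Ds D a).ncard = 306936 := by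
    intro a ha
    obtain ⟨g, rfl⟩ := cls_exists_conj hD hd ha
    rw [← cj_Ds hD, Set.ncard_image_of_injective _ (cj_injective g), hW]
  have hl : ∀ a ∈ D, ∀ b ∈ Ds D a, (Ds D a ∩ Ds D b).ncard = 31671 := by
    intro a ha b hb
    obtain ⟨g, rfl⟩ := cls_exists_conj hD hd ha
    rw [← cj_Ds hD] at hb
    obtain ⟨b, hb, rfl⟩ := hb
    rw [← cj_pair_set hD, Set.ncard_image_of_injective _ (cj_injective g), h1 b hb]
  have hfar : ∀ a ∈ D, ∀ b ∈ D, ¬ Commute a b → (Ds D a ∩ Ds D b).ncard = m := fun a ha b hb hab =>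
    far_const hD hP.prim hP.pair hd hcD hdc ha hb hab
  have hreg : Srg.IsReg (Adj D) 306936 31671 m := by
    refine ⟨fun x y h => ⟨x.2, fun e => h.2.1 e.symm, h.2.2.symm⟩, fun x h => h.2.1 rfl, fun x => ?_,
      fun x y h => ?_, fun x y hne h => ?_⟩
    · rw [← hk x.1 x.2]
      exact card_filter (Ds D x.1) (fun y h => h.1) _ fun _ => Iff.rfl
    · rw [← hl x.1 x.2 y.1 h]
      exact card_filter (Ds D x.1 ∩ Ds D y.1) (fun y h => h.1.1) _ fun _ => Iff.rfl
    · rw [← hfar x.1 x.2 y.1 y.2 fun hc => h ⟨y.2, fun e => hne (Subtype.ext e.symm), hc⟩]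
      exact card_filter (Ds D x.1 ∩ Ds D y.1) (fun y h => h.1.1) _ fun _ => Iff.rfl
  have hcount := Srg.count hreg
  set v := Fintype.card D
  have heq : (m : ℤ) * ((v : ℤ) - 306937) = 84488431104 := by push_cast at hcount; linarith
  have hv' : 306937 ≤ v := by
    by_contra hlt
    have : (m : ℤ) * ((v : ℤ) - 306937) ≤ 0 := mul_nonpos_of_nonneg_of_nonpos (by positivity) (by omega)
    omega
  have heq' : m * (v - 306937) = 84488431104 := by
    have : ((m * (v - 306937) : ℕ) : ℤ) = 84488431104 := by push_cast [Nat.cast_sub hv']; exact heq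
    exact_mod_cast this
  have hmod : 84488431104 % m = 0 := Nat.mod_eq_zero_of_dvd ⟨v - 306937, heq'.symm⟩
  have hdiv : 84488431104 / m = v - 306937 := by rw [← heq', Nat.mul_div_cancel_left _ (by omega)]
  refine m24_key ((m - 28313) / 48) (by omega) ((m - 28313) % 48) (by omega) m (by omega) hhi hmod ?_
  by_cases hconf : (2 : ℤ) * (306936 : ℕ) + ((v : ℤ) - 1) * ((31671 : ℕ) - (m : ℤ)) = 0
  · left
    rw [hdiv]
    push_cast at hconf
    zify [hv']
    linear_combination hconf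
  · right
    have hsq := Srg.discr_square' hreg (by omega) hconf
    have hnn : 63346 * m ≤ m * m + 1004279985 := by
      zify
      nlinarith [sq_nonneg ((m : ℤ) - 31673)]
    have hsq' : IsSquare (m * m + 1004279985 - 63346 * m) := by
      rw [← Int.isSquare_natCast_iff]
      convert hsq using 1
      push_cast [Nat.cast_sub hnn]
      ring
    obtain ⟨r, hr⟩ := hsq'
    rw [hr, Nat.sqrt_eq]

end CfsgFischer
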