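/-
The step from a symplectic group over two elements.
-/
import Cfsg.Agent.Lib.Fischer.StepSymp.Main
import Cfsg.Agent.Lib.Fischer.Models.MinusTwo

set_option autoImplicit false

namespace CfsgFischer

universe u

/-- The step from a symplectic group. -/
theorem step_symp (m : ℕ) : Step.{u} (.symp m) :=
  step_symp_of m fun G _ _ D h => Models.minus_two_model G D h

end CfsgFischer
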