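/-
The finished parts of the induction of Fischer's theorem, put together.
-/
import Cfsg.Agent.Lib.Fischer.Final
import Cfsg.Agent.Lib.Fischer.LocalGood
import Cfsg.Agent.Lib.Fischer.BaseTwo
import Cfsg.Agent.Lib.Fischer.BaseThree
import Cfsg.Agent.Lib.Fischer.StepSym
import Cfsg.Agent.Lib.Fischer.StepSympFinal
import Cfsg.Agent.Lib.Fischer.StepOrth
import Cfsg.Agent.Lib.Fischer.StepRefl
import Cfsg.Agent.Lib.Fischer.StepM22
import Cfsg.Agent.Lib.Fischer.StepM23
import Cfsg.Agent.Lib.Fischer.StepM24

set_option autoImplicit false

namespace CfsgFischer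

universe u

/-- All steps, from the unitary ones. -/
theorem steps_of (hu : ∀ n, Step.{u} (.unit n)) : Steps.{u} :=
  ⟨local_good, base_two, baseThree, fun k => match k with
    | .sym n => step_sym_kind n
    | .symp m => step_symp m
    | .unit n => hu n
    | .orth b m => step_orth b m
    | .refl n μ c => step_refl n μ c
    | .m22 => step_m22
    | .m23 => step_m23
    | .m24 => step_m24⟩

end CfsgFischer
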