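/-
Subsets of a class generating a primitive group modulo the centre, and their transport along homomorphisms
injective on them.
-/
import Cfsg.Agent.Lib.Fischer.LocalGood
import Cfsg.Agent.Lib.ThreeTrans.Exist.Transport

set_option autoImplicit false

namespace CfsgFischer

open Cfsg CfsgLib CfsgThreeTrans

universe u v

/-- A core is central when the quotient by the centre has none. -/
theorem core_le_center {X : Type u} [Group X] [Finite X] {p : ℕ} (hp : p.Prime)
    (h : pCore p (X ⧸ Subgroup.center X) = ⊥) : pCore p X ≤ Subgroup.center X := by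
  haveI : Fact p.Prime := ⟨hp⟩
  set q := QuotientGroup.mk' (Subgroup.center X)
  haveI : ((pCore p X).map q).Normal := Subgroup.Normal.map inferInstance q (QuotientGroup.mk'_surjective _)
  intro x hx
  have h1 : q x ∈ (⊥ : Subgroup _) := h ▸ le_pCore ((isPGroup_pCore p).map q) (Subgroup.mem_map_of_mem q hx)
  exact (QuotientGroup.eq_one_iff x).mp (Subgroup.mem_bot.mp h1)

/-- Primitive classes correspond under isomorphisms. -/
theorem prim_map {X : Type u} {Y : Type v} [Group X] [Finite X] [Group Y] (e : X ≃* Y) {A : Set X} {B : Set Y}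
    (he : e '' A = B) (h : Prim A) : Prim B := by
  subst he
  haveI : Finite Y := Finite.of_equiv X e.toEquiv
  have hne : ∀ a ∈ A, e a ≠ 1 := fun a ha h1 => by
    have := h.cls.1.1 a ha
    rw [(e.map_eq_one_iff).mp h1, orderOf_one] at this
    omega
  have hcore : ∀ p, pCore p X = ⊥ → pCore p Y = ⊥ := fun p hp => by
    have := pCore_map_equiv p e
    rw [hp, Subgroup.map_bot] at this
    exact this.symm
  obtain ⟨a, ha, b, hb, hab, hcm⟩ := h.pair
  refine ⟨⟨map_class h.cls e.toMonoidHom e.surjective hne, Exist.center_bot e h.center, hcore 2 h.two,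
    hcore 3 h.three, e a, ⟨a, ha, rfl⟩, e b, ⟨b, hb, rfl⟩, fun k => hab (e.injective k), hcm.map e⟩, ?_, ?_, ?_⟩
  · rintro _ ⟨a, ha, rfl⟩ _ ⟨b, hb, rfl⟩
    obtain ⟨g, hg⟩ := h.prim.1 a ha b hb
    exact ⟨e g, by rw [← hg]; simp⟩
  · exact ⟨e a, ⟨a, ha, rfl⟩, e b, ⟨b, hb, rfl⟩, fun k => hab (e.injective k)⟩
  · intro B hB hblk
    have hpre : e '' (e ⁻¹' B) = B := Set.image_preimage_eq B e.surjective
    have hsub : e ⁻¹' B ⊆ A := fun x hx => by
      obtain ⟨y, hy, hye⟩ := hB hx
      rwa [← e.injective hye]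
    have hblk' : ∀ g : X, (fun x => g * x * g⁻¹) '' (e ⁻¹' B) = e ⁻¹' B ∨
        Disjoint ((fun x => g * x * g⁻¹) '' (e ⁻¹' B)) (e ⁻¹' B) := by
      intro g
      have hc : e '' ((fun x => g * x * g⁻¹) '' (e ⁻¹' B)) = (fun y => e g * y * (e g)⁻¹) '' B := by
        conv_rhs => rw [← hpre]
        rw [Set.image_image, Set.image_image]
        exact Set.image_congr fun x _ => by simp
      rcases hblk (e g) with hb' | hb'
      · left
        refine Set.image_injective.mpr e.injective ?_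
        rw [hc, hb', hpre]
      · right
        rw [← Set.disjoint_image_iff e.injective, hc, hpre]
        exact hb'
    rcases h.prim.2.2 _ hsub hblk' with h' | h'
    · exact Or.inl (hpre ▸ h'.image e)
    · exact Or.inr (hpre.symm.trans (congrArg (e '' ·) h'))

/-- Type M(24) is invariant under isomorphisms. -/
theorem type24_congr {G : Type u} {G' : Type v} [Group G] [Group G'] (f : G ≃* G') {D : Set G} {D' : Set G'}
    (hD : f '' D = D') (h : IsOfTypeM24 G D) : IsOfTypeM24 G' D' := by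
  obtain ⟨hZ, d, hd, c, hc, hn, h23, N, hN, ⟨eN⟩, ⟨eQ⟩⟩ := h
  obtain ⟨a, ha⟩ := Exist.closure_center_equiv f (Exist.image_Ds f hD d)
  obtain ⟨b⟩ := Exist.pair_equiv f hD d c
  refine ⟨Exist.center_bot f hZ, f d, hD ▸ ⟨d, hd, rfl⟩, f c, hD ▸ ⟨c, hc, rfl⟩,
    fun q => hn (by simpa using q.map f.symm), Exist.type23 a ha h23, N.comap b.toMonoidHom, inferInstance, ⟨?_⟩, ⟨?_⟩⟩
  · have hmap : (N.comap b.toMonoidHom).map b.toMonoidHom = N :=
      Subgroup.map_comap_eq_self_of_surjective b.surjective N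
    exact (((N.comap b.toMonoidHom).equivMapOfInjective b.toMonoidHom b.injective).trans
      (MulEquiv.subgroupCongr hmap)).trans eN
  · exact (QuotientGroup.congr _ N b (Subgroup.map_comap_eq_self_of_surjective b.surjective N)).trans eQ

/-- The kinds correspond under isomorphisms. -/
theorem has_map {X : Type u} {Y : Type u} [Group X] [Group Y] (e : X ≃* Y) {A : Set X} {B : Set Y}
    (he : e '' A = B) : ∀ {k : Kind}, Has X A k → Has Y B k := by
  have hs : ∀ {Z : Type} [Group Z] (f : X ≃* Z) (T : Set Z), f '' A = T → (e.symm.trans f) '' B = T := by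
    intro Z _ f T hf
    rw [← hf, ← he, Set.image_image]
    exact Set.image_congr fun x _ => by simp
  have hpair : ∀ d c : Y, ∀ {n : ℕ} {μ c₃ : ZMod 3},
      IsReflClass (QG (Pair A (e.symm d) (e.symm c))) (QD (Pair A (e.symm d) (e.symm c))) n μ c₃ →
      IsReflClass (QG (Pair B d c)) (QD (Pair B d c)) n μ c₃ := by
    intro d c n μ c₃ hr
    obtain ⟨r, hr'⟩ := Exist.closure_center_equiv e (X := Pair A (e.symm d) (e.symm c)) (Y := Pair B d c) (by
      rw [Pair, Set.image_inter e.injective, Exist.image_Ds e he, Exist.image_Ds e he, e.apply_symm_apply,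
        e.apply_symm_apply])
    obtain ⟨Q, hQ, hμ, hc0, f, hf⟩ := hr
    refine ⟨Q, hQ, hμ, hc0, r.symm.trans f, ?_⟩
    rw [← hf, MulEquiv.coe_trans, Set.image_comp]
    refine congrArg _ ?_
    show r.symm '' (QuotientGroup.mk '' _) = _
    rw [← hr', Set.image_image]
    simp only [MulEquiv.symm_apply_apply, Set.image_id']
  have hback : ∀ {d}, d ∈ B → e.symm d ∈ A := fun {d} hd => by
    rw [← he] at hd
    obtain ⟨a, ha, rfl⟩ := hd
    rwa [e.symm_apply_apply]
  have hncm : ∀ {d c : Y}, ¬ Commute d c → ¬ Commute (e.symm d) (e.symm c) := fun {d c} h q =>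
    h (by simpa using q.map e)
  intro k h
  cases k with
  | sym n => obtain ⟨h1, h2, f, hf⟩ := h; exact ⟨h1, h2, _, hs f _ hf⟩
  | symp m => obtain ⟨h1, f, hf⟩ := h; exact ⟨h1, _, hs f _ hf⟩
  | unit n => obtain ⟨h1, F, i1, i2, h2, f, hf⟩ := h; exact ⟨h1, F, i1, i2, h2, _, hs f _ hf⟩
  | orth b m =>
    cases b
    · obtain ⟨h1, f, hf⟩ := h; exact ⟨h1, _, hs f _ hf⟩
    · obtain ⟨h1, f, hf⟩ := h; exact ⟨h1, _, hs f _ hf⟩
  | refl n μ c => obtain ⟨h1, Q, h2, h3, h4, f, hf⟩ := h; exact ⟨h1, Q, h2, h3, h4, _, hs f _ hf⟩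
  | m22 =>
    refine ⟨Exist.type22 e he h.1, fun d hd c hc hn => ?_⟩
    obtain ⟨c₃, h0, hr⟩ := h.2 _ (hback hd) _ (hback hc) (hncm hn)
    exact ⟨c₃, h0, hpair d c hr⟩
  | m23 =>
    refine ⟨Exist.type23 e he h.1, fun d hd c hc hn => ?_⟩
    obtain ⟨c₃, h0, hr⟩ := h.2 _ (hback hd) _ (hback hc) (hncm hn)
    exact ⟨c₃, h0, hpair d c hr⟩
  | m24 => exact type24_congr e he h

/-- A set of 3-transpositions closed under the group it generates, with primitive image modulo the centre of one of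
the kinds allowed. -/
structure Sub {G : Type u} [Group G] (P : Set G) (K : Kind → Prop) : Prop where
  set : IsThreeTranspositionSet P
  closed : ∀ g ∈ Subgroup.closure P, ∀ x ∈ P, g * x * g⁻¹ ∈ P
  prim : Prim (QD P)
  has : ∃ k, K k ∧ Has (QG P) (QD P) k

section
variable {G : Type u} [Group G] [Finite G] {P : Set G} {K : Kind → Prop}

theorem Sub.two (h : Sub P K) : pCore 2 ↥(Subgroup.closure P) ≤ Subgroup.center ↥(Subgroup.closure P) :=
  core_le_center Nat.prime_two h.prim.two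

theorem Sub.three (h : Sub P K) : pCore 3 ↥(Subgroup.closure P) ≤ Subgroup.center ↥(Subgroup.closure P) :=
  core_le_center Nat.prime_three h.prim.three

omit [Finite G] in
theorem Sub.ne_center (h : Sub P K) {a : ↥(Subgroup.closure P)} (ha : (a : G) ∈ P) :
    a ∉ Subgroup.center ↥(Subgroup.closure P) := fun hz => by
  have h1 := h.prim.cls.1.1 _ (show (QuotientGroup.mk a : QG P) ∈ QD P from ⟨a, ha, rfl⟩)
  rw [(QuotientGroup.eq_one_iff a).mpr hz, orderOf_one] at h1
  omega

/-- The set is one class of the group it generates. -/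
theorem Sub.cls (h : Sub P K) : IsThreeTranspositionClass {x : ↥(Subgroup.closure P) | (x : G) ∈ P} := by
  obtain ⟨⟨_, ⟨a, ha, rfl⟩⟩, -⟩ : (QD P).Nonempty ∧ True :=
    ⟨let ⟨x, hx, _⟩ := h.prim.pair; ⟨x, hx⟩, trivial⟩
  refine isClass_of_orbit h.set rfl h.closed ha fun x hx => ?_
  set X : ↥(Subgroup.closure P) := ⟨x, Subgroup.subset_closure hx⟩
  obtain ⟨g', hg'⟩ := cls_exists_conj h.prim.cls
    (show (QuotientGroup.mk a : QG P) ∈ QD P from ⟨a, ha, rfl⟩) (show (QuotientGroup.mk X : QG P) ∈ QD P from ⟨X, hx, rfl⟩)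
  obtain ⟨g, rfl⟩ := QuotientGroup.mk_surjective g'
  refine ⟨g, g.2, ?_⟩
  set b := g * a * g⁻¹ with hb
  have hbP : (b : G) ∈ P := h.closed g g.2 a ha
  have hz : b⁻¹ * X ∈ Subgroup.center ↥(Subgroup.closure P) := QuotientGroup.eq.mp hg'
  by_contra hne
  have hne' : (b : G) ≠ x := hne
  have hb' : (b : G)⁻¹ = b := inv_self h.set hbP
  have hc : Commute (b : G) ((b : G)⁻¹ * x) := congrArg Subtype.val (Subgroup.mem_center_iff.mp hz b)
  have hbx : Commute (b : G) x := by
    have := (Commute.refl (b : G)).mul_right hc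
    rwa [mul_inv_cancel_left] at this
  refine h.ne_center hbP (Subgroup.mem_center_iff.mpr fun w => ?_)
  refine Subtype.ext ?_
  refine Subgroup.closure_induction (p := fun w _ => w * (b : G) = (b : G) * w) ?_ (by simp) ?_ ?_ w.2
  · intro y hy
    have h1 : Commute y ((b : G)⁻¹ * x) :=
      congrArg Subtype.val (Subgroup.mem_center_iff.mp hz ⟨y, Subgroup.subset_closure hy⟩)
    rw [hb'] at h1
    exact ((commute_mul_iff h.set hbP hx hy hne' hbx).mp h1).1.eq
  · exact fun x y _ _ h1 h2 => ((show Commute x (b : G) from h1).mul_left h2).eq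
  · exact fun x _ h1 => (show Commute x (b : G) from h1).inv_left.eq

/-- The image modulo the centre: injective and reflecting commutation. -/
theorem Sub.quot (h : Sub P K) :
    Set.InjOn (QuotientGroup.mk : ↥(Subgroup.closure P) → QG P) {x : ↥(Subgroup.closure P) | (x : G) ∈ P} ∧
      ∀ a b : ↥(Subgroup.closure P), (a : G) ∈ P → (b : G) ∈ P → Commute (a : QG P) b → Commute a b := by
  have hcls := h.cls
  obtain ⟨-, hinj, hrefl, -⟩ := class_quot hcls (by
    obtain ⟨_, ⟨a, ha, rfl⟩, _, ⟨b, hb, rfl⟩, hab, -⟩ := h.prim.pair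
    exact ⟨a, ha, b, hb, fun e => hab (by rw [e])⟩) h.two h.three
  exact ⟨hinj, fun a b ha hb => hrefl a ha b hb⟩

omit [Finite G] in
/-- A member of such a set has two different commuting partners in it. -/
theorem Sub.exists_pair (h : Sub P K) : ∃ a ∈ P, ∃ b ∈ P, a ≠ b := by
  obtain ⟨_, ⟨a, ha, rfl⟩, _, ⟨b, hb, rfl⟩, hab, -⟩ := h.prim.pair
  exact ⟨a, ha, b, hb, fun e => hab (by rw [Subtype.ext e])⟩

end

section
variable {G : Type u} [Group G] [Finite G] {Y : Type u} [Group Y] [Finite Y] {H : Subgroup G} (f : ↥H →* Y)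
  {P : Set G} {K : Kind → Prop}

omit [Finite G] [Finite Y] in
/-- A homomorphism injective on a closed set carries the group it generates modulo the centre isomorphically. -/
theorem qg_hom (hPH : P ⊆ H) (hinj : Set.InjOn f {x : ↥H | (x : G) ∈ P})
    (hcl : ∀ g ∈ Subgroup.closure P, ∀ x ∈ P, g * x * g⁻¹ ∈ P) :
    ∃ (ρ : ↥(Subgroup.closure P) →* ↥(Subgroup.closure (f '' {x : ↥H | (x : G) ∈ P})))
      (e : QG P ≃* QG (f '' {x : ↥H | (x : G) ∈ P})),
      Function.Surjective ρ ∧ (∀ (g : ↥(Subgroup.closure P)) (hg : (g : G) ∈ H), (ρ g : Y) = f ⟨g, hg⟩) ∧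
      (∀ g, e (QuotientGroup.mk g) = QuotientGroup.mk (ρ g)) ∧ e '' QD P = QD (f '' {x : ↥H | (x : G) ∈ P}) := by
  set T := f '' {x : ↥H | (x : G) ∈ P} with hTdef
  have hle : Subgroup.closure P ≤ H := (Subgroup.closure_le _).mpr hPH
  let φ : ↥(Subgroup.closure P) →* Y := f.comp (Subgroup.inclusion hle)
  have hrange : φ.range = Subgroup.closure T := by
    rw [MonoidHom.range_eq_map, ← Subgroup.closure_closure_coe_preimage, MonoidHom.map_closure]
    congr 1
    ext y
    constructor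
    · rintro ⟨x, hx, rfl⟩; exact ⟨Subgroup.inclusion hle x, hx, rfl⟩
    · rintro ⟨x, hx, rfl⟩; exact ⟨⟨x, Subgroup.subset_closure hx⟩, hx, rfl⟩
  let ρ : ↥(Subgroup.closure P) →* ↥(Subgroup.closure T) := φ.codRestrict _ fun g => hrange ▸ ⟨g, rfl⟩
  have hρ : Function.Surjective ρ := fun y => by
    obtain ⟨g, hg⟩ : (y : Y) ∈ φ.range := hrange.symm ▸ y.2
    exact ⟨g, Subtype.ext hg⟩
  have hcen : ∀ g, ρ g ∈ Subgroup.center ↥(Subgroup.closure T) ↔ g ∈ Subgroup.center ↥(Subgroup.closure P) := by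
    intro g
    constructor
    · intro hz
      refine Subgroup.mem_center_iff.mpr fun w => Subtype.ext ?_
      refine Subgroup.closure_induction (p := fun w _ => w * (g : G) = (g : G) * w) ?_ (by simp) ?_ ?_ w.2
      · intro a ha
        set A : ↥(Subgroup.closure P) := ⟨a, Subgroup.subset_closure ha⟩
        have hga : (g : G) * a * (g : G)⁻¹ ∈ P := hcl g g.2 a ha
        have h1 : φ (g * A * g⁻¹) = φ A := by
          have := congrArg Subtype.val (Subgroup.mem_center_iff.mp hz (ρ A))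
          change φ A * φ g = φ g * φ A at this
          rw [map_mul, map_mul, map_inv, ← this, mul_inv_cancel_right]
        have h2 : (g : G) * a * (g : G)⁻¹ = a :=
          congrArg Subtype.val (hinj (x₁ := Subgroup.inclusion hle (g * A * g⁻¹)) (x₂ := Subgroup.inclusion hle A)
            hga ha h1)
        exact (mul_inv_eq_iff_eq_mul.mp h2).symm
      · exact fun x y _ _ h1 h2 => ((show Commute x (g : G) from h1).mul_left h2).eq
      · exact fun x _ h1 => (show Commute x (g : G) from h1).inv_left.eq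
    · intro hz
      refine Subgroup.mem_center_iff.mpr fun y => ?_
      obtain ⟨x, rfl⟩ := hρ y
      rw [← map_mul, ← map_mul, Subgroup.mem_center_iff.mp hz x]
  let ψ : ↥(Subgroup.closure P) →* QG T := (QuotientGroup.mk' _).comp ρ
  have hψ : Function.Surjective ψ := (QuotientGroup.mk'_surjective _).comp hρ
  have hker : Subgroup.center ↥(Subgroup.closure P) = ψ.ker := by
    ext g
    rw [MonoidHom.mem_ker, ← hcen]
    exact (QuotientGroup.eq_one_iff (ρ g)).symm
  let e := (QuotientGroup.quotientMulEquivOfEq hker).trans (QuotientGroup.quotientKerEquivOfSurjective ψ hψ)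
  have he : ∀ g, e (QuotientGroup.mk g) = QuotientGroup.mk (ρ g) := fun g => rfl
  refine ⟨ρ, e, hρ, fun g hg => rfl, he, Set.ext fun q => ⟨?_, ?_⟩⟩
  · rintro ⟨_, ⟨x, hx, rfl⟩, rfl⟩
    exact ⟨ρ x, ⟨Subgroup.inclusion hle x, hx, rfl⟩, (he x).symm⟩
  · rintro ⟨y, ⟨x, hx, hxy⟩, rfl⟩
    refine ⟨_, ⟨⟨x, Subgroup.subset_closure hx⟩, hx, rfl⟩, (he _).trans (congrArg _ (Subtype.ext ?_))⟩
    exact hxy

/-- Such sets come back along a homomorphism injective on them. -/
theorem Sub.of_image (hPH : P ⊆ H) (hinj : Set.InjOn f {x : ↥H | (x : G) ∈ P}) (hset : IsThreeTranspositionSet P)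
    (hcl : ∀ g ∈ Subgroup.closure P, ∀ x ∈ P, g * x * g⁻¹ ∈ P) {T : Set Y}
    (hT : f '' {x : ↥H | (x : G) ∈ P} = T) (h : Sub T K) : Sub P K := by
  subst hT
  obtain ⟨ρ, e, -, -, -, he⟩ := qg_hom f hPH hinj hcl
  have he' : e.symm '' QD (f '' {x : ↥H | (x : G) ∈ P}) = QD P := by
    rw [← he, Set.image_image]; simp
  obtain ⟨k, hk, hh⟩ := h.has
  exact ⟨hset, hcl, prim_map e.symm he' h.prim, k, hk, has_map e.symm he' hh⟩

/-- Such sets go along a homomorphism injective on them. -/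
theorem Sub.image (hPH : P ⊆ H) (hinj : Set.InjOn f {x : ↥H | (x : G) ∈ P}) (h : Sub P K) :
    Sub (f '' {x : ↥H | (x : G) ∈ P}) K := by
  obtain ⟨ρ, e, hρ, hρf, hek, he⟩ := qg_hom f hPH hinj h.closed
  obtain ⟨k, hk, hh⟩ := h.has
  refine ⟨⟨?_, ?_⟩, ?_, prim_map e he h.prim, k, hk, has_map e he hh⟩
  · rintro _ ⟨x, hx, rfl⟩
    refine orderOf_eq_prime ?_ fun h1 => ?_
    · rw [← map_pow, show x ^ 2 = 1 from Subtype.ext (by
        rw [pow_two]; exact mul_self h.set hx), map_one]
    · refine h.ne_center (a := ⟨x, Subgroup.subset_closure hx⟩) hx ((QuotientGroup.eq_one_iff _).mp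
        (e.injective ?_))
      rw [hek, map_one]
      exact (QuotientGroup.eq_one_iff _).mpr (by
        rw [show ρ ⟨x, Subgroup.subset_closure hx⟩ = 1 from Subtype.ext ((hρf _ x.2).trans h1)]
        exact one_mem _)
  · rintro _ ⟨x, hx, rfl⟩ _ ⟨y, hy, rfl⟩
    rw [← map_mul, ← map_pow, ← map_pow]
    rcases h.set.2 _ hx _ hy with e' | e'
    · exact Or.inl (by rw [show (x * y) ^ 2 = 1 from Subtype.ext e', map_one])
    · exact Or.inr (by rw [show (x * y) ^ 3 = 1 from Subtype.ext e', map_one])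
  · rintro g hg _ ⟨x, hx, rfl⟩
    obtain ⟨k, hk'⟩ := hρ ⟨g, hg⟩
    have hle : Subgroup.closure P ≤ H := (Subgroup.closure_le _).mpr hPH
    have hg' : g = f ⟨k, hle k.2⟩ := by
      rw [← hρf k (hle k.2), hk']
    refine ⟨⟨k, hle k.2⟩ * x * ⟨k, hle k.2⟩⁻¹, h.closed k k.2 x hx, ?_⟩
    rw [hg', map_mul, map_mul, map_inv]

end

/-- Such sets are moved by conjugation. -/
theorem Sub.cj {G : Type u} [Group G] [Finite G] {P : Set G} {K : Kind → Prop} (h : Sub P K) (g : G) :
    Sub ((fun x => g * x * g⁻¹) '' P) K := by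
  have := h.image ((MulAut.conj g).toMonoidHom.comp (⊤ : Subgroup G).subtype) (Set.subset_univ _)
    fun a _ b _ e => Subtype.ext (cj_injective g e)
  convert this using 1
  ext y
  constructor
  · rintro ⟨x, hx, rfl⟩; exact ⟨⟨x, trivial⟩, hx, rfl⟩
  · rintro ⟨x, hx, rfl⟩; exact ⟨x, hx, rfl⟩

end CfsgFischer
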