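/-
A component of the commuting graph on the common partners of two noncommuting members: it generates a primitive
group modulo the centre, whose kind comes from the kind of its local groups.
-/
import Cfsg.Agent.Lib.Fischer.Sub
import Cfsg.Agent.Lib.Fischer.LocalCoord

set_option autoImplicit false

namespace CfsgFischer

open Cfsg CfsgLib CfsgThreeTrans

universe u

variable {G : Type u} [Group G] [Finite G]

/-- The number of members is that of their images. -/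
theorem Sub.ncard {P : Set G} {K : Kind → Prop} (h : Sub P K) : (QD P).ncard = P.ncard := by
  rw [h.quot.1.ncard_image]
  calc {x : ↥(Subgroup.closure P) | (x : G) ∈ P}.ncard
      = ((fun x : ↥(Subgroup.closure P) => (x : G)) '' {x | (x : G) ∈ P}).ncard :=
        (Set.ncard_image_of_injective _ Subtype.val_injective).symm
    _ = P.ncard := by
        congr 1
        ext y
        exact ⟨fun ⟨x, hx, e⟩ => e ▸ hx, fun hy => ⟨⟨y, Subgroup.subset_closure hy⟩, hy, rfl⟩⟩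

/-- A member has a commuting partner in the same set. -/
theorem Sub.partner {P : Set G} {K : Kind → Prop} (h : Sub P K) {w : G} (hw : w ∈ P) :
    ∃ z ∈ P, z ≠ w ∧ Commute w z := by
  set W : ↥(Subgroup.closure P) := ⟨w, Subgroup.subset_closure hw⟩
  obtain ⟨_, ⟨⟨z, hz, rfl⟩, hne, hc⟩⟩ := exists_partner h.prim.cls h.prim.pair
    (show (QuotientGroup.mk W : QG P) ∈ QD P from ⟨W, hw, rfl⟩)
  exact ⟨z, hz, fun e => hne (congrArg _ (Subtype.ext e)),
    congrArg Subtype.val (h.quot.2 W z hw hz hc).eq⟩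

/-- Members with the same commuting partners in the set are equal. -/
theorem Sub.twins {P : Set G} {K : Kind → Prop} (h : Sub P K) {a b : G} (ha : a ∈ P) (hb : b ∈ P)
    (he : ∀ z ∈ P, (z ≠ a ∧ Commute a z) ↔ (z ≠ b ∧ Commute b z)) : a = b := by
  obtain ⟨hinj, hrefl⟩ := h.quot
  set A : ↥(Subgroup.closure P) := ⟨a, Subgroup.subset_closure ha⟩
  set B : ↥(Subgroup.closure P) := ⟨b, Subgroup.subset_closure hb⟩
  have hmem : ∀ (x : ↥(Subgroup.closure P)), (x : G) ∈ P → ∀ Z : ↥(Subgroup.closure P), (Z : G) ∈ P →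
      (((Z : QG P) ≠ (x : QG P) ∧ Commute (x : QG P) Z) ↔ ((Z : G) ≠ x ∧ Commute (x : G) Z)) := by
    intro x hx Z hZ
    refine ⟨fun hh => ⟨fun e => hh.1 (congrArg _ (Subtype.ext e)), congrArg Subtype.val (hrefl x Z hx hZ hh.2).eq⟩,
      fun hh => ⟨fun e => hh.1 (congrArg Subtype.val (hinj hZ hx e)), ?_⟩⟩
    exact (show Commute x Z from Subtype.ext hh.2.eq).map (QuotientGroup.mk' (Subgroup.center ↥(Subgroup.closure P)))
  have hW : (B : QG P) ∈ Ws (QD P) (A : QG P) := by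
    refine ⟨⟨B, hb, rfl⟩, Set.ext fun q => ⟨?_, ?_⟩⟩
    · rintro ⟨⟨Z, hZ, rfl⟩, h1, h2⟩
      exact ⟨⟨Z, hZ, rfl⟩, (hmem B hb Z hZ).mpr ((he Z hZ).mp ((hmem A ha Z hZ).mp ⟨h1, h2⟩))⟩
    · rintro ⟨⟨Z, hZ, rfl⟩, h1, h2⟩
      exact ⟨⟨Z, hZ, rfl⟩, (hmem A ha Z hZ).mpr ((he Z hZ).mpr ((hmem B hb Z hZ).mp ⟨h1, h2⟩))⟩
  rw [Ws_trivial h.prim.cls h.prim.prim h.prim.pair ⟨A, ha, rfl⟩, Set.mem_singleton_iff] at hW
  exact (congrArg Subtype.val (hinj hb ha hW)).symm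

variable {S : Set G}

/-- Joined by a path of commuting members of the set. -/
abbrev Conn (S : Set G) (x y : G) : Prop :=
  Relation.ReflTransGen (fun p q => p ∈ S ∧ q ∈ S ∧ Commute p q) x y

/-- **The component.** -/
theorem component {K K' : Kind → Prop} (hS : IsThreeTranspositionSet S)
    (hScl : ∀ x ∈ S, ∀ y ∈ S, y * x * y⁻¹ ∈ S) (hP : ∀ x ∈ S, Sub (Ds S x) K)
    (hstep : ∀ (X : Type u) [Group X] [Finite X] (E : Set X), Prim E → ∀ e ∈ E, CoresCentral E e →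
      (∃ k, K k ∧ Has (QG (Ds E e)) (QD (Ds E e)) k) → ∃ k, K' k ∧ Has X E k)
    {x₀ : G} (hx₀ : x₀ ∈ S) : ∃ X ⊆ S, x₀ ∈ X ∧ Sub X K' := by
  classical
  haveI : Fact (Nat.Prime 3) := ⟨Nat.prime_three⟩
  set X := {y | Conn S x₀ y} with hX
  have hXS : X ⊆ S := fun y hy => by
    rcases Relation.ReflTransGen.cases_tail hy with e | ⟨b, -, hb⟩
    · exact e ▸ hx₀
    · exact hb.2.1
  have hx₀X : x₀ ∈ X := Relation.ReflTransGen.refl
  have hstp : ∀ {y z}, y ∈ X → z ∈ S → Commute y z → z ∈ X := fun hy hz h =>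
    hy.tail ⟨hXS hy, hz, h⟩
  have hPX : ∀ {y}, y ∈ X → Ds S y ⊆ X := fun hy z hz => hstp hy hz.1 hz.2.2
  have hsymm : ∀ {a b}, Conn S a b → Conn S b a := fun h => by
    induction h with
    | refl => exact Relation.ReflTransGen.refl
    | tail _ hst ih => exact Relation.ReflTransGen.head ⟨hst.2.1, hst.1, hst.2.2.symm⟩ ih
  have hXcl : ∀ g ∈ X, ∀ y ∈ X, g * y * g⁻¹ ∈ X := by
    intro g hg y hy
    have hgy : Conn S g y := (hsymm hg).trans hy
    have h1 : Conn S (g * g * g⁻¹) (g * y * g⁻¹) :=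
      Relation.ReflTransGen.lift (fun z => g * z * g⁻¹)
        (fun p q h => ⟨hScl p h.1 g (hXS hg), hScl q h.2.1 g (hXS hg), (commute_cj_iff g).mpr h.2.2⟩) _ _ hgy
    rw [mul_inv_cancel_right] at h1
    exact Relation.ReflTransGen.trans hg h1
  set H := Subgroup.closure X with hH
  have hclH : ∀ g ∈ H, ∀ y ∈ X, g * y * g⁻¹ ∈ X := by
    intro g hg
    refine Subgroup.closure_induction'' (p := fun g _ => ∀ y ∈ X, g * y * g⁻¹ ∈ X) ?_ ?_ ?_ ?_ hg
    · exact hXcl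
    · intro s hs y hy; rw [inv_self hS (hXS hs)]; exact hXcl s hs y hy
    · intro y hy; simpa using hy
    · intro a b _ _ ha hb y hy; rw [← cj_cj]; exact ha _ (hb y hy)
  -- commuting members are conjugate in the group generated
  have hadj : ∀ y ∈ X, ∀ w ∈ X, Commute y w → ∃ g ∈ H, g * y * g⁻¹ = w := by
    intro y hy w hw hc
    by_cases hyw : y = w
    · exact ⟨1, one_mem _, by simp [hyw]⟩
    have hwP : w ∈ Ds S y := ⟨hXS hw, fun e => hyw e.symm, hc⟩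
    obtain ⟨z, hz, hzw, hcz⟩ := (hP y (hXS hy)).partner hwP
    have hzX := hPX hy hz
    have hy' : y ∈ Ds S z := ⟨hXS hy, fun e => hz.2.1 e.symm, hz.2.2.symm⟩
    have hw' : w ∈ Ds S z := ⟨hXS hw, fun e => hzw e.symm, hcz.symm⟩
    obtain ⟨g, hg⟩ := cls_exists_conj (hP z (hXS hzX)).cls
      (show (⟨y, Subgroup.subset_closure hy'⟩ : ↥(Subgroup.closure (Ds S z))) ∈
        {x : ↥(Subgroup.closure (Ds S z)) | (x : G) ∈ Ds S z} from hy')
      (show (⟨w, Subgroup.subset_closure hw'⟩ : ↥(Subgroup.closure (Ds S z))) ∈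
        {x : ↥(Subgroup.closure (Ds S z)) | (x : G) ∈ Ds S z} from hw')
    exact ⟨g, Subgroup.closure_mono (hPX hzX) g.2, congrArg Subtype.val hg⟩
  have htr : ∀ y ∈ X, ∃ g ∈ H, g * x₀ * g⁻¹ = y := by
    suffices ∀ y, Conn S x₀ y → ∃ g ∈ H, g * x₀ * g⁻¹ = y from this
    intro y hy
    induction hy with
    | refl => exact ⟨1, one_mem _, by simp⟩
    | @tail p q hp hpq ih =>
      obtain ⟨g, hg, rfl⟩ := ih
      obtain ⟨k, hk, hk'⟩ := hadj _ hp q (hp.tail hpq) hpq.2.2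
      exact ⟨k * g, mul_mem hk hg, by rw [← hk', cj_cj]⟩
  have hXset : IsThreeTranspositionSet X :=
    ⟨fun a ha => hS.1 a (hXS ha), fun a ha b hb => hS.2 a (hXS ha) b (hXS hb)⟩
  set E : Set ↥H := {x | (x : G) ∈ X} with hE
  have hcls : IsThreeTranspositionClass E := isClass_of_orbit hXset rfl hclH hx₀X htr
  set X₀ : ↥H := ⟨x₀, Subgroup.subset_closure hx₀X⟩
  -- the local sets inside
  have hDsE : ∀ (y : G) (hy : y ∈ X), (fun x : ↥H => (x : G)) '' Ds E ⟨y, Subgroup.subset_closure hy⟩ = Ds S y := by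
    intro y hy
    ext z
    constructor
    · rintro ⟨w, ⟨hw, hne, hc⟩, rfl⟩
      exact ⟨hXS hw, fun e => hne (Subtype.ext e), congrArg Subtype.val hc.eq⟩
    · intro hz
      refine ⟨⟨z, Subgroup.subset_closure (hPX hy hz)⟩, ⟨hPX hy hz, fun e => hz.2.1 (congrArg Subtype.val e), ?_⟩, rfl⟩
      exact Subtype.ext hz.2.2.eq
  have hsubE : ∀ (y : G) (hy : y ∈ X), Sub (Ds E ⟨y, Subgroup.subset_closure hy⟩) K := by
    intro y hy
    refine Sub.of_image (H := (⊤ : Subgroup ↥H)) (H.subtype.comp (⊤ : Subgroup ↥H).subtype) (Set.subset_univ _)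
      (fun a _ b _ e => Subtype.ext (Subtype.ext e)) ?_ ?_ ?_ (hP y (hXS hy))
    · exact ⟨fun a ha => hcls.1.1 a ha.1, fun a ha b hb => hcls.1.2 a ha.1 b hb.1⟩
    · intro g hg x hx
      exact Ds_closed hcls (closure_Ds_commute hg) hx
    · rw [← hDsE y hy]
      ext z
      constructor
      · rintro ⟨x, hx, rfl⟩; exact ⟨x, hx, rfl⟩
      · rintro ⟨x, hx, rfl⟩; exact ⟨⟨x, trivial⟩, hx, rfl⟩
  have hsub₀ := hsubE x₀ hx₀X
  -- the cores
  have hna : ∃ e ∈ Ds E X₀, ∃ f ∈ Ds E X₀, ¬ Commute e f := by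
    obtain ⟨a, ha, b, hb, hab⟩ := hsub₀.exists_pair
    by_contra hno
    push Not at hno
    refine hsub₀.ne_center (a := ⟨a, Subgroup.subset_closure ha⟩) ha (mem_center_of_commute_cls hsub₀.cls ?_)
    exact fun w hw => Subtype.ext (hno a ha w hw).eq
  have h2 : pCore 2 ↥H ≤ Subgroup.center ↥H := core_two_of_partners hcls (d := X₀) hx₀X hsub₀.two hna
  have h3 : pCore 3 ↥H ≤ Subgroup.center ↥H := by
    by_contra hnc
    obtain ⟨g, hg, hne⟩ := moved_of_core hcls hnc (d := X₀) hx₀X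
    have hW : g * X₀ * g⁻¹ ∈ Ws E X₀ := by rw [Ws_eq_orbit hcls (show X₀ ∈ E from hx₀X)]; exact ⟨g, hg, rfl⟩
    set Y := g * X₀ * g⁻¹
    obtain ⟨w, hw⟩ : (Ds E X₀).Nonempty := let ⟨a, ha, _⟩ := hna; ⟨a, ha⟩
    have hYw : (Y : G) ∈ Ds S (w : G) := by
      have h := (Set.ext_iff.mp hW.2 w).mp hw
      exact ⟨hXS hW.1, fun e => h.2.1 (Subtype.ext e.symm), congrArg Subtype.val h.2.2.symm.eq⟩
    have hXw : x₀ ∈ Ds S (w : G) :=
      ⟨hx₀, fun e => hw.2.1 (Subtype.ext e.symm), congrArg Subtype.val hw.2.2.symm.eq⟩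
    refine hne (Subtype.ext ((hP _ (hXS hw.1)).twins hYw hXw fun z hz => ?_))
    have hzX : z ∈ X := hPX hw.1 hz
    set Z : ↥H := ⟨z, Subgroup.subset_closure hzX⟩
    have key : ∀ {A : ↥H}, (z ≠ (A : G) ∧ Commute (A : G) z) ↔ (Z ∈ Ds E A) := fun {A} =>
      ⟨fun h => ⟨hzX, fun e => h.1 (congrArg Subtype.val e), Subtype.ext h.2.eq⟩,
        fun h => ⟨fun e => h.2.1 (Subtype.ext e), congrArg Subtype.val h.2.2.eq⟩⟩
    rw [key]
    show _ ↔ (z ≠ (X₀ : G) ∧ Commute (X₀ : G) z)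
    rw [key]
    exact (Set.ext_iff.mp hW.2 Z).symm
  have hE2 : ∃ a ∈ E, ∃ b ∈ E, a ≠ b := by
    obtain ⟨a, ha, -⟩ := hna
    exact ⟨a, ha.1, X₀, hx₀X, ha.2.1⟩
  obtain ⟨hqcls, hinj, hrefl, hZ, c2, c3⟩ := class_quot hcls hE2 h2 h3
  have hpair : ∃ a ∈ QD X, ∃ b ∈ QD X, a ≠ b ∧ Commute a b :=
    pair_of_cores hqcls (by
      obtain ⟨a, ha, b, hb, hab⟩ := hE2
      exact ⟨_, ⟨a, ha, rfl⟩, _, ⟨b, hb, rfl⟩, fun e => hab (hinj ha hb e)⟩) (c3 ▸ bot_le)
  have hconn : (commutingGraph (QD X)).Connected := by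
    haveI : Nonempty (QD X) := ⟨⟨_, ⟨X₀, hx₀X, rfl⟩⟩⟩
    suffices hh : ∀ y, Conn S x₀ y → ∀ w : ↥H, ∀ hw : (w : G) ∈ X, (w : G) = y →
        (commutingGraph (QD X)).Reachable ⟨_, X₀, hx₀X, rfl⟩ ⟨_, w, hw, rfl⟩ by
      refine ⟨fun u v => ?_⟩
      obtain ⟨_, a, ha, rfl⟩ := u
      obtain ⟨_, b, hb, rfl⟩ := v
      exact (hh _ ha a ha rfl).symm.trans (hh _ hb b hb rfl)
    intro y hy
    induction hy with
    | refl =>
      intro w hw e
      obtain rfl : w = X₀ := Subtype.ext e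
      exact SimpleGraph.Reachable.refl _
    | @tail p q hp hpq ih =>
      intro w hw e
      subst e
      have h1 := ih ⟨p, Subgroup.subset_closure hp⟩ hp rfl
      by_cases hpw : (⟨p, Subgroup.subset_closure hp⟩ : ↥H) = w
      · subst hpw; exact h1
      refine h1.trans (SimpleGraph.Adj.reachable ((SimpleGraph.fromRel_adj _ _ _).mpr ⟨?_, Or.inl ?_⟩))
      · exact fun h => hpw (hinj hp hw (congrArg Subtype.val h))
      · exact (show Commute (⟨p, Subgroup.subset_closure hp⟩ : ↥H) w from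
          Subtype.ext hpq.2.2.eq).map (QuotientGroup.mk' (Subgroup.center ↥H))
  have hprim : Prim (QD X) := ⟨⟨hqcls, hZ, c2, c3, hpair⟩, (equivalences hqcls hZ hpair).2.mpr ⟨c2, c3, hconn⟩⟩
  -- the local group at the image
  have himg : Sub (Ds (QD X) (QuotientGroup.mk X₀)) K := by
    have hPH : Ds E X₀ ⊆ ((⊤ : Subgroup ↥H) : Set ↥H) := Set.subset_univ _
    have hinj' : Set.InjOn ((QuotientGroup.mk' (Subgroup.center ↥H)).comp (⊤ : Subgroup ↥H).subtype)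
        {x | (x : ↥H) ∈ Ds E X₀} := fun a ha b hb e => Subtype.ext (hinj ha.1 hb.1 e)
    convert hsub₀.image ((QuotientGroup.mk' (Subgroup.center ↥H)).comp (⊤ : Subgroup ↥H).subtype) hPH hinj' using 1
    ext q
    constructor
    · rintro ⟨⟨w, hw, rfl⟩, hne, hc⟩
      exact ⟨⟨w, trivial⟩, ⟨hw, fun e => hne (congrArg _ e), hrefl X₀ hx₀X w hw hc⟩, rfl⟩
    · rintro ⟨⟨w, hwT⟩, hw, rfl⟩
      exact ⟨⟨w, hw.1, rfl⟩, fun e => hw.2.1 (hinj hw.1 (show X₀ ∈ E from hx₀X) e),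
        hw.2.2.map (QuotientGroup.mk' (Subgroup.center ↥H))⟩
  obtain ⟨k, hk, hh⟩ := hstep _ _ hprim _ ⟨X₀, hx₀X, rfl⟩ ⟨himg.three, himg.two⟩ himg.has
  exact ⟨X, hXS, hx₀X, hXset, hclH, hprim, k, hk, hh⟩

end CfsgFischer
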