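/-
Counting partners in the local class modulo the centre.
-/
import Cfsg.Agent.Lib.Fischer.LocalGood

set_option autoImplicit false

namespace CfsgFischer

open Cfsg CfsgLib CfsgThreeTrans

universe u

variable {G : Type u} [Group G] [Finite G] {D : Set G}

/-- The image of a member in the local group modulo its centre (the identity elsewhere). -/
noncomputable def lbar (D : Set G) (d : G) (x : G) : QG (Ds D d) :=
  open Classical in
  if hx : x ∈ Subgroup.closure (Ds D d) then QuotientGroup.mk ⟨x, hx⟩ else 1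

omit [Finite G] in
theorem lbar_eq {d : G} (x : ↥(Subgroup.closure (Ds D d))) : lbar D d x = QuotientGroup.mk x := by
  rw [lbar, dif_pos x.2]

section
variable {d : G} (hP : Prim D) (hd : d ∈ D) (hc : CoresCentral D d)
include hP hd hc

theorem lbar_inj : Set.InjOn (lbar D d) (Ds D d) := by
  intro x hx y hy e
  obtain ⟨-, hinj, -⟩ := class_quot (local_class hP hd) (local_two hP hd) hc.2 hc.1
  exact congrArg Subtype.val (hinj (x₁ := ⟨x, Subgroup.subset_closure hx⟩) (x₂ := ⟨y, Subgroup.subset_closure hy⟩)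
    hx hy (by rw [← lbar_eq, ← lbar_eq]; exact e))

theorem lbar_commute {x y : G} (hx : x ∈ Ds D d) (hy : y ∈ Ds D d) :
    Commute (lbar D d x) (lbar D d y) ↔ Commute x y := by
  obtain ⟨-, -, hrefl, -⟩ := class_quot (local_class hP hd) (local_two hP hd) hc.2 hc.1
  rw [lbar_eq (⟨x, Subgroup.subset_closure hx⟩ : ↥(Subgroup.closure (Ds D d))),
    lbar_eq (⟨y, Subgroup.subset_closure hy⟩ : ↥(Subgroup.closure (Ds D d)))]
  exact ⟨fun h => congrArg Subtype.val
      (hrefl ⟨x, Subgroup.subset_closure hx⟩ hx ⟨y, Subgroup.subset_closure hy⟩ hy h).eq,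
    fun h => Commute.map (show Commute (⟨x, Subgroup.subset_closure hx⟩ : ↥(Subgroup.closure (Ds D d)))
      ⟨y, Subgroup.subset_closure hy⟩ from Subtype.ext h.eq) (QuotientGroup.mk' _)⟩

omit [Finite G] hP hd hc in
theorem lbar_image : lbar D d '' Ds D d = QD (Ds D d) := by
  ext q
  constructor
  · rintro ⟨x, hx, rfl⟩
    exact ⟨⟨x, Subgroup.subset_closure hx⟩, hx, (lbar_eq _).symm⟩
  · rintro ⟨x, hx, rfl⟩
    exact ⟨x, hx, lbar_eq x⟩

theorem lbar_Ds {a : G} (ha : a ∈ Ds D d) :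
    lbar D d '' (Ds D d ∩ Ds D a) = Ds (QD (Ds D d)) (lbar D d a) := by
  ext q
  constructor
  · rintro ⟨x, ⟨hx, hxa⟩, rfl⟩
    exact ⟨(lbar_image (D := D) (d := d)).subset ⟨x, hx, rfl⟩, fun e => hxa.2.1 (lbar_inj hP hd hc hx ha e),
      (lbar_commute hP hd hc ha hx).mpr hxa.2.2⟩
  · rintro ⟨hq, hne, hq'⟩
    obtain ⟨x, hx, rfl⟩ : q ∈ lbar D d '' Ds D d := (lbar_image (D := D) (d := d)).symm ▸ hq
    exact ⟨x, ⟨hx, hx.1, fun e => hne (by rw [e]), (lbar_commute hP hd hc ha hx).mp hq'⟩, rfl⟩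

theorem card_local : (Ds D d).ncard = (QD (Ds D d)).ncard := by
  rw [← lbar_image, (lbar_inj hP hd hc).ncard_image]

theorem card_perp {a : G} (ha : a ∈ Ds D d) :
    (Ds D d ∩ Ds D a).ncard = (Ds (QD (Ds D d)) (lbar D d a)).ncard := by
  rw [← lbar_Ds hP hd hc ha, ((lbar_inj hP hd hc).mono Set.inter_subset_left).ncard_image]

theorem card_two {a b : G} (ha : a ∈ Ds D d) (hb : b ∈ Ds D d) :
    (Ds D d ∩ Ds D a ∩ Ds D b).ncard =
      (Ds (QD (Ds D d)) (lbar D d a) ∩ Ds (QD (Ds D d)) (lbar D d b)).ncard := by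
  have e : lbar D d '' (Ds D d ∩ Ds D a ∩ Ds D b) =
      Ds (QD (Ds D d)) (lbar D d a) ∩ Ds (QD (Ds D d)) (lbar D d b) := by
    rw [← lbar_Ds hP hd hc ha, ← lbar_Ds hP hd hc hb,
      ← (lbar_inj hP hd hc).image_inter Set.inter_subset_left Set.inter_subset_left]
    congr 1
    ext x
    simp only [Set.mem_inter_iff]
    tauto
  rw [← e, ((lbar_inj hP hd hc).mono (Set.inter_subset_left.trans Set.inter_subset_left :
    Ds D d ∩ Ds D a ∩ Ds D b ⊆ Ds D d)).ncard_image]

end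

omit [Finite G] in
/-- Counts at one member hold at every member. -/
theorem card_perp_all (hP : Prim D) {d : G} (hd : d ∈ D) {l : ℕ}
    (hl : ∀ a ∈ Ds D d, (Ds D d ∩ Ds D a).ncard = l) {a b : G} (ha : a ∈ D) (hb : b ∈ Ds D a) :
    (Ds D a ∩ Ds D b).ncard = l := by
  have hD := hP.cls
  obtain ⟨g, rfl⟩ := cls_exists_conj hD hd ha
  have hb' : g⁻¹ * b * g⁻¹⁻¹ ∈ Ds D d := by
    have h : g⁻¹ * b * g⁻¹⁻¹ ∈ (fun z => g⁻¹ * z * g⁻¹⁻¹) '' Ds D (g * d * g⁻¹) := ⟨b, hb, rfl⟩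
    rwa [cj_Ds hD, show g⁻¹ * (g * d * g⁻¹) * g⁻¹⁻¹ = d by group] at h
  rw [← cj_inv g b, ← cj_Ds hD, ← cj_Ds hD g (g⁻¹ * b * g⁻¹⁻¹), ← Set.image_inter (cj_injective g),
    Set.ncard_image_of_injective _ (cj_injective g), hl _ hb']

omit [Finite G] in
theorem card_partners_all (hP : Prim D) {d : G} (hd : d ∈ D) {a : G} (ha : a ∈ D) :
    (Ds D a).ncard = (Ds D d).ncard := by
  obtain ⟨g, rfl⟩ := cls_exists_conj hP.cls hd ha
  rw [← cj_Ds hP.cls, Set.ncard_image_of_injective _ (cj_injective g)]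

/-- Two different members have different partners, so the common partners of a far pair are fewer. -/
theorem far_card_lt (hP : Prim D) {a b : G} (ha : a ∈ D) (hb : b ∈ D) (hab : ¬ Commute a b) :
    (Ds D a ∩ Ds D b).ncard < (Ds D a).ncard := by
  refine lt_of_le_of_ne (Set.ncard_le_ncard Set.inter_subset_left (Set.toFinite _)) fun e => ?_
  have h := Set.eq_of_subset_of_ncard_le Set.inter_subset_left e.symm.le (Set.toFinite (Ds D a))
  have h' : Ds D b = Ds D a :=
    (Set.eq_of_subset_of_ncard_le (Set.inter_eq_left.mp h) (card_partners_all hP ha hb).le (Set.toFinite _)).symm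
  have hb' : b ∈ Ws D a := ⟨hb, h'.symm⟩
  rw [Ws_trivial hP.cls hP.prim hP.pair ha, Set.mem_singleton_iff] at hb'
  exact hab (hb' ▸ Commute.refl _)

end CfsgFischer
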