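/-
The identifications of models used in the classification of classes of 3-transpositions.
-/
import Cfsg.Agent.Lib.Fischer.Models.MinusTwo
import Cfsg.Agent.Lib.Fischer.Models.UnitFour
import Cfsg.Agent.Lib.Fischer.Models.OrthSimple
import Cfsg.Agent.Lib.Fischer.Models.ReflSimple
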