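/-
The number of projective reflections of one norm in dimension six and discriminant one over three elements.
-/
import Cfsg.Agent.Lib.Fischer.Refl.Coord
import Cfsg.Agent.Lib.FiniteForms.Quad
import Cfsg.Agent.Lib.FiniteForms.Congr
import Cfsg.Agent.Lib.PolarVec

set_option autoImplicit false

namespace CfsgFischer.Refl

open Cfsg CfsgThreeTrans QuadraticMap CfsgReflClass Matrix

universe u

/-- In dimension six and discriminant one the form is the norm times a sum of squares. -/
theorem frame6 {Q : QuadraticForm K (V 6)} {c : K} (hQ : Cfsg.polarGramDet (⇑Q) = 1) (hc : c ≠ 0) :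
    ∃ P : Matrix (Fin 6) (Fin 6) K, P.det ≠ 0 ∧ ∀ v, Q (P *ᵥ v) = c * ∑ i, v i * v i := by
  set G : Matrix (Fin 6) (Fin 6) K := Matrix.of fun i j => polar (⇑Q) (Pi.single i 1) (Pi.single j 1) with hG
  have hs : G.IsSymm := Matrix.ext fun i j => QuadraticMap.polar_comm Q _ _
  have hH : (diagonal fun _ : Fin 6 => 2 * c).det = 1 := by
    rw [det_diagonal]
    exact (by decide +kernel : ∀ c : K, c ≠ 0 → ∏ _i : Fin 6, 2 * c = 1) c hc
  have hG1 : G.det = 1 := hQ
  obtain ⟨P, hP, hPG⟩ := (CfsgLib.FiniteForms.congr_iff (G := G) (H := diagonal fun _ => 2 * c)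
    (by decide) hs (diagonal_transpose _) (by rw [hG1]; exact one_ne_zero) (by rw [hH]; exact one_ne_zero)).mpr
    (by rw [hG1, hH, mul_one]; exact ⟨1, (one_mul 1).symm⟩)
  refine ⟨P, hP, fun v => ?_⟩
  have hpol : ∀ x y : V 6, polar (⇑Q) x y = x ⬝ᵥ (G *ᵥ y) := by
    intro x y
    rw [← QuadraticMap.polarBilin_apply_apply]
    conv_lhs => rw [pi_eq_sum_univ' x, pi_eq_sum_univ' y]
    simp only [map_sum, map_smul, LinearMap.coe_sum, Finset.sum_apply, LinearMap.smul_apply, smul_eq_mul,
      QuadraticMap.polarBilin_apply_apply, dotProduct, mulVec, hG, Matrix.of_apply]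
    simp only [Finset.mul_sum]
    rw [Finset.sum_comm]
    exact Finset.sum_congr rfl fun _ _ => Finset.sum_congr rfl fun _ _ => by ring
  have h2 : polar (⇑Q) (P *ᵥ v) (P *ᵥ v) = 2 * (c * ∑ i, v i * v i) := by
    rw [hpol, mulVec_mulVec, dotProduct_mulVec, vecMul_mulVec, ← dotProduct_mulVec, ← Matrix.mul_assoc, hPG]
    simp only [dotProduct, mulVec_diagonal, Finset.mul_sum]
    exact Finset.sum_congr rfl fun _ _ => by ring
  rw [CfsgLib.PolarVec.polar_self] at h2
  exact mul_left_cancel₀ (by decide) h2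

set_option maxRecDepth 100000 in
theorem count6 : (Finset.univ.filter fun w : Fin 6 → ZMod 3 => ∑ i, w i * w i = 1).card = 252 := by
  decide +kernel

theorem no_self_neg : ∀ a : ZMod 3, a = -a → a = 0 := by decide

/-- **The class of dimension six has 126 members.** -/
theorem refl_six {X : Type u} [Group X] {E : Set X} {c : K} (h : Has X E (.refl 6 1 c)) : E.ncard = 126 := by
  classical
  obtain ⟨hn, Q, hQn, hQ, hc, e, he⟩ := h
  obtain ⟨P, hP, hPv⟩ := frame6 hQ hc
  have hcc : c * 1 = c := mul_one c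
  have hval : ∀ w : V 6, ∑ i, w i * w i = 1 → Q (P *ᵥ w) = c := fun w hw => by rw [hPv, hw, mul_one]
  set R := Cfsg.reflectionSubgroup (⇑Q) c
  set Z := (QuotientGroup.mk : ↥R → ↥R ⧸ Subgroup.center ↥R) '' RSet Q c
  have hE : E.ncard = Z.ncard := by
    rw [← Set.ncard_image_of_injective E e.injective, he]
  set Ws := Finset.univ.filter fun w : Fin 6 → ZMod 3 => ∑ i, w i * w i = 1 with hWs
  choose! g hg hgv using fun (w : V 6) (hw : ∑ i, w i * w i = 1) => rset_of_vec hc (hval w hw)
  let φ : V 6 → ↥R ⧸ Subgroup.center ↥R := fun w => (g w : ↥R ⧸ Subgroup.center ↥R)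
  have himg : Z = ↑(Ws.image φ) := by
    ext z
    simp only [Finset.coe_image, Set.mem_image, Finset.mem_coe, hWs, Finset.mem_filter, Finset.mem_univ, true_and]
    constructor
    · rintro ⟨r, hr, rfl⟩
      obtain ⟨v, hv, hrv⟩ := rset_vec hc hr
      haveI := Matrix.invertibleOfIsUnitDet P (isUnit_iff_ne_zero.mpr hP)
      set w := ⅟P *ᵥ v
      have hw : P *ᵥ w = v := by rw [mulVec_mulVec, mul_invOf_self, one_mulVec]
      have hw1 : ∑ i, w i * w i = 1 := mul_left_cancel₀ hc (by rw [← hPv, hw, hv, mul_one])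
      refine ⟨w, hw1, congrArg _ (Subtype.ext ?_)⟩
      have := hgv w hw1
      rw [hw] at this
      exact this.unique hrv
    · rintro ⟨w, hw, rfl⟩
      exact ⟨g w, hg w hw, rfl⟩
  have hfib : ∀ z ∈ Ws.image φ, (Ws.filter fun w => φ w = z).card = 2 := by
    intro z hz
    obtain ⟨w, hw, rfl⟩ := Finset.mem_image.mp hz
    have hw1 : ∑ i, w i * w i = 1 := (Finset.mem_filter.mp hw).2
    have hneg : ∑ i, (-w) i * (-w) i = 1 := by simpa using hw1
    have heq : φ (-w) = φ w := by
      refine congrArg (QuotientGroup.mk : ↥R → ↥R ⧸ Subgroup.center ↥R) (Subtype.ext ((hgv (-w) hneg).unique (refl_of_pm (hgv w hw1) ?_)))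
      rw [mulVec_neg]
      exact PM.neg _
    have hne : w ≠ -w := fun e' => by
      have h0 : w = 0 := funext fun i => no_self_neg _ (congrFun e' i)
      rw [h0] at hw1
      simp at hw1
    rw [show Ws.filter (fun x => φ x = φ w) = {w, -w} from Finset.ext fun x => ?_, Finset.card_pair hne]
    simp only [Finset.mem_filter, hWs, Finset.mem_univ, true_and, Finset.mem_insert, Finset.mem_singleton]
    constructor
    · rintro ⟨hx, hxe⟩
      have hr := rset_mk_inj hQn hn hc (hg x hx) (hg w hw1) hxe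
      have hpm : PM (P *ᵥ w) (P *ᵥ x) :=
        pm_of_refl hc (hval x hx) (hval w hw1) (hgv x hx) (hr ▸ hgv w hw1)
      have hinj : Function.Injective P.mulVec := Matrix.mulVec_injective_of_isUnit
        ((Matrix.isUnit_iff_isUnit_det P).mpr (isUnit_iff_ne_zero.mpr hP))
      rcases hpm with h1 | h1
      · exact Or.inl (hinj h1).symm
      · rw [← mulVec_neg] at h1
        exact Or.inr (by rw [hinj h1, neg_neg])
    · rintro (rfl | rfl)
      · exact ⟨hw1, rfl⟩
      · exact ⟨hneg, heq⟩
  have hcard := Finset.card_eq_sum_card_image φ Ws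
  rw [Finset.sum_congr rfl hfib, Finset.sum_const, smul_eq_mul, count6] at hcard
  rw [hE, himg, Set.ncard_coe_finset]
  omega

end CfsgFischer.Refl
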