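/-
The common partners of a far pair, from what is known about the far pairs of the local group.
-/
import Cfsg.Agent.Lib.Fischer.Component
import Cfsg.Agent.Lib.Fischer.LocalCount

set_option autoImplicit false

namespace CfsgFischer

open Cfsg CfsgLib CfsgThreeTrans

universe u

variable {G : Type u} [Group G] [Finite G] {D : Set G}

omit [Finite G] in
/-- The partners of a member inside the common partners of two others. -/
theorem Ds_Sc {d c x : G} : Ds (Sc D d c) x = Ds D x ∩ Ds D d ∩ Ds D c := by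
  ext y
  constructor
  · rintro ⟨⟨h1, h2⟩, h3, h4⟩
    exact ⟨⟨⟨h1.1, h3, h4⟩, h1⟩, h2⟩
  · rintro ⟨⟨⟨-, h3, h4⟩, h1⟩, h2⟩
    exact ⟨⟨h1, h2⟩, h3, h4⟩

omit [Finite G] in
theorem sc_set (hD : IsThreeTranspositionClass D) {d c : G} : IsThreeTranspositionSet (Sc D d c) :=
  ⟨fun a ha => hD.1.1 a ha.1.1, fun a ha b hb => hD.1.2 a ha.1.1 b hb.1.1⟩

theorem sc_closed_group (hD : IsThreeTranspositionClass D) {d c : G} {g : G}
    (hg : g ∈ Subgroup.closure (Sc D d c)) {x : G} (hx : x ∈ Sc D d c) : g * x * g⁻¹ ∈ Sc D d c :=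
  ⟨Ds_closed hD (closure_Ds_commute (Subgroup.closure_mono Set.inter_subset_left hg)) hx.1,
    Ds_closed hD (closure_Ds_commute (Subgroup.closure_mono Set.inter_subset_right hg)) hx.2⟩

/-- Far pairs among the partners of any member, from the far pairs of one local group. -/
theorem pair_sub (hP : Prim D) {d : G} (hd : d ∈ D) (hc : CoresCentral D d) {K : Kind → Prop}
    (hloc : ∀ u ∈ QD (Ds D d), ∀ v ∈ QD (Ds D d), ¬ Commute u v → Sub (Pair (QD (Ds D d)) u v) K) {x a b : G}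
    (hx : x ∈ D) (ha : a ∈ Ds D x) (hb : b ∈ Ds D x) (hab : ¬ Commute a b) :
    Sub (Ds D x ∩ Ds D a ∩ Ds D b) K := by
  have hD := hP.cls
  obtain ⟨g, rfl⟩ := cls_exists_conj hD hd hx
  have back : ∀ y ∈ Ds D (g * d * g⁻¹), g⁻¹ * y * g⁻¹⁻¹ ∈ Ds D d := fun y hy => by
    have h : g⁻¹ * y * g⁻¹⁻¹ ∈ (fun z => g⁻¹ * z * g⁻¹⁻¹) '' Ds D (g * d * g⁻¹) := ⟨y, hy, rfl⟩
    rwa [cj_Ds hD, show g⁻¹ * (g * d * g⁻¹) * g⁻¹⁻¹ = d by group] at h
  have ha' := back a ha
  have hb' := back b hb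
  set a' := g⁻¹ * a * g⁻¹⁻¹
  set b' := g⁻¹ * b * g⁻¹⁻¹
  have hab' : ¬ Commute a' b' := fun h => hab ((commute_cj_iff g⁻¹).mp h)
  have key : Sub (Ds D d ∩ Ds D a' ∩ Ds D b') K := by
    have h0 := hloc _ ((lbar_image (D := D) (d := d)).subset ⟨a', ha', rfl⟩) _
      ((lbar_image (D := D) (d := d)).subset ⟨b', hb', rfl⟩) fun h => hab' ((lbar_commute hP hd hc ha' hb').mp h)
    refine Sub.of_image (H := Subgroup.closure (Ds D d)) (QuotientGroup.mk' _)
      (fun y hy => Subgroup.subset_closure hy.1.1) ?_ ⟨fun y hy => hD.1.1 y hy.1.1.1,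
        fun y hy z hz => hD.1.2 y hy.1.1.1 z hz.1.1.1⟩ ?_ ?_ h0
    · intro y hy z hz e
      refine Subtype.ext (lbar_inj hP hd hc hy.1.1 hz.1.1 ?_)
      rw [lbar_eq, lbar_eq]
      exact e
    · intro k hk y hy
      exact ⟨⟨Ds_closed hD (closure_Ds_commute (Subgroup.closure_mono (fun w hw => hw.1.1) hk)) hy.1.1,
        Ds_closed hD (closure_Ds_commute (Subgroup.closure_mono (fun w hw => hw.1.2) hk)) hy.1.2⟩,
        Ds_closed hD (closure_Ds_commute (Subgroup.closure_mono (fun w hw => hw.2) hk)) hy.2⟩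
    · have e : lbar D d '' (Ds D d ∩ Ds D a' ∩ Ds D b') =
          Pair (QD (Ds D d)) (lbar D d a') (lbar D d b') := by
        rw [Pair, ← lbar_Ds hP hd hc ha', ← lbar_Ds hP hd hc hb',
          ← (lbar_inj hP hd hc).image_inter Set.inter_subset_left Set.inter_subset_left]
        congr 1
        ext w
        simp only [Set.mem_inter_iff]
        tauto
      rw [← e]
      ext q
      constructor
      · rintro ⟨y, hy, rfl⟩; exact ⟨y, hy, lbar_eq y⟩
      · rintro ⟨y, hy, rfl⟩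
        exact ⟨⟨y, Subgroup.subset_closure hy.1.1⟩, hy, (lbar_eq _).symm⟩
  convert key.cj g using 1
  rw [Set.image_inter (cj_injective g), Set.image_inter (cj_injective g), cj_Ds hD, cj_Ds hD, cj_Ds hD, cj_inv,
    cj_inv]

/-- **Descent.** A component of the common partners of a far pair generates a group of a kind following that of
the far pairs of the local group. -/
theorem descend (hP : Prim D) {d : G} (hd : d ∈ D) (hc : CoresCentral D d) {K K' : Kind → Prop}
    (hloc : ∀ u ∈ QD (Ds D d), ∀ v ∈ QD (Ds D d), ¬ Commute u v → Sub (Pair (QD (Ds D d)) u v) K)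
    (hstep : ∀ (X : Type u) [Group X] [Finite X] (E : Set X), Prim E → ∀ e ∈ E, CoresCentral E e →
      (∃ k, K k ∧ Has (QG (Ds E e)) (QD (Ds E e)) k) → ∃ k, K' k ∧ Has X E k)
    {c x₀ : G} (hcD : c ∈ D) (hdc : ¬ Commute d c) (hx₀ : x₀ ∈ Sc D d c) :
    ∃ X ⊆ Sc D d c, x₀ ∈ X ∧ Sub X K' := by
  have hD := hP.cls
  refine component (sc_set hD) (fun x hx y hy => Sc_closed hD hx hy) (fun x hx => ?_) hstep hx₀
  rw [Ds_Sc]
  exact pair_sub hP hd hc hloc hx.1.1 (mem_both hd hx.1) (mem_both hcD hx.2) hdc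

/-- A set of common partners exhausted by a component is such a set itself. -/
theorem whole {d c : G} {X : Set G} {K : Kind → Prop} (hX : Sub X K) (hsub : X ⊆ Sc D d c)
    (h : (Sc D d c).ncard ≤ (QD X).ncard) : Sub (Sc D d c) K := by
  have e := Set.eq_of_subset_of_ncard_le hsub (h.trans_eq hX.ncard) (Set.toFinite _)
  exact e ▸ hX

/-- The common partners of a far pair are not empty. -/
theorem sc_nonempty (hP : Prim D) {d c : G} (hd : d ∈ D) (hcD : c ∈ D) (hdc : ¬ Commute d c) :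
    (Sc D d c).Nonempty :=
  let ⟨y, h1, h2⟩ := exists_common hP.cls hP.prim hP.pair hd hcD hdc
  ⟨y, h1, h2⟩

end CfsgFischer
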