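/-
The unitary transvections over four elements as a primitive class, with coordinates by isotropic vectors.
-/
import Cfsg.Agent.Lib.Fischer.Sub
import Cfsg.Agent.Lib.ThreeTrans.Polar.Model
import Cfsg.Agent.Lib.ThreeTrans.Fischer
import Cfsg.Agent.Lib.ReflClass.Unitary

set_option autoImplicit false
set_option linter.unusedSectionVars false

namespace CfsgFischer.UnitK

open Matrix Cfsg CfsgLib CfsgLib.UnitaryTransvection CfsgLib.UnitarySimple CfsgThreeTrans CfsgThreeTrans.Polar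
open scoped commutatorElement
open CfsgUniqueTT.Unitary (tu tu_mulVec tu_smul tu_point tu_commute of_tu_commute tu_inv tu_conj)

universe u

section
variable {F : Type} [Field F] [Fintype F] [DecidableEq F] {n : ℕ} (hF : Fintype.card F = 2 ^ 2)

local notation "h" => Cfsg.hermForm n F 2

/-- The transvections in the special unitary group. -/
abbrev TSU (n : ℕ) (F : Type) [Field F] [Fintype F] : Set (Cfsg.SU n F 2) :=
  {g | (((g : Matrix.SpecialLinearGroup (Fin n) F) : Matrix (Fin n) (Fin n) F) - 1).rank = 1}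

include hF

theorem tu_tsu {u : Fin n → F} (hu : Iso u) : tu hF u ∈ TSU n F :=
  (CfsgReflClass.rank_one hF _).mpr ⟨u, hu.1, hu.2, fun x => tu_mulVec hF hu.2 x⟩

theorem tsu_surj {g : Cfsg.SU n F 2} (hg : g ∈ TSU n F) : ∃ u, Iso u ∧ tu hF u = g := by
  obtain ⟨v, hv⟩ := (CfsgReflClass.rank_one hF g).mp hg
  exact ⟨v, ⟨hv.1, hv.2.1⟩, su_ext fun x => by rw [tu_mulVec hF hv.2.1, hv.2.2]⟩

theorem psu_simple (hn : 4 ≤ n) : IsSimpleGroup (Cfsg.PSU n F 2) :=
  UnitarySimple.simple hF (by omega) (by omega)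

theorem psu_na (hn : 4 ≤ n) : ∃ a b : Cfsg.PSU n F 2, a * b ≠ b * a := by
  by_contra hc
  push Not at hc
  have hper : commutator (Cfsg.SU n F 2) = ⊤ := UnitarySimple.perfect hF (by omega) (by omega)
  have hle : commutator (Cfsg.SU n F 2) ≤ Subgroup.center (Cfsg.SU n F 2) := by
    rw [_root_.commutator_def, Subgroup.commutator_le]
    intro a _ b _
    refine (QuotientGroup.eq_one_iff _).mp ?_
    show QuotientGroup.mk' (Subgroup.center (Cfsg.SU n F 2)) ⁅a, b⁆ = 1
    rw [map_commutatorElement, commutatorElement_eq_one_iff_mul_comm]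
    exact hc _ _
  have hbot : commutator (Cfsg.SU n F 2) = ⊥ := by
    rw [_root_.commutator_def, Subgroup.commutator_eq_bot_iff_le_centralizer]
    intro a _
    refine Subgroup.mem_centralizer_iff.mpr fun b _ => ?_
    exact Subgroup.mem_center_iff.mp (hle (hper ▸ Subgroup.mem_top a)) b
  obtain ⟨u, hu0, hu⟩ := UnitarySimple.exists_isotropic hF (n := n) (by omega)
  have h1 : tu hF u = 1 := Subgroup.mem_bot.mp (hbot ▸ hper ▸ Subgroup.mem_top _)
  have := (CfsgReflClass.unitary_class hF hn).1.1 _ (tu_tsu hF ⟨hu0, hu⟩)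
  rw [h1, orderOf_one] at this
  omega

theorem psu_center (hn : 4 ≤ n) : Subgroup.center (Cfsg.PSU n F 2) = ⊥ := by
  haveI := psu_simple hF hn
  obtain ⟨a, b, hab⟩ := psu_na hF hn
  rcases IsSimpleGroup.eq_bot_or_eq_top_of_normal (Subgroup.center (Cfsg.PSU n F 2)) inferInstance with e | e
  · exact e
  · exact absurd (Subgroup.mem_center_iff.mp (e ▸ Subgroup.mem_top b) a) hab

theorem psu_core (hn : 4 ≤ n) {p : ℕ} (hp : p.Prime) : pCore p (Cfsg.PSU n F 2) = ⊥ := by
  haveI : Fact p.Prime := ⟨hp⟩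
  haveI := psu_simple hF hn
  rcases IsSimpleGroup.eq_bot_or_eq_top_of_normal (pCore p (Cfsg.PSU n F 2)) inferInstance with e | e
  · exact e
  · exfalso
    have hP : IsPGroup p (⊤ : Subgroup (Cfsg.PSU n F 2)) := e ▸ isPGroup_pCore (G := Cfsg.PSU n F 2) p
    haveI : Nontrivial (Cfsg.PSU n F 2) := (psu_simple hF hn).toNontrivial
    haveI := (hP.of_equiv Subgroup.topEquiv).center_nontrivial
    exact (Subgroup.nontrivial_iff_ne_bot _).mp inferInstance (psu_center hF hn)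

theorem su_cores (hn : 4 ≤ n) {p : ℕ} (hp : p.Prime) :
    pCore p (Cfsg.SU n F 2) ≤ Subgroup.center (Cfsg.SU n F 2) := core_le_center hp (psu_core hF hn hp)

theorem tsu_two (hn : 4 ≤ n) : ∃ a ∈ TSU n F, ∃ b ∈ TSU n F, a ≠ b := by
  by_contra hc
  push Not at hc
  obtain ⟨u, hu0, hu⟩ := UnitarySimple.exists_isotropic hF (n := n) (by omega)
  obtain ⟨x, hx, hxu⟩ := iso_dual hF hu0 hu
  have e := hc _ (tu_tsu hF ⟨hu0, hu⟩) _ (tu_tsu hF ⟨ne_zero_of_h hF (hxu ▸ one_ne_zero), hx⟩)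
  have h0 : h x u = 0 := of_tu_commute hF hx (ne_zero_of_h hF (hxu ▸ one_ne_zero)) hu (by rw [e])
  exact one_ne_zero (hxu.symm.trans h0)

/-- The projective transvections form a primitive class. -/
theorem psu_prim (hn : 4 ≤ n) :
    Prim ((QuotientGroup.mk : Cfsg.SU n F 2 → Cfsg.PSU n F 2) '' TSU n F) ∧
      (Set.InjOn (QuotientGroup.mk : Cfsg.SU n F 2 → Cfsg.PSU n F 2) (TSU n F)) ∧
      ∀ a ∈ TSU n F, ∀ b ∈ TSU n F, Commute (a : Cfsg.PSU n F 2) b → Commute a b := by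
  haveI := psu_simple hF hn
  obtain ⟨hcls, hinj, hrefl, hZ, c2, c3⟩ := class_quot (CfsgReflClass.unitary_class hF hn) (tsu_two hF hn)
    (su_cores hF hn Nat.prime_two) (su_cores hF hn Nat.prime_three)
  obtain ⟨a, ha, b, hb, hab⟩ := tsu_two hF hn
  have hpair := pair_of_cores hcls ⟨_, ⟨a, ha, rfl⟩, _, ⟨b, hb, rfl⟩, fun e => hab (hinj ha hb e)⟩ (c3 ▸ bot_le)
  refine ⟨⟨⟨hcls, hZ, c2, c3, hpair⟩, (equivalences hcls hZ hpair).1.mp ?_⟩, hinj, hrefl⟩
  have htop : commutator (Cfsg.PSU n F 2) = ⊤ := by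
    rcases IsSimpleGroup.eq_bot_or_eq_top_of_normal (commutator (Cfsg.PSU n F 2)) inferInstance with e | e
    · obtain ⟨x, y, hxy⟩ := psu_na hF hn
      refine absurd ?_ hxy
      exact commutatorElement_eq_one_iff_mul_comm.mp (Subgroup.mem_bot.mp (e ▸
        Subgroup.commutator_mem_commutator (Subgroup.mem_top x) (Subgroup.mem_top y)))
    · exact e
  rw [htop]
  exact Subgroup.topEquiv.isSimpleGroup

end

/-- Coordinates of a class by isotropic points. -/
structure UC {G : Type u} [Group G] (D : Set G) (n : ℕ) (F : Type) [Field F] [Fintype F] [DecidableEq F] where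
  τ : (Fin n → F) → G
  mem : ∀ u, Iso u → τ u ∈ D
  surj : ∀ a ∈ D, ∃ u, Iso u ∧ τ u = a
  point : ∀ u v, Iso u → Iso v → τ u = τ v → ∃ k : F, k ≠ 0 ∧ u = k • v
  smul : ∀ u, Iso u → ∀ k : F, k ≠ 0 → τ (k • u) = τ u
  comm : ∀ u v, Iso u → Iso v → (Commute (τ u) (τ v) ↔ Cfsg.hermForm n F 2 u v = 0)
  conj : ∀ u v, Iso u → Iso v → τ v * τ u * τ v = τ (tr v u)

/-- The coordinates of the projective transvections. -/
theorem psu_uc {F : Type} [Field F] [Fintype F] [DecidableEq F] {n : ℕ} (hF : Fintype.card F = 2 ^ 2) (hn : 4 ≤ n) :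
    Nonempty (UC ((QuotientGroup.mk : Cfsg.SU n F 2 → Cfsg.PSU n F 2) '' TSU n F) n F) := by
  obtain ⟨-, hinj, hrefl⟩ := psu_prim hF hn
  refine ⟨{
    τ := fun u => (QuotientGroup.mk (tu hF u) : Cfsg.PSU n F 2)
    mem := fun u hu => ⟨_, tu_tsu hF hu, rfl⟩
    surj := fun a ha => by
      obtain ⟨g, hg, rfl⟩ := ha
      obtain ⟨u, hu, rfl⟩ := tsu_surj hF hg
      exact ⟨u, hu, rfl⟩
    point := fun u v hu hv e' => by
      obtain ⟨k, hk⟩ := tu_point hF hu.2 hu.1 hv.2 (hinj (tu_tsu hF hu) (tu_tsu hF hv) e')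
      exact ⟨k, fun hk0 => hu.1 (by rw [hk, hk0, zero_smul]), hk⟩
    smul := fun u hu k hk => by simp only [tu_smul hF hu.2 hk]
    comm := fun u v hu hv => ⟨fun hc => of_tu_commute hF hu.2 hu.1 hv.2
        (hrefl _ (tu_tsu hF hu) _ (tu_tsu hF hv) hc),
      fun hc => (tu_commute hF hu.2 hv.2 hc).map (QuotientGroup.mk' _)⟩
    conj := fun u v hu hv => ?_ }⟩
  simp only [← QuotientGroup.mk_mul]
  congr 1
  nth_rewrite 2 [← tu_inv hF hv.2]
  rw [tu_conj hF _ hu.2, tu_mulVec hF hv.2]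
  rfl

/-- A class of unitary kind is primitive and has coordinates. -/
theorem exists_uc {G : Type u} [Group G] [Finite G] {D : Set G} {n : ℕ} (hU : Has G D (.unit n)) :
    Prim D ∧ ∃ (F : Type) (_ : Field F) (_ : Fintype F) (_ : DecidableEq F),
      Fintype.card F = 2 ^ 2 ∧ Nonempty (UC D n F) := by
  classical
  obtain ⟨hn, F, iF, iFt, hcard, e, he⟩ := hU
  have hF : Fintype.card F = 2 ^ 2 := hcard.trans (by norm_num)
  haveI : Finite (Cfsg.PSU n F 2) := Finite.of_equiv G e.toEquiv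
  obtain ⟨hP, hinj, hrefl⟩ := psu_prim hF hn
  have he' : e.symm '' ((QuotientGroup.mk : Cfsg.SU n F 2 → Cfsg.PSU n F 2) '' TSU n F) = D := by
    rw [← he, Set.image_image]
    simp
  obtain ⟨C⟩ := psu_uc hF hn
  refine ⟨prim_map e.symm he' hP, F, iF, iFt, inferInstance, hF, ⟨{
    τ := fun u => e.symm (C.τ u)
    mem := fun u hu => he' ▸ ⟨_, C.mem u hu, rfl⟩
    surj := fun a ha => by
      rw [← he'] at ha
      obtain ⟨t, ht, rfl⟩ := ha
      obtain ⟨u, hu, rfl⟩ := C.surj t ht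
      exact ⟨u, hu, rfl⟩
    point := fun u v hu hv e' => C.point u v hu hv (e.symm.injective e')
    smul := fun u hu k hk => congrArg e.symm (C.smul u hu k hk)
    comm := fun u v hu hv => ⟨fun hc => (C.comm u v hu hv).mp (by simpa using hc.map e),
      fun hc => ((C.comm u v hu hv).mpr hc).map e.symm⟩
    conj := fun u v hu hv => by rw [← map_mul, ← map_mul, C.conj u v hu hv] }⟩⟩

end CfsgFischer.UnitK
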