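/-
Frames of the five-dimensional hermitian space over four elements: a hyperbolic pair and three orthonormal
vectors perpendicular to it, and the nine isotropic points they carry.
-/
import Cfsg.Agent.Lib.Fischer.UnitModel

set_option autoImplicit false
set_option linter.unusedSectionVars false

namespace CfsgFischer.UnitK

open Matrix Cfsg CfsgLib CfsgLib.UnitaryTransvection CfsgLib.UnitarySimple CfsgThreeTrans CfsgThreeTrans.Polar
open CfsgUniqueTT.Unitary (two_zero add_self norm_one norm_fix h_zero_left h_zero_right)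

variable {F : Type} [Field F] [Fintype F] [DecidableEq F] (hF : Fintype.card F = 2 ^ 2)

local notation "σ" => frob hF
local notation "h" => Cfsg.hermForm 5 F 2

/-- A hyperbolic pair with three orthonormal vectors perpendicular to it. -/
structure Frame (a b : Fin 5 → F) where
  w : Fin 3 → Fin 5 → F
  haa : Cfsg.hermForm 5 F 2 a a = 0
  hbb : Cfsg.hermForm 5 F 2 b b = 0
  hab : Cfsg.hermForm 5 F 2 a b = 1
  wa : ∀ i, Cfsg.hermForm 5 F 2 (w i) a = 0
  wb : ∀ i, Cfsg.hermForm 5 F 2 (w i) b = 0
  ww : ∀ i j, Cfsg.hermForm 5 F 2 (w i) (w j) = if i = j then 1 else 0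

/-- The nine isotropic points of a frame. -/
def Frame.pt {a b : Fin 5 → F} (R : Frame a b) (i : Fin 3) (k : F) : Fin 5 → F := R.w i + k • R.w (i + 1)

include hF

theorem exists_frame {a b : Fin 5 → F} (ha : h a a = 0) (hb : h b b = 0) (hab : h a b = 1) :
    Nonempty (Frame a b) := by
  have hba : h b a = 1 := by rw [← h_swap hF a b, hab, map_one]
  obtain ⟨u, hu, huu⟩ := unit_perp hF ![a, b] ![b, a]
    (fun i => Submodule.subset_span (by fin_cases i <;> simp))
    (fun i j => by fin_cases i <;> fin_cases j <;> simp [ha, hb, hab, hba]) (n := 5) (by norm_num)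
  have hua : h u a = 0 := hu 0
  have hub : h u b = 0 := hu 1
  have hau : h a u = 0 := h_comm_zero hF hua
  have hbu : h b u = 0 := h_comm_zero hF hub
  obtain ⟨v, hv, hvv⟩ := unit_perp hF ![a, b, u] ![b, a, u]
    (fun i => Submodule.subset_span (by fin_cases i <;> simp))
    (fun i j => by fin_cases i <;> fin_cases j <;> simp [ha, hb, hab, hba, hua, hub, hau, hbu, huu]) (n := 5)
    (by norm_num)
  have hva : h v a = 0 := hv 0
  have hvb : h v b = 0 := hv 1
  have hvu : h v u = 0 := hv 2
  have hav : h a v = 0 := h_comm_zero hF hva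
  have hbv : h b v = 0 := h_comm_zero hF hvb
  have huv : h u v = 0 := h_comm_zero hF hvu
  obtain ⟨t, ht, htt⟩ := unit_perp hF ![a, b, u, v] ![b, a, u, v]
    (fun i => Submodule.subset_span (by fin_cases i <;> simp))
    (fun i j => by
      fin_cases i <;> fin_cases j <;>
        simp [ha, hb, hab, hba, hua, hub, hau, hbu, huu, hva, hvb, hvu, hav, hbv, huv, hvv])
    (n := 5) (by norm_num)
  have hta : h t a = 0 := ht 0
  have htb : h t b = 0 := ht 1
  have htu : h t u = 0 := ht 2
  have htv : h t v = 0 := ht 3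
  refine ⟨⟨![u, v, t], ha, hb, hab, fun i => by fin_cases i <;> assumption, fun i => by fin_cases i <;> assumption,
    fun i j => ?_⟩⟩
  fin_cases i <;> fin_cases j <;>
    simp [huu, hvv, htt, huv, hvu, htu, htv, h_comm_zero hF htu, h_comm_zero hF htv]

/-- A vector is determined by its five values. -/
theorem Frame.ext_h {a b : Fin 5 → F} (R : Frame a b) {v : Fin 5 → F} (hva : h v a = 0) (hvb : h v b = 0)
    (hvw : ∀ i, h v (R.w i) = 0) : v = 0 := by
  let L : (Fin 5 → F) →ₗ[F] (Fin 5 → F) :=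
    { toFun := fun x => ![h x a, h x b, h x (R.w 0), h x (R.w 1), h x (R.w 2)]
      map_add' := fun x y => by funext i; fin_cases i <;> simp [h_add_left]
      map_smul' := fun c x => by funext i; fin_cases i <;> simp [h_smul_left] }
  have hba : h b a = 1 := by rw [← h_swap hF a b, R.hab, map_one]
  have haw : ∀ i, h a (R.w i) = 0 := fun i => h_comm_zero hF (R.wa i)
  have hbw : ∀ i, h b (R.w i) = 0 := fun i => h_comm_zero hF (R.wb i)
  have hs : Function.Surjective L := fun f =>
    ⟨f 0 • b + f 1 • a + f 2 • R.w 0 + f 3 • R.w 1 + f 4 • R.w 2, by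
      funext i
      fin_cases i <;>
        simp [L, h_add_left, h_smul_left, R.haa, R.hbb, R.hab, hba, R.wa, R.wb, R.ww, haw, hbw]⟩
  have e : L v = L 0 := by
    funext i
    fin_cases i <;> simp [L, hva, hvb, hvw, h_zero_left hF]
  exact LinearMap.injective_iff_surjective.mpr hs e

theorem Frame.expand {a b : Fin 5 → F} (R : Frame a b) (v : Fin 5 → F) :
    v = h v b • a + h v a • b + (h v (R.w 0) • R.w 0 + h v (R.w 1) • R.w 1 + h v (R.w 2) • R.w 2) := by
  have hba : h b a = 1 := by rw [← h_swap hF a b, R.hab, map_one]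
  refine sub_eq_zero.mp (R.ext_h hF ?_ ?_ fun i => ?_)
  · simp [h_sub_left, h_add_left, h_smul_left, R.haa, hba, R.wa]
  · simp [h_sub_left, h_add_left, h_smul_left, R.hbb, R.hab, R.wb]
  · fin_cases i <;>
      simp [h_sub_left, h_add_left, h_smul_left, h_comm_zero hF (R.wa _), h_comm_zero hF (R.wb _), R.ww]

theorem Frame.pt_iso {a b : Fin 5 → F} (R : Frame a b) (i : Fin 3) {k : F} (hk : k ≠ 0) : Iso (R.pt i k) := by
  have hne : i ≠ i + 1 := by revert i; decide
  refine ⟨fun e => one_ne_zero (α := F) ?_, ?_⟩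
  · have := congrArg (fun x => h x (R.w i)) e
    simpa [Frame.pt, h_add_left, h_smul_left, R.ww, hne.symm, h_zero_left hF] using this
  · rw [Frame.pt, diag_add hF, diag_smul hF hk, R.ww, R.ww, h_smul_right hF, R.ww, if_neg hne]
    simp [add_self hF]

theorem Frame.pt_perp {a b : Fin 5 → F} (R : Frame a b) (i : Fin 3) (k : F) :
    h (R.pt i k) a = 0 ∧ h (R.pt i k) b = 0 := by
  simp [Frame.pt, h_add_left, h_smul_left, R.wa, R.wb]

/-- A vector perpendicular to the points of a frame is perpendicular to the three vectors. -/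
theorem Frame.perp_w {a b : Fin 5 → F} (R : Frame a b) {z : Fin 5 → F}
    (hz : ∀ i k, k ≠ 0 → h (R.pt i k) z = 0) (i : Fin 3) : h (R.w i) z = 0 := by
  have h1 := hz i 1 one_ne_zero
  have h2 := hz i (om hF) (om_ne_zero hF)
  rw [Frame.pt, h_add_left, h_smul_left] at h1 h2
  have h3 : (om hF + 1) * h (R.w i) z = 0 := by linear_combination h1 * om hF + h2 - (om hF) * h (R.w (i+1)) z * two_zero hF
  exact (mul_eq_zero.mp h3).resolve_left (om_add_one_ne hF)

/-- Every isotropic point perpendicular to the pair is one of the nine. -/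
theorem Frame.cases {a b : Fin 5 → F} (R : Frame a b) {v : Fin 5 → F} (hv : Iso v) (hva : h v a = 0)
    (hvb : h v b = 0) : ∃ (i : Fin 3) (k l : F), k ≠ 0 ∧ l ≠ 0 ∧ v = l • R.pt i k := by
  have e := R.expand hF v
  rw [hva, hvb, zero_smul, zero_smul, zero_add, zero_add] at e
  have e2 : h v (R.w 0) * σ (h v (R.w 0)) + h v (R.w 1) * σ (h v (R.w 1)) + h v (R.w 2) * σ (h v (R.w 2)) = 0 := by
    have := hv.2
    conv at this => lhs; arg 4; rw [e]
    rw [h_add_left, h_add_left, h_smul_left, h_smul_left, h_smul_left, ← h_swap hF v (R.w 0),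
      ← h_swap hF v (R.w 1), ← h_swap hF v (R.w 2)] at this
    exact this
  generalize h v (R.w 0) = c₀ at e e2
  generalize h v (R.w 1) = c₁ at e e2
  generalize h v (R.w 2) = c₂ at e e2
  have n1 : ∀ {c : F}, c ≠ 0 → c * σ c = 1 := fun hc => norm_one hF hc
  by_cases h0 : c₀ = 0
  · by_cases h1 : c₁ = 0
    · by_cases h2 : c₂ = 0
      · exact absurd (by simp [e, h0, h1, h2]) hv.1
      · simp [h0, h1, n1 h2] at e2
    · by_cases h2 : c₂ = 0
      · simp [h0, h2, n1 h1] at e2
      · refine ⟨1, c₂ / c₁, c₁, div_ne_zero h2 h1, h1, ?_⟩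
        rw [e, h0, Frame.pt, show (1 : Fin 3) + 1 = 2 from rfl, smul_add, smul_smul, mul_div_cancel₀ _ h1]
        simp
  · by_cases h1 : c₁ = 0
    · by_cases h2 : c₂ = 0
      · simp [h1, h2, n1 h0] at e2
      · refine ⟨2, c₀ / c₂, c₂, div_ne_zero h0 h2, h2, ?_⟩
        rw [e, h1, Frame.pt, show (2 : Fin 3) + 1 = 0 from rfl, smul_add, smul_smul, mul_div_cancel₀ _ h2,
          zero_smul, add_zero, add_comm]
    · by_cases h2 : c₂ = 0
      · refine ⟨0, c₁ / c₀, c₀, div_ne_zero h1 h0, h0, ?_⟩
        rw [e, h2, Frame.pt, show (0 : Fin 3) + 1 = 1 from rfl, smul_add, smul_smul, mul_div_cancel₀ _ h0]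
        simp
      · exfalso
        rw [n1 h0, n1 h1, n1 h2, add_self hF, zero_add] at e2
        exact one_ne_zero e2

/-- Proportional points of a frame are equal. -/
theorem Frame.pt_inj {a b : Fin 5 → F} (R : Frame a b) {i j : Fin 3} {k l c : F} (hk : k ≠ 0)
    (e : R.pt i k = c • R.pt j l) : i = j ∧ k = l := by
  have v0 := congrArg (fun x => h x (R.w i)) e
  have v1 := congrArg (fun x => h x (R.w (i + 1))) e
  have v2 := congrArg (fun x => h x (R.w (i + 2))) e
  simp only [Frame.pt, h_smul_left, h_add_left, R.ww] at v0 v1 v2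
  fin_cases i <;> fin_cases j <;> simp at v0 v1 v2 ⊢ <;> grind

theorem Frame.tr_chain {a b : Fin 5 → F} (R : Frame a b) {l m : F} (hl : l ≠ 0) (hm : m ≠ 0) :
    tr (R.pt 1 m) (R.pt 0 l) = R.w 0 + (l * m) • R.w 2 := by
  simp only [tr, Frame.pt, show (1 : Fin 3) + 1 = 2 from rfl, show (0 : Fin 3) + 1 = 1 from rfl, h_add_left,
    h_add_right hF, h_smul_left, h_smul_right hF, R.ww]
  simp only [show (0 : Fin 3) ≠ 1 from by decide, show (0 : Fin 3) ≠ 2 from by decide,
    show (1 : Fin 3) ≠ 2 from by decide, if_false, if_true]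
  simp only [mul_zero, mul_one, zero_add, add_zero, smul_add, smul_smul]
  linear_combination (norm := module) l • CfsgUniqueTT.Unitary.vadd_self hF (R.w 1)

end CfsgFischer.UnitK
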