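/-
No step from the unitary group in dimension five: the common partners of a far pair would be invariant under
root elements which move the perpendicular pairs of their members.
-/
import Cfsg.Agent.Lib.Fischer.UnitFrame
import Cfsg.Agent.Lib.Fischer.LocalCount
import Cfsg.Agent.Lib.Fischer.SubDescend

set_option autoImplicit false
set_option linter.unusedSectionVars false

namespace CfsgFischer

open Matrix Cfsg CfsgLib CfsgLib.UnitaryTransvection CfsgLib.UnitarySimple CfsgThreeTrans CfsgThreeTrans.Polar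
open CfsgUniqueTT.Unitary (two_zero add_self norm_one norm_fix h_zero_left h_zero_right tu tu_mulVec tu_inv)
open CfsgFischer.UnitK (UC Frame)

universe u

variable {G : Type u} [Group G] [Finite G] {D : Set G}
variable {F : Type} [Field F] [Fintype F] [DecidableEq F]

local notation "h" => Cfsg.hermForm 5 F 2

/-- Coordinates of the partners themselves. -/
theorem local_uc {n : ℕ} (hP : Prim D) {d : G} (hd : d ∈ D) (hc : CoresCentral D d)
    (C : UC (QD (Ds D d)) n F) (hF : Fintype.card F = 2 ^ 2) : Nonempty (UC (Ds D d) n F) := by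
  classical
  have hD := hP.cls
  have hsurj : ∀ u, Iso u → ∃ y ∈ Ds D d, lbar D d y = C.τ u := fun u hu =>
    (lbar_image (D := D) (d := d)).symm.subset (C.mem u hu)
  let τ : (Fin n → F) → G := fun u => if hu : Iso u then (hsurj u hu).choose else 1
  have hτ : ∀ u, Iso u → τ u ∈ Ds D d ∧ lbar D d (τ u) = C.τ u := fun u hu => by
    simp only [τ, dif_pos hu]
    exact (hsurj u hu).choose_spec
  refine ⟨{
    τ := τ
    mem := fun u hu => (hτ u hu).1
    surj := fun a ha => by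
      obtain ⟨u, hu, e⟩ := C.surj _ ((lbar_image (D := D) (d := d)).subset ⟨a, ha, rfl⟩)
      exact ⟨u, hu, lbar_inj hP hd hc (hτ u hu).1 ha ((hτ u hu).2.trans e)⟩
    point := fun u v hu hv e => C.point u v hu hv (by rw [← (hτ u hu).2, ← (hτ v hv).2, e])
    smul := fun u hu k hk => lbar_inj hP hd hc (hτ _ (hu.smul hF hk)).1 (hτ u hu).1 (by
      rw [(hτ _ (hu.smul hF hk)).2, (hτ u hu).2, C.smul u hu k hk])
    comm := fun u v hu hv => by
      rw [← lbar_commute hP hd hc (hτ u hu).1 (hτ v hv).1, (hτ u hu).2, (hτ v hv).2]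
      exact C.comm u v hu hv
    conj := fun u v hu hv => ?_ }⟩
  have mu := Subgroup.subset_closure (hτ u hu).1
  have mv := Subgroup.subset_closure (hτ v hv).1
  have hin : τ v * τ u * τ v ∈ Ds D d := by
    have := Ds_closed_mem hD (hτ u hu).1 (hτ v hv).1
    rwa [inv_self hD.1 (hτ v hv).1.1] at this
  refine lbar_inj hP hd hc hin (hτ _ (tr_iso hF hu hv)).1 ?_
  rw [(hτ _ (tr_iso hF hu hv)).2, ← C.conj u v hu hv, ← (hτ u hu).2, ← (hτ v hv).2,
    lbar_eq (⟨_, mu⟩ : ↥(Subgroup.closure (Ds D d))), lbar_eq (⟨_, mv⟩ : ↥(Subgroup.closure (Ds D d))),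
    ← QuotientGroup.mk_mul, ← QuotientGroup.mk_mul, ← lbar_eq]
  rfl

/-- Coordinates at a conjugate member. -/
theorem uc_cj {n : ℕ} (hD : IsThreeTranspositionClass D) {d : G} (C : UC (Ds D d) n F) (g : G) :
    Nonempty (UC (Ds D (g * d * g⁻¹)) n F) :=
  ⟨{ τ := fun u => g * C.τ u * g⁻¹
     mem := fun u hu => (cj_Ds hD g d).subset ⟨_, C.mem u hu, rfl⟩
     surj := fun a ha => by
       obtain ⟨b, hb, rfl⟩ := (cj_Ds hD g d).symm.subset ha
       obtain ⟨u, hu, rfl⟩ := C.surj b hb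
       exact ⟨u, hu, rfl⟩
     point := fun u v hu hv e => C.point u v hu hv (cj_injective g e)
     smul := fun u hu k hk => by rw [C.smul u hu k hk]
     comm := fun u v hu hv => (commute_cj_iff g).trans (C.comm u v hu hv)
     conj := fun u v hu hv => by rw [← C.conj u v hu hv]; group }⟩

/-- The special unitary group acts on the coordinates through the group of the partners. -/
theorem exists_lift {n : ℕ} (hD : IsThreeTranspositionClass D) {d : G} (hF : Fintype.card F = 2 ^ 2) (hn : 4 ≤ n)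
    (C : UC (Ds D d) n F) (A : Cfsg.SU n F 2) :
    ∃ k ∈ Subgroup.closure (Ds D d), ∀ u, Iso u → k * C.τ u * k⁻¹ = C.τ (mat A *ᵥ u) := by
  classical
  have hA : A ∈ Subgroup.closure (UnitarySimple.TSet (F := F) (q := 2) (n := n)) :=
    UnitarySimple.generated (n := n) hF (by omega) (by omega) ▸ Subgroup.mem_top A
  have hone : ∃ k ∈ Subgroup.closure (Ds D d), ∀ u, Iso u →
      k * C.τ u * k⁻¹ = C.τ (mat (1 : Cfsg.SU n F 2) *ᵥ u) :=
    ⟨1, one_mem _, fun u _ => by rw [mat_one, one_mulVec, one_mul, inv_one, mul_one]⟩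
  induction hA using Subgroup.closure_induction with
  | mem A hA =>
    obtain ⟨v, c, hv, hm⟩ := hA
    by_cases hv0 : v = 0
    · have e : A = 1 := su_ext fun x => by rw [hm, hv0, tmat_zero, mat_one, one_mulVec]
      exact e ▸ hone
    have hskew : c + frob hF c = 0 :=
      skew_of_tmat hF hv hv0 (fun x y => by rw [← hm]; exact su_h A x y)
    rcases trace_zero hF hskew with rfl | rfl
    · have e : A = 1 := su_ext fun x => by rw [hm, tmat_mulVec, mat_one, one_mulVec]; simp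
      exact e ▸ hone
    · refine ⟨C.τ v, Subgroup.subset_closure (C.mem v ⟨hv0, hv⟩), fun u hu => ?_⟩
      rw [inv_self hD.1 (C.mem v ⟨hv0, hv⟩).1, C.conj u v hu ⟨hv0, hv⟩, hm, tmat_mulVec, one_mul]
      rfl
  | one => exact hone
  | mul A B _ _ ihA ihB =>
    obtain ⟨k, hk, ek⟩ := ihA
    obtain ⟨l, hl, el⟩ := ihB
    refine ⟨k * l, mul_mem hk hl, fun u hu => ?_⟩
    have hBu : Iso (mat B *ᵥ u) := ⟨mat_ne_zero B hu.1, by rw [su_h]; exact hu.2⟩
    rw [← cj_cj, el u hu, ek _ hBu, mat_mul, ← mulVec_mulVec]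
  | inv A _ ih =>
    obtain ⟨k, hk, ek⟩ := ih
    refine ⟨k⁻¹, inv_mem hk, fun u hu => ?_⟩
    have hBu : Iso (mat A⁻¹ *ᵥ u) := ⟨mat_ne_zero A⁻¹ hu.1, by rw [su_h]; exact hu.2⟩
    have := ek _ hBu
    rw [mat_inv_mulVec] at this
    rw [← this]
    group

/-- Points perpendicular to a member other than itself are its partners. -/
theorem mem_Ds_tau {d : G} (C : UC (Ds D d) 5 F) {u v : Fin 5 → F} (hu : Iso u) (hv : Iso v) (e : h u v = 0)
    (ne : C.τ u ≠ C.τ v) : C.τ u ∈ Ds D (C.τ v) :=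
  ⟨(C.mem u hu).1, ne, ((C.comm u v hu hv).mpr e).symm⟩

/-- The common partners of a member and the far pair. -/
theorem perp_set (hF : Fintype.card F = 2 ^ 2) (hP : Prim D) {d c : G} (hd : d ∈ D) (hcD : c ∈ D)
    (hdc : ¬ Commute d c) (C : UC (Ds D d) 5 F) {v : Fin 5 → F} (hv : Iso v) (hS : C.τ v ∈ Sc D d c) :
    ∃ z, ∃ R : Frame v z, (∀ i k, k ≠ 0 → C.τ (R.pt i k) ∈ Sc D d c ∧ C.τ (R.pt i k) ∈ Ds D (C.τ v)) ∧
      (∀ u, Iso u → C.τ u ∈ Sc D d c → C.τ u ∈ Ds D (C.τ v) → h u z = 0) ∧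
      ∀ c' ∈ D, ¬ Commute d c' → C.τ v ∈ Ds D c' → (∀ i k, k ≠ 0 → C.τ (R.pt i k) ∈ Ds D c') →
        Sc D d c' = Sc D d c := by
  classical
  have hD := hP.cls
  set x := C.τ v with hxdef
  obtain ⟨g, hg⟩ := cls_exists_conj hD hd hS.1.1
  obtain ⟨C'⟩ := uc_cj hD C g
  rw [hg] at C'
  obtain ⟨a, ha, hea⟩ := C'.surj d (Polar.Ds_symm hd hS.1)
  obtain ⟨b₀, hb₀, heb₀⟩ := C'.surj c (Polar.Ds_symm hcD hS.2)
  have hab₀ : h a b₀ ≠ 0 := fun e => hdc (hea ▸ heb₀ ▸ (C'.comm a b₀ ha hb₀).mpr e)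
  set t := (frob hF (h a b₀))⁻¹ with ht
  have ht0 : t ≠ 0 := inv_ne_zero ((map_ne_zero _).mpr hab₀)
  set b := t • b₀ with hbdef
  have hb : Iso b := hb₀.smul hF ht0
  have heb : C'.τ b = c := by rw [hbdef, C'.smul b₀ hb₀ t ht0, heb₀]
  have hab : h a b = 1 := by
    rw [hbdef, h_smul_right hF, ht, map_inv₀, frob_frob hF, inv_mul_cancel₀ hab₀]
  obtain ⟨P⟩ := UnitK.exists_frame hF ha.2 hb.2 hab
  -- the nine partners in the coordinates at the member
  have hmem : ∀ i k, k ≠ 0 → C'.τ (P.pt i k) ∈ Sc D d c ∧ C'.τ (P.pt i k) ∈ Ds D x := by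
    intro i k hk
    have hp := P.pt_iso hF i hk
    obtain ⟨e1, e2⟩ := P.pt_perp hF i k
    have hm := C'.mem _ hp
    refine ⟨⟨⟨hm.1, fun e => hdc ?_, hea ▸ ((C'.comm _ _ hp ha).mpr e1).symm⟩,
      hm.1, fun e => hdc ?_, heb ▸ ((C'.comm _ _ hp hb).mpr e2).symm⟩, hm⟩
    · rw [← e, ← heb]; exact (C'.comm _ _ hp hb).mpr e2
    · rw [← e, ← hea]; exact ((C'.comm _ _ hp ha).mpr e1).symm
  have hall : ∀ y ∈ Sc D d c, y ∈ Ds D x → ∃ i k, k ≠ 0 ∧ C'.τ (P.pt i k) = y := by
    intro y hy hyx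
    obtain ⟨u, hu, rfl⟩ := C'.surj y hyx
    obtain ⟨i, k, l, hk, hl, rfl⟩ := P.cases hF hu
      ((C'.comm _ _ hu ha).mp (hea ▸ hy.1.2.2.symm)) ((C'.comm _ _ hu hb).mp (heb ▸ hy.2.2.2.symm))
    exact ⟨i, k, hk, (C'.smul _ (P.pt_iso hF i hk) l hl).symm⟩
  -- their vectors in the coordinates at `d`
  have hvec : ∀ i k, k ≠ 0 → ∃ u, Iso u ∧ C.τ u = C'.τ (P.pt i k) ∧ h u v = 0 := by
    intro i k hk
    obtain ⟨h1, h2⟩ := hmem i k hk
    obtain ⟨u, hu, e⟩ := C.surj _ h1.1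
    exact ⟨u, hu, e, (C.comm u v hu hv).mp (e ▸ h2.2.2.symm)⟩
  choose! U hU hUτ hUv using hvec
  have hfar : ∀ i j k l, k ≠ 0 → l ≠ 0 → h (P.pt i k) (P.pt j l) ≠ 0 → h (U i k) (U j l) ≠ 0 := by
    intro i j k l hk hl hne e
    refine hne ((C'.comm _ _ (P.pt_iso hF i hk) (P.pt_iso hF j hl)).mp ?_)
    rw [← hUτ i k hk, ← hUτ j l hl]
    exact (C.comm _ _ (hU i k hk) (hU j l hl)).mpr e
  have hone : (1 : F) ≠ 0 := one_ne_zero
  have hom := om_ne_zero hF
  set w := om hF with hw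
  set p₁ := U 0 1
  set p₂ := U 0 w
  set p₃ := U 1 1
  have h12 : h (P.pt 0 1) (P.pt 0 w) ≠ 0 := by
    simp only [Frame.pt, h_add_left, h_add_right hF, h_smul_left, h_smul_right hF, P.ww]
    simp [hw, frob_om hF]
    intro e
    exact om_ne_zero hF (by linear_combination e - two_zero hF)
  have hp12 : h p₁ p₂ ≠ 0 := hfar 0 0 1 w hone hom h12
  have hp1 : h p₁ v = 0 := hUv 0 1 hone
  have hp2 : h p₂ v = 0 := hUv 0 w hom
  have hp3 : h p₃ v = 0 := hUv 1 1 hone
  have i1 : Iso p₁ := hU 0 1 hone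
  have i2 : Iso p₂ := hU 0 w hom
  have i3 : Iso p₃ := hU 1 1 hone
  obtain ⟨z₀, hz₀, hz₀v⟩ := iso_dual hF hv.1 hv.2
  have hvz₀ : h v z₀ = 1 := by rw [← h_swap hF z₀ v, hz₀v, map_one]
  have hvp1 : h v p₁ = 0 := h_comm_zero hF hp1
  have hvp2 : h v p₂ = 0 := h_comm_zero hF hp2
  have hp21 : h p₂ p₁ ≠ 0 := fun e => hp12 (h_comm_zero hF e)
  -- perpendicular to the first two
  set A := frob hF (-(h p₂ z₀) / h p₂ p₁) with hA
  set B := frob hF (-(h p₁ z₀) / h p₁ p₂) with hB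
  set z' := z₀ + A • p₁ + B • p₂ with hz'
  have hpz1 : h p₁ z' = 0 := by
    rw [hz', h_add_right hF, h_add_right hF, h_smul_right hF, h_smul_right hF, i1.2, hB]
    simp only [frob_frob]
    rw [div_mul_cancel₀ _ hp12]
    ring
  have hpz2 : h p₂ z' = 0 := by
    rw [hz', h_add_right hF, h_add_right hF, h_smul_right hF, h_smul_right hF, i2.2, hA, frob_frob hF,
      div_mul_cancel₀ _ hp21]
    ring
  have hvz' : h v z' = 1 := by
    rw [hz', h_add_right hF, h_add_right hF, h_smul_right hF, h_smul_right hF, hvp1, hvp2, hvz₀]; ring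
  -- isotropic
  have iso_fix : ∀ y, h v y = 1 → ∃ z, h z z = 0 ∧ h v z = 1 ∧ ∀ u, h u v = 0 → h u z = h u y := by
    intro y hy
    obtain ⟨e, he⟩ := exists_trace_one hF
    rcases diag_cases hF y with e0 | e1
    · exact ⟨y, e0, hy, fun _ _ => rfl⟩
    · refine ⟨y + e • v, ?_, ?_, fun u hu => ?_⟩
      · have hyv : h y v = 1 := by rw [← h_swap hF v y, hy, map_one]
        rw [diag_add hF, e1, h_smul_left, h_smul_right hF, h_smul_right hF, hv.2, hyv, mul_one, frob_frob hF]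
        linear_combination he + two_zero hF
      · rw [h_add_right hF, h_smul_right hF, hv.2, hy, mul_zero, add_zero]
      · rw [h_add_right hF, h_smul_right hF, hu, mul_zero, add_zero]
  obtain ⟨z₁, hz₁, hvz₁, hz₁u⟩ := iso_fix z' hvz'
  have h11 : h p₁ z₁ = 0 := by rw [hz₁u p₁ hp1, hpz1]
  have h21 : h p₂ z₁ = 0 := by rw [hz₁u p₂ hp2, hpz2]
  -- perpendicular to the third
  set s := (frob hF (h p₁ p₂))⁻¹ with hs
  have hs0 : s ≠ 0 := inv_ne_zero ((map_ne_zero _).mpr hp12)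
  set q := s • p₂ with hq
  have hqi : Iso q := i2.smul hF hs0
  have h1q : h p₁ q = 1 := by rw [hq, h_smul_right hF, hs, map_inv₀, frob_frob hF, inv_mul_cancel₀ hp12]
  have hq1 : h q p₁ = 1 := by rw [← h_swap hF p₁ q, h1q, map_one]
  have hqv : h q v = 0 := by rw [hq, h_smul_left, hp2, mul_zero]
  have hqz : h q z₁ = 0 := by rw [hq, h_smul_left, h21, mul_zero]
  have hz₁v : h z₁ v = 1 := by rw [← h_swap hF v z₁, hvz₁, map_one]
  obtain ⟨n, hn, hnn⟩ := unit_perp hF ![v, z₁, p₁, q] ![z₁, v, q, p₁]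
    (fun i => Submodule.subset_span (by fin_cases i <;> simp))
    (fun i j => by
      fin_cases i <;> fin_cases j <;>
        simp [hz₁v, hvz₁, hv.2, hz₁, h1q, hq1, hqv, hqz, h11, hp1, hqi.2, i1.2, h_comm_zero hF hqv,
          h_comm_zero hF hqz, h_comm_zero hF h11, hvp1]) (n := 5) (by norm_num)
  have hnv : h n v = 0 := hn 0
  have hnz : h n z₁ = 0 := hn 1
  have hn1 : h n p₁ = 0 := hn 2
  have hnq : h n q = 0 := hn 3
  have hn2 : h n p₂ = 0 := by
    rw [hq, h_smul_right hF] at hnq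
    exact (mul_eq_zero.mp hnq).resolve_left ((map_ne_zero _).mpr hs0)
  have h3n : h p₃ n ≠ 0 := by
    intro e
    -- the third would commute with the third of the first two
    obtain ⟨R₁⟩ := UnitK.exists_frame hF i1.2 hqi.2 h1q
    have hspan : ∀ y, h y v = 0 → h y n = 0 → y = h y z₁ • v + (h y q • p₁ + h y p₁ • q) := by
      intro y hyv hyn
      -- five values
      let L : (Fin 5 → F) →ₗ[F] (Fin 5 → F) :=
        { toFun := fun x => ![h x v, h x z₁, h x p₁, h x q, h x n]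
          map_add' := fun x y => by funext i; fin_cases i <;> simp [h_add_left]
          map_smul' := fun c x => by funext i; fin_cases i <;> simp [h_smul_left] }
      have hinj : Function.Injective L := LinearMap.injective_iff_surjective.mpr fun f =>
        ⟨f 0 • z₁ + f 1 • v + f 2 • q + f 3 • p₁ + f 4 • n, by
          funext i
          fin_cases i <;>
            simp [L, h_add_left, h_smul_left, hz₁v, hvz₁, hv.2, hz₁, h1q, hq1, hqv, hqz, h11, hp1, hqi.2, i1.2,
              hnv, hnz, hn1, hnq, hnn, h_comm_zero hF hqv, h_comm_zero hF hqz, h_comm_zero hF h11, hvp1,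
              h_comm_zero hF hnv, h_comm_zero hF hnz, h_comm_zero hF hn1, h_comm_zero hF hnq]⟩
      refine hinj ?_
      funext i
      fin_cases i <;>
        simp [L, h_add_left, h_smul_left, hvz₁, hv.2, h1q, hq1, hqv, hqz, h11, hp1, hqi.2, i1.2, hyv, hyn,
          hvp1, h_comm_zero hF hqv, h_comm_zero hF hnv, h_comm_zero hF hn1, h_comm_zero hF hnq]
    have e3 := hspan p₃ hp3 e
    have g1 : h p₃ p₁ ≠ 0 := hfar 1 0 1 1 hone hone (by
      simp [Frame.pt, h_add_left, h_add_right hF, P.ww])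
    have g2 : h p₃ q ≠ 0 := by
      rw [hq, h_smul_right hF]
      refine mul_ne_zero ((map_ne_zero _).mpr hs0) (hfar 1 0 1 w hone hom ?_)
      simpa [Frame.pt, h_add_left, h_add_right hF, h_smul_left, h_smul_right hF, P.ww] using
        (map_ne_zero (frob hF)).mpr hom
    have heq : h p₃ q = h p₃ p₁ := by
      have h0 := i3.2
      conv at h0 => lhs; arg 4; rw [e3]
      rw [h_add_left, h_add_left, h_smul_left, h_smul_left, h_smul_left, h_comm_zero hF hp3, mul_zero, zero_add,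
        ← h_swap hF p₃ p₁, ← h_swap hF p₃ q] at h0
      rcases trace_zero hF (a := h p₃ q * frob hF (h p₃ p₁)) (by
        rw [map_mul, frob_frob hF]; linear_combination h0) with e' | e'
      · exact absurd e' (mul_ne_zero g2 ((map_ne_zero _).mpr g1))
      · have := norm_fix hF g1
        linear_combination (h p₃ p₁) * e' - (h p₃ q) * this
    -- the third of the first two is perpendicular to `p₃`
    have hperp : h (tr q p₁) p₃ = 0 := by
      rw [tr, h1q, one_smul, h_add_left, ← h_swap hF p₃ p₁, ← h_swap hF p₃ q, heq, add_self hF]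
    have htr : C.τ (tr q p₁) = C'.τ (tr (P.pt 0 w) (P.pt 0 1)) := by
      rw [← C.conj p₁ q i1 hqi, hq, C.smul p₂ i2 s hs0, hUτ 0 1 hone, hUτ 0 w hom,
        C'.conj _ _ (P.pt_iso hF 0 hone) (P.pt_iso hF 0 hom)]
    have hc' : Commute (C'.τ (tr (P.pt 0 w) (P.pt 0 1))) (C'.τ (P.pt 1 1)) := by
      rw [← htr, ← hUτ 1 1 hone]
      exact (C.comm _ _ (tr_iso hF i1 hqi) i3).mpr hperp
    have hz := (C'.comm _ _ (tr_iso hF (P.pt_iso hF 0 hone) (P.pt_iso hF 0 hom)) (P.pt_iso hF 1 hone)).mp hc'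
    simp only [tr, Frame.pt, h_add_left, h_add_right hF, h_smul_left, h_smul_right hF, P.ww] at hz
    simp [hw, frob_om hF] at hz
    exact om_ne_zero hF (by linear_combination hz - om_sq hF - (om hF + 1) * two_zero hF)
  -- the second point
  have hvn : h v n = 0 := h_comm_zero hF hnv
  set κ := frob hF (-(h p₃ z₁) / h p₃ n) with hκ
  obtain ⟨z, hz, hvz, hzu⟩ := iso_fix (z₁ + κ • n) (by
    rw [h_add_right hF, h_smul_right hF, hvz₁, hvn, mul_zero, add_zero])
  have g1 : h p₁ z = 0 := by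
    rw [hzu p₁ hp1, h_add_right hF, h_smul_right hF, h11, h_comm_zero hF hn1, mul_zero, add_zero]
  have g2 : h p₂ z = 0 := by
    rw [hzu p₂ hp2, h_add_right hF, h_smul_right hF, h21, h_comm_zero hF hn2, mul_zero, add_zero]
  have g3 : h p₃ z = 0 := by
    rw [hzu p₃ hp3, h_add_right hF, h_smul_right hF, hκ, frob_frob hF, div_mul_cancel₀ _ h3n, add_neg_cancel]
  -- thirds
  let A' : (Fin 5 → F) → Prop := fun u' => ∀ u, Iso u → C.τ u = C'.τ u' → h u z = 0
  have hbase : ∀ i k, k ≠ 0 → h (U i k) z = 0 → A' (P.pt i k) := by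
    intro i k hk e u hu eu
    obtain ⟨l, -, el⟩ := C.point u (U i k) hu (hU i k hk) (eu.trans (hUτ i k hk).symm)
    rw [el, h_smul_left, e, mul_zero]
  have hstep : ∀ i j k l, k ≠ 0 → l ≠ 0 → A' (P.pt i k) → A' (P.pt j l) → A' (tr (P.pt j l) (P.pt i k)) := by
    intro i j k l hk hl h1 h2 u hu eu
    rw [← C'.conj _ _ (P.pt_iso hF i hk) (P.pt_iso hF j hl), ← hUτ i k hk, ← hUτ j l hl,
      C.conj _ _ (hU i k hk) (hU j l hl)] at eu
    obtain ⟨r, -, er⟩ := C.point u _ hu (tr_iso hF (hU i k hk) (hU j l hl)) eu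
    rw [er, h_smul_left, tr, h_add_left, h_smul_left, h1 _ (hU i k hk) (hUτ i k hk),
      h2 _ (hU j l hl) (hUτ j l hl)]
    ring
  have hscale : ∀ {u' w' : Fin 5 → F} {r : F}, Iso w' → r ≠ 0 → u' = r • w' → A' u' → A' w' := by
    intro u' w' r hw' hr e h1 u hu eu
    exact h1 u hu (by rw [eu, e, C'.smul w' hw' r hr])
  have a01 := hbase 0 1 hone g1
  have a0w := hbase 0 w hom g2
  have a11 := hbase 1 1 hone g3
  have hw1 : w + 1 ≠ 0 := om_add_one_ne hF
  have a0 : ∀ l, l ≠ 0 → A' (P.pt 0 l) := by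
    intro l hl
    rcases four hF l with rfl | rfl | rfl | rfl
    · exact absurd rfl hl
    · exact a01
    · exact a0w
    · refine hscale (P.pt_iso hF 0 hl) hw1 ?_ (hstep 0 0 1 w hone hom a01 a0w)
      simp only [tr, Frame.pt, h_add_left, h_add_right hF, h_smul_left, h_smul_right hF, P.ww, hw]
      simp [frob_om hF]
      linear_combination (norm := module) CfsgUniqueTT.Unitary.vadd_self hF (P.w 0)
  have a2 : ∀ k, k ≠ 0 → A' (P.pt 2 k) := by
    intro k hk
    have hk' : k⁻¹ ≠ 0 := inv_ne_zero hk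
    have e := P.tr_chain hF hk' hone
    rw [mul_one] at e
    exact hscale (P.pt_iso hF 2 hk) hk' (by
      rw [e, Frame.pt, smul_add, smul_smul, inv_mul_cancel₀ hk, one_smul, add_comm]; rfl)
      (hstep 0 1 _ 1 hk' hone (a0 _ hk') a11)
  have a1 : ∀ k, k ≠ 0 → A' (P.pt 1 k) := by
    intro k hk
    refine hscale (P.pt_iso hF 1 hk) (inv_ne_zero hk) ?_ (hstep 2 0 k⁻¹ 1 (inv_ne_zero hk) hone (a2 _ (inv_ne_zero hk)) a01)
    simp only [tr, Frame.pt, show (2 : Fin 3) + 1 = 0 from rfl, show (1 : Fin 3) + 1 = 2 from rfl,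
      show (0 : Fin 3) + 1 = 1 from rfl, h_add_left, h_add_right hF, h_smul_left, h_smul_right hF, P.ww]
    simp [smul_smul, hk]
    linear_combination (norm := module) k⁻¹ • CfsgUniqueTT.Unitary.vadd_self hF (P.w 0)
  have hallz : ∀ i k, k ≠ 0 → h (U i k) z = 0 := by
    intro i k hk
    fin_cases i
    exacts [a0 k hk _ (hU _ k hk) (hUτ _ k hk), a1 k hk _ (hU _ k hk) (hUτ _ k hk),
      a2 k hk _ (hU _ k hk) (hUτ _ k hk)]
  obtain ⟨R⟩ := UnitK.exists_frame hF hv.2 hz hvz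
  have hsurjR : ∀ i k, k ≠ 0 → ∃ j l, l ≠ 0 ∧ C.τ (R.pt j l) = C'.τ (P.pt i k) := by
    intro i k hk
    obtain ⟨j, l, r, hl, hr, e⟩ := R.cases hF (hU i k hk) (hUv i k hk) (hallz i k hk)
    refine ⟨j, l, hl, ?_⟩
    rw [← hUτ i k hk, e, C.smul _ (R.pt_iso hF j hl) r hr]
  -- counting
  have hbij : ∀ j l, l ≠ 0 → ∃ i k, k ≠ 0 ∧ C.τ (R.pt j l) = C'.τ (P.pt i k) := by
    choose! f1 f2 f3 f4 using hsurjR
    let f : Fin 3 × {k : F // k ≠ 0} → Fin 3 × {k : F // k ≠ 0} := fun p =>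
      (f1 p.1 p.2.1, ⟨f2 p.1 p.2.1, f3 p.1 p.2.1 p.2.2⟩)
    have finj : Function.Injective f := by
      rintro ⟨i, k, hk⟩ ⟨i', k', hk'⟩ e
      simp only [f, Prod.mk.injEq, Subtype.mk.injEq] at e
      have e' : C'.τ (P.pt i k) = C'.τ (P.pt i' k') := by rw [← f4 i k hk, ← f4 i' k' hk', e.1, e.2]
      obtain ⟨r, -, er⟩ := C'.point _ _ (P.pt_iso hF i hk) (P.pt_iso hF i' hk') e'
      obtain ⟨rfl, rfl⟩ := P.pt_inj hF hk er
      rfl
    intro j l hl
    obtain ⟨⟨i, k, hk⟩, e⟩ := Finite.surjective_of_injective finj (j, ⟨l, hl⟩)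
    simp only [f, Prod.mk.injEq, Subtype.mk.injEq] at e
    exact ⟨i, k, hk, by rw [← f4 i k hk, e.1, e.2]⟩
  refine ⟨z, R, fun j l hl => ?_, fun u hu h1 h2 => ?_, fun c' hc' hdc' hxc' hall' => ?_⟩
  · obtain ⟨i, k, hk, e⟩ := hbij j l hl
    rw [e]
    exact hmem i k hk
  · obtain ⟨i, k, hk, e⟩ := hall _ h1 h2
    obtain ⟨r, -, er⟩ := C.point u (U i k) hu (hU i k hk) (e.symm.trans (hUτ i k hk).symm)
    rw [er, h_smul_left, hallz i k hk, mul_zero]
  · -- at most two far members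
    obtain ⟨b', hb', heb'⟩ := C'.surj c' (Polar.Ds_symm hc' hxc')
    have hperp : ∀ i k, k ≠ 0 → h (P.pt i k) b' = 0 := by
      intro i k hk
      obtain ⟨j, l, hl, e⟩ := hsurjR i k hk
      refine (C'.comm _ _ (P.pt_iso hF i hk) hb').mp ?_
      rw [heb', ← e]
      exact (hall' j l hl).2.2.symm
    have hw' := fun i => h_comm_zero hF (P.perp_w hF hperp i)
    have eb' := P.expand hF b'
    rw [hw' 0, hw' 1, hw' 2, zero_smul, zero_smul, zero_smul, add_zero, add_zero, add_zero] at eb'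
    have hb'a : h b' a ≠ 0 := fun e => hdc' (hea ▸ heb' ▸ ((C'.comm b' a hb' ha).mpr e).symm)
    by_cases hb'b : h b' b = 0
    · rw [hb'b, zero_smul, zero_add] at eb'
      have : c' = c := by rw [← heb', eb', C'.smul b hb _ hb'a, heb]
      rw [this]
    · have h0 := hb'.2
      conv at h0 => lhs; arg 4; rw [eb']
      rw [h_add_left, h_smul_left, h_smul_left, ← h_swap hF b' a, ← h_swap hF b' b] at h0
      rcases trace_zero hF (a := h b' b * frob hF (h b' a)) (by
        rw [map_mul, frob_frob hF]; linear_combination h0) with e' | e'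
      · exact absurd e' (mul_ne_zero hb'b ((map_ne_zero _).mpr hb'a))
      · have heq : h b' b = h b' a := by
          linear_combination (h b' a) * e' - (h b' b) * norm_fix hF hb'a
        have hthird : c' = d * c * d⁻¹ := by
          rw [inv_self hD.1 hd, ← hea, ← heb, C'.conj b a hb ha, ← heb', eb', heq, ← smul_add]
          have e2 : tr a b = a + b := by
            rw [tr, ← h_swap hF a b, hab, map_one, one_smul, add_comm]
          rw [← e2, C'.smul _ (tr_iso hF hb ha) _ hb'a]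
        rw [hthird]
        ext y
        refine ⟨fun hy => ⟨hy.1, ?_⟩, fun hy => ⟨hy.1, ?_⟩⟩
        · have h1 := (cj_Ds hD d c).symm.subset hy.2
          obtain ⟨y', hy', rfl⟩ := h1
          simp only at hy ⊢
          have : d * y' * d⁻¹ = y' := by
            have hd' : Commute d (d * y' * d⁻¹) := hy.1.2.2
            have := (commute_cj_iff d⁻¹).mpr hd'
            simp [mul_assoc] at this
            rw [this.eq, mul_inv_cancel_right]
          rwa [this]
        · exact (cj_Ds hD d c).subset ⟨y, hy.2, by show d * y * d⁻¹ = y; rw [hy.1.2.2.eq, mul_inv_cancel_right]⟩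

/-- **No step from dimension five.** -/
theorem five_false (hF : Fintype.card F = 2 ^ 2) (hP : Prim D) {d : G} (hd : d ∈ D) (C : UC (Ds D d) 5 F) :
    False := by
  have hD := hP.cls
  obtain ⟨c, hcD, hdc⟩ := exists_noncommute hD hP.prim.2.1 hd
  obtain ⟨x, hx⟩ := sc_nonempty hP hd hcD hdc
  obtain ⟨v, hv, rfl⟩ := C.surj x hx.1
  obtain ⟨z, R, hR, -, hstab⟩ := perp_set hF hP hd hcD hdc C hv hx
  -- the root element
  have hy : Iso (R.pt 0 1) := R.pt_iso hF 0 one_ne_zero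
  set y := R.pt 0 1 with hydef
  have hny : h (R.w 2) y = 0 := by simp [hydef, Frame.pt, h_add_right hF, h_smul_right hF, R.ww]
  have hs : h (R.w 2) (R.w 2) + om hF + frob hF (om hF) = 0 := by
    rw [R.ww, if_pos rfl, frob_om hF]
    linear_combination (1 + om hF) * two_zero hF
  set M : Cfsg.SU 5 F 2 := ru hF hy.2 hny hs
  have hM : ∀ u, mat M *ᵥ u = u + h u y • R.w 2 - h u (R.w 2) • y + (om hF * h u y) • y :=
    fun u => umat_mulVec _ _ _ u
  have hfix : ∀ u, h u y = 0 → h u (R.w 2) = 0 → mat M *ᵥ u = u := fun u h1 h2 => by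
    rw [hM, h1, h2, mul_zero, zero_smul, zero_smul, add_zero, sub_zero, add_zero]
  have hMv : mat M *ᵥ v = v := hfix v (h_comm_zero hF (R.pt_perp hF 0 1).1) (h_comm_zero hF (R.wa 2))
  have hMz : mat M *ᵥ z = z := hfix z (h_comm_zero hF (R.pt_perp hF 0 1).2) (h_comm_zero hF (R.wb 2))
  have hMy : mat M *ᵥ y = y := hfix y hy.2 (h_comm_zero hF hny)
  obtain ⟨k, hk, hkτ⟩ := exists_lift hD hF (by norm_num) C M
  have hkd : k * d * k⁻¹ = d := by rw [(closure_Ds_commute hk).eq, mul_inv_cancel_right]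
  have hkx : k * C.τ v * k⁻¹ = C.τ v := by rw [hkτ v hv, hMv]
  have hS' : Sc D d (k * c * k⁻¹) = Sc D d c := by
    refine hstab _ (cls_conj hD k hcD) (fun e => hdc ((commute_cj_iff k).mp (by rwa [hkd]))) ?_ ?_
    · rw [← cj_Ds hD]
      exact ⟨_, hx.2, hkx⟩
    · intro i l hl
      have hi := R.pt_iso hF i hl
      obtain ⟨e1, e2⟩ := R.pt_perp hF i l
      have hu' : Iso (mat M⁻¹ *ᵥ R.pt i l) := ⟨mat_ne_zero M⁻¹ hi.1, by rw [su_h]; exact hi.2⟩
      have hinv : ∀ u, mat M *ᵥ u = u → mat M⁻¹ *ᵥ u = u := fun u e => by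
        have e' := congrArg (mat M⁻¹ *ᵥ ·) e
        simp only [mat_inv_mulVec'] at e'
        exact e'.symm
      obtain ⟨j, l', r, hl', hr, er⟩ := R.cases hF hu'
        (by conv_lhs => arg 5; rw [← hinv v hMv]
            rw [su_h, e1])
        (by conv_lhs => arg 5; rw [← hinv z hMz]
            rw [su_h, e2])
      rw [← cj_Ds hD]
      refine ⟨C.τ (R.pt j l'), (hR j l' hl').1.2, ?_⟩
      show k * _ * k⁻¹ = _
      rw [← C.smul _ (R.pt_iso hF j hl') r hr, ← er, hkτ _ hu', mat_inv_mulVec]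
  have hSk : ∀ a ∈ Sc D d c, k * a * k⁻¹ ∈ Sc D d c := fun a ha => hS' ▸
    ⟨Ds_closed hD (closure_Ds_commute hk) ha.1, (cj_Ds hD k c).subset ⟨a, ha.2, rfl⟩⟩
  -- at the second member
  obtain ⟨zy, Q, hQ, hQz, -⟩ := perp_set hF hP hd hcD hdc C hy (hR 0 1 one_ne_zero).1
  have hky : k * C.τ y * k⁻¹ = C.τ y := by rw [hkτ y hy, hMy]
  have hperp : ∀ i l, l ≠ 0 → h (mat M *ᵥ Q.pt i l) zy = 0 := by
    intro i l hl
    have hi := Q.pt_iso hF i hl
    obtain ⟨h1, h2⟩ := hQ i l hl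
    refine hQz _ ⟨mat_ne_zero M hi.1, by rw [su_h]; exact hi.2⟩ ?_ ?_ <;> rw [← hkτ _ hi]
    · exact hSk _ h1
    · rw [← hky, ← cj_Ds hD]
      exact ⟨_, h2, rfl⟩
  set w' := mat M⁻¹ *ᵥ zy with hw'def
  have hw' : ∀ i, h (Q.w i) w' = 0 := Q.perp_w hF fun i l hl => by
    rw [← su_h M, hw'def, mat_inv_mulVec]
    exact hperp i l hl
  have e := congrArg (mat M *ᵥ ·) (Q.expand hF w')
  simp only [h_comm_zero hF (hw' _), zero_smul, add_zero] at e
  rw [hw'def, mat_inv_mulVec, mulVec_add, mulVec_smul, mulVec_smul, hMy] at e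
  generalize h (mat M⁻¹ *ᵥ zy) zy = α at e
  generalize h (mat M⁻¹ *ᵥ zy) y = β at e
  have hzy : h zy y = 1 := by rw [← h_swap hF y zy, Q.hab, map_one]
  have e1 := congrArg (fun u => h u y) e
  simp only [h_add_left, h_smul_left, hy.2, mul_zero, zero_add, hM, h_sub_left, hny, hzy, sub_zero, add_zero,
    mul_one] at e1
  subst e1
  have e2 := congrArg (fun u => h u (R.w 2)) e
  simp only [h_add_left, h_smul_left, hM, h_sub_left, h_comm_zero hF hny, hzy, R.ww, if_pos, mul_zero, zero_add,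
    sub_zero, add_zero, one_mul, mul_one] at e2
  exact one_ne_zero (by linear_combination -e2)

/-- **The step from dimension five.** -/
theorem step_unit_five : Step.{u} (.unit 5) := by
  intro G _ _ D hP d hd hc h5
  obtain ⟨-, F, _, _, _, hF, ⟨C⟩⟩ := UnitK.exists_uc h5
  obtain ⟨C'⟩ := local_uc hP hd hc C hF
  exact (five_false hF hP hd C').elim

end CfsgFischer
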