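/-
The common partners of a far pair in a class of unitary kind form the class of dimension two less.
-/
import Cfsg.Agent.Lib.Fischer.UnitModel
import Cfsg.Agent.Lib.Fischer.Iso
import Cfsg.Agent.Lib.Fischer.Local
import Cfsg.Agent.Lib.Fischer.LocalCoord

set_option autoImplicit false
set_option linter.unusedSectionVars false

namespace CfsgFischer.UnitK

open Matrix Cfsg CfsgLib CfsgLib.UnitaryTransvection CfsgLib.UnitarySimple CfsgThreeTrans CfsgThreeTrans.Polar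
open CfsgUniqueTT.Unitary (h_zero_left two_zero)

universe u

variable {F : Type} [Field F] [Fintype F] [DecidableEq F] {m : ℕ} (hF : Fintype.card F = 2 ^ 2)

/-- The vectors supported away from the first two coordinates. -/
def Φ (w : Fin m → F) : Fin (m + 2) → F := Fin.cons 0 (Fin.cons 0 w)

theorem h_cons (a b : F) (x y : Fin m → F) (c d : F) :
    hermForm (m + 2) F 2 (Fin.cons a (Fin.cons b x)) (Fin.cons c (Fin.cons d y)) =
      a * c ^ 2 + (b * d ^ 2 + hermForm m F 2 x y) := by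
  simp [hermForm, Fin.sum_univ_succ]

theorem cons_surj (x : Fin (m + 2) → F) : ∃ a b, ∃ w : Fin m → F, x = Fin.cons a (Fin.cons b w) :=
  ⟨x 0, Fin.tail x 0, Fin.tail (Fin.tail x), by rw [Fin.cons_self_tail, Fin.cons_self_tail]⟩

theorem h_Φ (x y : Fin m → F) : hermForm (m + 2) F 2 (Φ x) (Φ y) = hermForm m F 2 x y := by
  simp [Φ, h_cons]

theorem Φ_smul (k : F) (w : Fin m → F) : Φ (k • w) = k • Φ w := by
  funext i
  refine Fin.cases ?_ (fun j => ?_) i
  · simp [Φ]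
  · refine Fin.cases ?_ (fun l => ?_) j <;> simp [Φ]

theorem Φ_inj {w w' : Fin m → F} (e : Φ w = Φ w') : w = w' :=
  funext fun i => by simpa [Φ] using congrFun e i.succ.succ

theorem Φ_zero : Φ (0 : Fin m → F) = 0 := by
  simpa using Φ_smul (0 : F) (0 : Fin m → F)

theorem Φ_iso {w : Fin m → F} (hw : Iso w) : Iso (Φ w) :=
  ⟨fun e => hw.1 (Φ_inj (e.trans Φ_zero.symm)), by rw [h_Φ]; exact hw.2⟩

theorem Φ_tr (v w : Fin m → F) : Φ (tr v w) = tr (Φ v) (Φ w) := by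
  simp only [tr, h_Φ]
  funext i
  refine Fin.cases ?_ (fun j => ?_) i
  · simp [Φ]
  · refine Fin.cases ?_ (fun l => ?_) j <;> simp [Φ]

/-- The first vector of the standard far pair. -/
def pv : Fin (m + 2) → F := Fin.cons 1 (Fin.cons 1 0)

/-- The second vector of the standard far pair. -/
noncomputable def qv : Fin (m + 2) → F := Fin.cons 1 (Fin.cons (om hF) 0)

include hF

theorem pv_iso : Iso (pv : Fin (m + 2) → F) := by
  refine ⟨fun e => one_ne_zero (α := F) (by simpa [pv] using congrFun e 0), ?_⟩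
  rw [pv, h_cons, show hermForm m F 2 (0 : Fin m → F) 0 = 0 from h_zero_left hF 0]
  linear_combination two_zero hF

theorem qv_iso : Iso (qv hF : Fin (m + 2) → F) := by
  refine ⟨fun e => one_ne_zero (α := F) (by simpa [qv] using congrFun e 0), ?_⟩
  rw [qv, h_cons, show hermForm m F 2 (0 : Fin m → F) 0 = 0 from h_zero_left hF 0]
  have h1 := CfsgUniqueTT.Unitary.cube hF (om_ne_zero hF)
  linear_combination h1 + two_zero hF

theorem pq_far : hermForm (m + 2) F 2 (pv : Fin (m + 2) → F) (qv hF) ≠ 0 := by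
  rw [pv, qv, h_cons, show hermForm m F 2 (0 : Fin m → F) 0 = 0 from h_zero_left hF 0]
  intro e
  exact om_ne_zero hF (by linear_combination e - om_sq hF - two_zero hF)

theorem perp_pq {x : Fin (m + 2) → F} (h1 : hermForm (m + 2) F 2 x pv = 0)
    (h2 : hermForm (m + 2) F 2 x (qv hF) = 0) : ∃ w, x = Φ w := by
  obtain ⟨a, b, w, rfl⟩ := cons_surj x
  rw [pv, h_cons, show hermForm m F 2 w 0 = 0 by simp [hermForm]] at h1
  rw [qv, h_cons, show hermForm m F 2 w 0 = 0 by simp [hermForm]] at h2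
  have hb : b * om hF = 0 := by linear_combination h2 - h1 - b * om_sq hF
  have hb0 : b = 0 := (mul_eq_zero.mp hb).resolve_right (om_ne_zero hF)
  have ha0 : a = 0 := by linear_combination h1 - hb0
  exact ⟨w, by rw [Φ, ha0, hb0]⟩

theorem perp_Φ (w : Fin m → F) :
    hermForm (m + 2) F 2 (Φ w) pv = 0 ∧ hermForm (m + 2) F 2 (Φ w) (qv hF) = 0 := by
  rw [Φ, pv, qv, h_cons, h_cons]
  simp [hermForm]

variable {G : Type u} [Group G] [Finite G] {D : Set G}

/-- The standard pair. -/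
theorem pair_std (hm : 4 ≤ m) (hcls : IsThreeTranspositionClass D) (C : UC D (m + 2) F) :
    Sub (Pair D (C.τ pv) (C.τ (qv hF))) (fun k => k = .unit m) := by
  classical
  have hD := hcls.1
  have hp := pv_iso (m := m) hF
  have hq := qv_iso (m := m) hF
  have hfar : ¬ Commute (C.τ pv) (C.τ (qv hF)) := fun hc => pq_far hF ((C.comm _ _ hp hq).mp hc)
  set P := Pair D (C.τ pv) (C.τ (qv hF)) with hP
  have hmem : ∀ {w : Fin m → F}, Iso w → C.τ (Φ w) ∈ P := by
    intro w hw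
    obtain ⟨e1, e2⟩ := perp_Φ hF w
    refine ⟨⟨C.mem _ (Φ_iso hw), fun e => hfar ?_, ((C.comm _ _ (Φ_iso hw) hp).mpr e1).symm⟩,
      C.mem _ (Φ_iso hw), fun e => hfar ?_, ((C.comm _ _ (Φ_iso hw) hq).mpr e2).symm⟩
    · rw [← e]; exact (C.comm _ _ (Φ_iso hw) hq).mpr e2
    · rw [← e]; exact ((C.comm _ _ (Φ_iso hw) hp).mpr e1).symm
  have hsurj : ∀ a ∈ P, ∃ w : Fin m → F, Iso w ∧ C.τ (Φ w) = a := by
    intro a ha
    obtain ⟨x, hx, rfl⟩ := C.surj a ha.1.1
    obtain ⟨w, rfl⟩ := perp_pq hF ((C.comm _ _ hx hp).mp ha.1.2.2.symm) ((C.comm _ _ hx hq).mp ha.2.2.2.symm)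
    refine ⟨w, ⟨fun e => hx.1 ?_, by rw [← h_Φ]; exact hx.2⟩, rfl⟩
    rw [e, Φ_zero]
  have hclosed : ∀ g ∈ Subgroup.closure P, ∀ x ∈ P, g * x * g⁻¹ ∈ P := fun g hg x hx =>
    ⟨Ds_closed hcls (closure_Ds_commute (Subgroup.closure_mono Set.inter_subset_left hg)) hx.1,
      Ds_closed hcls (closure_Ds_commute (Subgroup.closure_mono Set.inter_subset_right hg)) hx.2⟩
  have hset : IsThreeTranspositionSet P :=
    ⟨fun x hx => hD.1 x hx.1.1, fun x hx y hy => hD.2 x hx.1.1 y hy.1.1⟩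
  set E : Set ↥(Subgroup.closure P) := {a | (a : G) ∈ P}
  obtain ⟨w₀, hw₀0, hw₀⟩ := UnitarySimple.exists_isotropic hF (n := m) (by omega)
  have hcP : IsThreeTranspositionClass E := by
    refine isClass_of_orbit hset rfl hclosed (hmem ⟨hw₀0, hw₀⟩) fun x hx => ?_
    obtain ⟨w, hw, rfl⟩ := hsurj x hx
    obtain ⟨z, hzz, hz1, hz2⟩ := avoid hF hw₀0 hw₀ hw.1
    have hz : Iso z := ⟨ne_zero_of_h hF hz1, hzz⟩
    have n1 : ¬ Commute (C.τ (Φ w₀)) (C.τ (Φ z)) := fun hc => hz1 (by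
      have := (C.comm _ _ (Φ_iso hz) (Φ_iso ⟨hw₀0, hw₀⟩)).mp hc.symm
      rwa [h_Φ] at this)
    have n2 : ¬ Commute (C.τ (Φ z)) (C.τ (Φ w)) := fun hc => hz2 (by
      have := (C.comm _ _ (Φ_iso hz) (Φ_iso hw)).mp hc
      rwa [h_Φ] at this)
    have m0 := hmem (w := w₀) ⟨hw₀0, hw₀⟩
    have mz := hmem hz
    refine ⟨(C.τ (Φ z) * C.τ (Φ w)) * (C.τ (Φ w₀) * C.τ (Φ z)),
      mul_mem (mul_mem (Subgroup.subset_closure mz) (Subgroup.subset_closure hx))
        (mul_mem (Subgroup.subset_closure m0) (Subgroup.subset_closure mz)), ?_⟩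
    rw [← cj_cj, cj_pair' hD m0.1.1 mz.1.1 n1, cj_pair' hD mz.1.1 hx.1.1 n2]
  -- from the projective group of dimension `m`
  obtain ⟨C₀⟩ := psu_uc hF hm
  obtain ⟨hPrim, -⟩ := psu_prim hF hm
  set T := (QuotientGroup.mk : Cfsg.SU m F 2 → Cfsg.PSU m F 2) '' TSU m F
  choose! ψ hψ hτψ using C₀.surj
  let f : Cfsg.PSU m F 2 → ↥(Subgroup.closure P) := fun t =>
    if ht : Iso (ψ t) then ⟨C.τ (Φ (ψ t)), Subgroup.subset_closure (hmem ht)⟩ else 1
  have hf : ∀ w, Iso w → (f (C₀.τ w) : G) = C.τ (Φ w) := by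
    intro w hw
    have h1 := hψ _ (C₀.mem w hw)
    have e : f (C₀.τ w) = ⟨C.τ (Φ (ψ (C₀.τ w))), Subgroup.subset_closure (hmem h1)⟩ := dif_pos h1
    rw [e]
    show C.τ _ = _
    obtain ⟨k, hk, hk'⟩ := C₀.point _ _ h1 hw (hτψ _ (C₀.mem w hw))
    rw [hk', Φ_smul, C.smul _ (Φ_iso hw) k hk]
  have hbij : Set.BijOn f T E := by
    refine ⟨fun t ht => ?_, fun t ht t' ht' e => ?_, fun a ha => ?_⟩
    · obtain ⟨w, hw, rfl⟩ := C₀.surj t ht
      show (f (C₀.τ w) : G) ∈ P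
      rw [hf w hw]; exact hmem hw
    · obtain ⟨w, hw, rfl⟩ := C₀.surj t ht
      obtain ⟨w', hw', rfl⟩ := C₀.surj t' ht'
      have e' := congrArg Subtype.val e
      rw [hf w hw, hf w' hw'] at e'
      obtain ⟨k, hk, hk'⟩ := C.point _ _ (Φ_iso hw) (Φ_iso hw') e'
      rw [← Φ_smul] at hk'
      rw [Φ_inj hk', C₀.smul _ hw' k hk]
    · obtain ⟨w, hw, he⟩ := hsurj a ha
      exact ⟨C₀.τ w, C₀.mem w hw, Subtype.ext ((hf w hw).trans he)⟩
  have hconj : ∀ a ∈ T, ∀ b ∈ T, f (a * b * a) = f a * f b * f a := by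
    intro a ha b hb
    obtain ⟨v, hv, rfl⟩ := C₀.surj a ha
    obtain ⟨w, hw, rfl⟩ := C₀.surj b hb
    refine Subtype.ext ?_
    rw [C₀.conj w v hw hv, hf _ (tr_iso hF hw hv), Subgroup.coe_mul, Subgroup.coe_mul, hf v hv, hf w hw,
      C.conj _ _ (Φ_iso hw) (Φ_iso hv), Φ_tr]
  obtain ⟨e, he⟩ := iso_quot_of_bij hPrim.cls hPrim.center hcP f hbij hconj
  haveI : Finite (Cfsg.PSU m F 2) := Finite.of_equiv _ e.symm.toEquiv
  refine ⟨hset, hclosed, prim_map e he hPrim, .unit m, rfl, hm, F, inferInstance, inferInstance,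
    hF.trans (by norm_num), e.symm, ?_⟩
  rw [show QD P = e '' T from he.symm, Set.image_image]
  simp only [MulEquiv.symm_apply_apply, Set.image_id']
  rfl

omit hF in
/-- **Far pairs in unitary kind.** -/
theorem unit_pair {G : Type u} [Group G] [Finite G] {D : Set G} {m : ℕ} (hm : 4 ≤ m) (hU : Has G D (.unit (m + 2)))
    {u v : G} (hu : u ∈ D) (hv : v ∈ D) (huv : ¬ Commute u v) : Sub (Pair D u v) (fun k => k = .unit m) := by
  obtain ⟨hP, F, _, _, _, hF, ⟨C⟩⟩ := exists_uc hU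
  have hcls := hP.cls
  have hp := C.mem _ (pv_iso (m := m) hF)
  have hq := C.mem _ (qv_iso (m := m) hF)
  have hfar : ¬ Commute (C.τ pv) (C.τ (qv hF)) := fun hc =>
    pq_far hF ((C.comm _ _ (pv_iso hF) (qv_iso hF)).mp hc)
  obtain ⟨g, rfl⟩ := cls_exists_conj hcls hp hu
  obtain ⟨k, hk, hkv⟩ := rank_three_far hcls hP.prim hP.pair hu _ (cls_conj hcls g hq)
    (fun hc => hfar ((commute_cj_iff g).mp hc)) v hv huv
  have h := (pair_std hF hm hcls C).cj (k * g)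
  convert h using 1
  rw [Pair, Pair, Set.image_inter (cj_injective _), cj_Ds hcls, cj_Ds hcls, ← hkv, ← cj_cj, ← cj_cj,
    show k * (g * C.τ pv * g⁻¹) * k⁻¹ = g * C.τ pv * g⁻¹ by rw [hk.eq, mul_inv_cancel_right]]

end CfsgFischer.UnitK
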