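/-
The step from the unitary group in dimension six: the group has type M(22).
-/
import Cfsg.Agent.Lib.Fischer.SubDescend
import Cfsg.Agent.Lib.Fischer.UnitPair
import Cfsg.Agent.Lib.Fischer.RefCount
import Cfsg.Agent.Lib.Fischer.Models
import Cfsg.Agent.Lib.Fischer.StepRefl
import Cfsg.Agent.Lib.ThreeTrans.M22.Main
import Cfsg.Agent.Lib.ThreeTrans.M22.Params

set_option autoImplicit false
set_option linter.unusedSectionVars false

namespace CfsgFischer

open Cfsg CfsgLib CfsgThreeTrans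
open CfsgThreeTrans.Polar (Iso)

universe u

variable {G : Type u} [Group G] [Finite G]

/-- The group of a smaller set modulo its centre has order dividing that of a larger one. -/
theorem card_qg_dvd {X S : Set G} (h : X ⊆ S) : Nat.card (QG X) ∣ Nat.card (QG S) := by
  set ι := Subgroup.inclusion (Subgroup.closure_mono h)
  let ψ : ↥(Subgroup.closure X) →* QG S := (QuotientGroup.mk' _).comp ι
  have hker : ψ.ker ≤ Subgroup.center ↥(Subgroup.closure X) := fun a ha => by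
    have h1 : ι a ∈ Subgroup.center ↥(Subgroup.closure S) :=
      (QuotientGroup.eq_one_iff _).mp (MonoidHom.mem_ker.mp ha)
    refine Subgroup.mem_center_iff.mpr fun b => Subgroup.inclusion_injective (Subgroup.closure_mono h) ?_
    rw [map_mul, map_mul]
    exact Subgroup.mem_center_iff.mp h1 (ι b)
  refine dvd_trans ?_ (Subgroup.card_subgroup_dvd_card ψ.range)
  rw [← Subgroup.index_ker, ← Subgroup.index_eq_card]
  exact Subgroup.index_dvd_of_le hker

/-- The kinds following the unitary group in dimension four. -/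
abbrev KRefl6 (k : Kind) : Prop := ∃ c : ZMod 3, c ≠ 0 ∧ k = .refl 6 1 c

/-- Four steps to reflections in dimension six. -/
theorem step_four (X : Type u) [Group X] [Finite X] (E : Set X) (hE : Prim E) (e : X) (he : e ∈ E)
    (hc : CoresCentral E e) (h : Has (QG (Ds E e)) (QD (Ds E e)) (.unit 4)) : ∃ k, KRefl6 k ∧ Has X E k := by
  obtain ⟨c, hc0, h5⟩ := Models.unitFour _ _ h
  obtain ⟨k, hk, hh⟩ := step_refl 5 (-c) c X E hE e he hc h5
  refine ⟨k, ⟨c, hc0, ?_⟩, hh⟩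
  rw [show k = .refl (5 + 1) (- -c * c) c from hk, neg_neg,
    (by decide : ∀ c : ZMod 3, c ≠ 0 → c * c = 1) c hc0]

variable {D : Set G}

/-- A component of the common partners in the case of dimension six. -/
theorem six_component (hP : Prim D) {d : G} (hd : d ∈ D) (hc : CoresCentral D d)
    (h6 : Has (QG (Ds D d)) (QD (Ds D d)) (.unit 6)) {c : G} (hcD : c ∈ D) (hdc : ¬ Commute d c) :
    ∃ X ⊆ Sc D d c, Sub X KRefl6 := by
  obtain ⟨x₀, hx₀⟩ := sc_nonempty hP hd hcD hdc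
  obtain ⟨X, hXS, -, hX⟩ := descend (K := fun k => k = .unit 4) (K' := KRefl6) hP hd hc (fun u hu v hv huv => UnitK.unit_pair le_rfl h6 hu hv huv)
    (fun X _ _ E hE e he hce hk => by
      obtain ⟨k, rfl, hk⟩ := hk
      exact step_four X E hE e he hce hk) hcD hdc hx₀
  exact ⟨X, hXS, hX⟩

/-- The data of type M(22) at `d`. -/
theorem six_data (hP : Prim D) {d : G} (hd : d ∈ D) (hc : CoresCentral D d)
    (h6 : Has (QG (Ds D d)) (QD (Ds D d)) (.unit 6)) {c : G} (hcD : c ∈ D) (hdc : ¬ Commute d c) :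
    ∃ (F : Type) (_ : Field F) (_ : Fintype F) (_ : DecidableEq F) (hF : Fintype.card F = 2 ^ 2),
      Nonempty (M22.Data D F hF) := by
  classical
  obtain ⟨X, hXS, hX⟩ := six_component hP hd hc h6 hcD hdc
  obtain ⟨k, ⟨c₃, hc₃, rfl⟩, hr⟩ := hX.has
  obtain ⟨-, Q, hQn, hQ, -, eL, -⟩ := hr
  obtain ⟨-, F, iF, iFt, hcard, e, he⟩ := h6
  have hF : Fintype.card F = 2 ^ 2 := hcard.trans (by norm_num)
  have h7 : 7 ∣ Nat.card (QG (Ds D d ∩ Ds D c)) :=
    dvd_trans (by rw [Nat.card_congr eL.toEquiv]; exact M22.exists_seven Q hQ c₃ hc₃) (card_qg_dvd hXS)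
  let φ : ↥(Subgroup.closure (Ds D d)) →* Cfsg.PSU 6 F 2 :=
    e.toMonoidHom.comp (QuotientGroup.mk' (Subgroup.center ↥(Subgroup.closure (Ds D d))))
  have hφ : ∀ y : ↥(Subgroup.closure (Ds D d)), φ y = e (lbar D d y) := fun y => by rw [lbar_eq]; rfl
  have htu : ∀ u : Fin 6 → F, u ≠ 0 → Cfsg.hermForm 6 F 2 u u = 0 →
      CfsgUniqueTT.Unitary.tu hF u = M22.tu hF u := fun u _ hu => UnitarySimple.su_ext fun x => by
    rw [CfsgUniqueTT.Unitary.tu_mulVec hF hu, M22.tu_mulVec hF hu]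
  refine ⟨F, iF, iFt, inferInstance, hF, ⟨⟨d, c, hd, hcD, hdc, φ, ?_,
    e.surjective.comp (QuotientGroup.mk'_surjective _), h7, ?_, ?_, ?_, ?_⟩⟩⟩
  · ext x
    simp [φ, MonoidHom.mem_ker, QuotientGroup.eq_one_iff]
  · intro y hy y' hy' my my' hcm
    rw [hφ, hφ] at hcm
    exact (lbar_commute hP hd hc hy hy').mp (by simpa using hcm.map e.symm)
  · intro y hy y' hy' my my' heq
    rw [hφ, hφ] at heq
    exact lbar_inj hP hd hc hy hy' (e.injective heq)
  · intro y hy my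
    have hm : e (lbar D d y) ∈ (QuotientGroup.mk : Cfsg.SU 6 F 2 → Cfsg.PSU 6 F 2) '' UnitK.TSU 6 F :=
      he.subset ⟨_, (lbar_image (D := D) (d := d)).subset ⟨y, hy, rfl⟩, rfl⟩
    obtain ⟨g, hg, hge⟩ := hm
    obtain ⟨u, hu, rfl⟩ := UnitK.tsu_surj hF hg
    exact ⟨u, hu.1, hu.2, by rw [hφ, ← htu u hu.1 hu.2]; exact hge.symm⟩
  · intro u h0 h1
    have hm : (QuotientGroup.mk (CfsgUniqueTT.Unitary.tu hF u) : Cfsg.PSU 6 F 2) ∈ e '' QD (Ds D d) :=
      he.symm.subset ⟨_, UnitK.tu_tsu hF (show Iso u from ⟨h0, h1⟩), rfl⟩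
    obtain ⟨q, hq, hqe⟩ := hm
    obtain ⟨y, hy, rfl⟩ := hq
    exact ⟨y, y.2, hy, by rw [← htu u h0 h1, ← hqe]; rfl⟩

/-- **The step from dimension six.** -/
theorem step_unit_six : Step.{u} (.unit 6) := by
  intro G _ _ D hP d hd hc h6
  have hD := hP.cls
  have main : ∀ c ∈ D, ¬ Commute d c → Sub (Sc D d c) KRefl6 := by
    intro c hcD hdc
    obtain ⟨F, _, _, _, hF, ⟨A⟩⟩ := six_data hP hd hc h6 hcD hdc
    obtain ⟨X, hXS, hX⟩ := six_component hP hd hc h6 hcD hdc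
    obtain ⟨k, ⟨c₃, -, rfl⟩, hr⟩ := hX.has
    refine whole hX hXS ?_
    rw [Refl.refl_six hr]
    exact ((M22.params hD hP.prim A).2 d hd c hcD hdc).le
  refine ⟨.m22, Or.inr ⟨rfl, rfl⟩, ?_, fun a ha b hb hab => ?_⟩
  · obtain ⟨c, hcD, hdc⟩ := exists_noncommute hD hP.prim.2.1 hd
    obtain ⟨k, ⟨c₃, hc₃, rfl⟩, -, Q, hQn, hQ, -, eL, -⟩ := (main c hcD hdc).has
    obtain ⟨-, F, iF, iFt, hcard, e, -⟩ := h6
    exact ⟨hP.center, d, hd, c, hcD, hdc, ⟨F, iF, iFt, hcard, ⟨e⟩⟩, c₃, hc₃, Q, hQn, hQ, ⟨eL⟩⟩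
  · obtain ⟨g, rfl⟩ := cls_exists_conj hD hd ha
    obtain ⟨b, rfl⟩ : ∃ b', g * b' * g⁻¹ = b := ⟨g⁻¹ * b * g⁻¹⁻¹, cj_inv g b⟩
    rw [commute_cj_iff] at hab
    have h := (main b (by
      have := cls_conj hD g⁻¹ hb
      rwa [show g⁻¹ * (g * b * g⁻¹) * g⁻¹⁻¹ = b by group] at this) hab).cj g
    rw [Sc, Set.image_inter (cj_injective g), cj_Ds hD, cj_Ds hD] at h
    obtain ⟨k, ⟨c₃, hc₃, rfl⟩, -, hr⟩ := h.has
    exact ⟨c₃, hc₃, hr⟩

end CfsgFischer
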