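/-
No step from the unitary groups in dimension at least seven, given the steps in smaller dimensions.
-/
import Cfsg.Agent.Lib.Fischer.StepUnitSix
import Cfsg.Agent.Lib.ThreeTrans.M22.Quasi
import Cfsg.Agent.Lib.UnitaryOrder

set_option autoImplicit false
set_option linter.unusedSectionVars false

namespace CfsgFischer

open Cfsg CfsgLib CfsgThreeTrans

universe u

/-- Thirteen does not divide the order of the unitary group in dimension eight. -/
theorem thirteen_psu8 {F : Type} [Field F] [Fintype F] (hF : Fintype.card F = 2 ^ 2) :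
    ¬ 13 ∣ Nat.card (Cfsg.PSU 8 F 2) := by
  classical
  intro h
  have h1 : 13 ∣ Nat.card (Cfsg.GU 8 F 2) := by
    rw [UnitaryOrder.card_GU_eq hF (by norm_num)]
    exact dvd_mul_of_dvd_right (h.trans (Subgroup.card_quotient_dvd_card _)) _
  rw [UnitaryOrder.card_GU hF 8] at h1
  norm_num [Finset.prod_range_succ, Nat.even_iff] at h1

/-- Thirteen divides the order of a group of type M(22). -/
theorem thirteen_m22 {G : Type u} [Group G] [Finite G] {D : Set G} (hP : Prim D) (h22 : Cfsg.IsOfTypeM22 G D) :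
    13 ∣ Nat.card G := by
  obtain ⟨t, ht, -, -, F, _, _, _, hF, ⟨A⟩⟩ := M22.exists_full (cls_group hP.cls) hP.prim h22
  rw [M22.card_group hP.cls hP.prim (local_of_M22 h22) hP.center A, M22.card_psu_eq hF]
  norm_num

/-- **Dimension at least seven.** -/
theorem step_unit_high (n : ℕ) (hn : 7 ≤ n) (ih : Step.{u} (.unit (n - 2))) : Step.{u} (.unit n) := by
  intro G _ _ D hP d hd hc h
  exfalso
  obtain ⟨m, rfl⟩ : ∃ m, n = m + 2 := ⟨n - 2, by omega⟩
  rw [show m + 2 - 2 = m by omega] at ih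
  obtain ⟨c, hcD, hdc⟩ := exists_noncommute hP.cls hP.prim.2.1 hd
  obtain ⟨x₀, hx₀⟩ := sc_nonempty hP hd hcD hdc
  obtain ⟨X, hXS, -, hX⟩ := descend (K := fun k => k = .unit m) (K' := fun k => m = 6 ∧ k = .m22) hP hd hc
    (fun u hu v hv huv => UnitK.unit_pair (by omega) h hu hv huv)
    (fun X _ _ E hE e he hce hk => by
      obtain ⟨k, rfl, hk⟩ := hk
      obtain ⟨k', hk', hh⟩ := ih X E hE e he hce hk
      rcases hk' with ⟨h4, -⟩ | ⟨h6, rfl⟩
      · omega
      · exact ⟨_, ⟨h6, rfl⟩, hh⟩) hcD hdc hx₀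
  obtain ⟨k, ⟨rfl, rfl⟩, hk⟩ := hX.has
  obtain ⟨-, F, iF, iFt, hcard, e, -⟩ := h
  have h13 := (thirteen_m22 hX.prim hk.1).trans (card_qg_dvd (hXS.trans Set.inter_subset_left))
  rw [Nat.card_congr e.toEquiv] at h13
  exact thirteen_psu8 (F := F) (hcard.trans (by norm_num)) h13

/-- **The step from dimension four.** -/
theorem step_unit_four : Step.{u} (.unit 4) := by
  intro G _ _ D hP d hd hc h
  obtain ⟨k, ⟨c, hc0, rfl⟩, hh⟩ := step_four G D hP d hd hc h
  exact ⟨_, Or.inl ⟨rfl, c, hc0, rfl⟩, hh⟩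

end CfsgFischer
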