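/-
The step from the unitary groups over four elements, in every dimension.
-/
import Cfsg.Agent.Lib.Fischer.StepUnitHigh
import Cfsg.Agent.Lib.Fischer.StepUnitFive

set_option autoImplicit false

namespace CfsgFischer

universe u

/-- **The step from the unitary groups.** -/
theorem step_unit : ∀ n, Step.{u} (.unit n) := by
  intro n
  induction n using Nat.strong_induction_on with
  | _ n ih =>
    obtain h | rfl | rfl | rfl | h : n < 4 ∨ n = 4 ∨ n = 5 ∨ n = 6 ∨ 7 ≤ n := by omega
    · intro G _ _ D _ d _ _ hh
      exact absurd hh.1 (by omega)
    · exact step_unit_four
    · exact step_unit_five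
    · exact step_unit_six
    · exact step_unit_high n h (ih _ (by omega))

end CfsgFischer
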