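/-
The induction steps of Fischer's theorem, all of them.
-/
import Cfsg.Agent.Lib.Fischer.Assembly
import Cfsg.Agent.Lib.Fischer.StepUnit

set_option autoImplicit false

namespace CfsgFischer

universe u

/-- All steps. -/
theorem steps : Steps.{u} := steps_of step_unit

end CfsgFischer
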